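import Groth.Prelude.Def_CAlgX
import Mathlib

/-!
# Adic formal smoothness and completion
-/

universe u

namespace Groth.Agent.CAlgH39.AdicFSCompl

variable {S : Type u} [CommRing S] (I : Ideal S)

theorem mem_map_pow_iff (hI : I.FG) (y : AdicCompletion I S) (n : ℕ) :
    y ∈ (I.map (algebraMap S (AdicCompletion I S))) ^ n ↔ AdicCompletion.evalₐ I n y = 0 := by
  rw [← Ideal.map_pow]
  constructor
  · intro hy
    have : (I ^ n).map (algebraMap S (AdicCompletion I S)) ≤ RingHom.ker (AdicCompletion.evalₐ I n) := by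
      rw [Ideal.map_le_iff_le_comap]
      intro a ha
      show AdicCompletion.evalₐ I n (algebraMap S _ a) = 0
      rw [AlgHom.commutes]
      exact Ideal.Quotient.eq_zero_iff_mem.2 ha
    exact this hy
  · intro hy
    have h2 : y ∈ LinearMap.ker (AdicCompletion.eval I S n) := by
      have h : (I ^ n • ⊤ : Ideal S) = I ^ n := by simp
      show AdicCompletion.eval I S n y = 0
      rw [← AdicCompletion.factor_evalₐ_eq_eval I y h.ge, hy, map_zero]
    rw [← AdicCompletion.pow_smul_top_eq_ker_eval hI, Ideal.smul_top_eq_map] at h2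
    exact h2

theorem exists_approx (hI : I.FG) (y : AdicCompletion I S) (n : ℕ) :
    ∃ s : S, y - algebraMap S (AdicCompletion I S) s ∈ (I.map (algebraMap S (AdicCompletion I S))) ^ n := by
  obtain ⟨s, hs⟩ := Ideal.Quotient.mk_surjective (AdicCompletion.evalₐ I n y)
  refine ⟨s, (mem_map_pow_iff I hI _ n).2 ?_⟩
  rw [map_sub, AlgHom.commutes, ← hs]
  exact sub_self _

variable {I}

/-- Ring maps out of the completion which kill a power of the ideal agree if they agree on `S`. -/
theorem eq_of_eqOn (hI : I.FG) {A : Type u} [CommRing A] (f g : AdicCompletion I S →+* A) (n : ℕ)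
    (hf : ∀ x ∈ (I.map (algebraMap S (AdicCompletion I S))) ^ n, f x = 0)
    (hg : ∀ x ∈ (I.map (algebraMap S (AdicCompletion I S))) ^ n, g x = 0)
    (h : ∀ s, f (algebraMap S _ s) = g (algebraMap S _ s)) : f = g := by
  ext y
  obtain ⟨s, hs⟩ := exists_approx I hI y n
  have h1 := hf _ hs
  have h2 := hg _ hs
  rw [map_sub, sub_eq_zero] at h1 h2
  rw [h1, h2, h s]

theorem exists_extend (hI : I.FG) {R A : Type u} [CommRing R] [CommRing A] [Algebra R A] [Algebra R S]
    (ψ : S →ₐ[R] A) (k : ℕ) (hψ : ∀ x ∈ I ^ k, ψ x = 0) :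
    ∃ φ : AdicCompletion I S →ₐ[R] A, (∀ x ∈ (I.map (algebraMap S (AdicCompletion I S))) ^ k, φ x = 0) ∧
      ∀ s, φ (algebraMap S _ s) = ψ s := by
  have : IsScalarTower R S (AdicCompletion I S) :=
    IsScalarTower.of_algebraMap_eq fun r => by
      rw [AdicCompletion.algebraMap_apply, AdicCompletion.algebraMap_apply, Algebra.algebraMap_self,
        RingHom.id_apply]
  refine ⟨(Ideal.Quotient.liftₐ (I ^ k) ψ hψ).comp ((AdicCompletion.evalₐ I k).restrictScalars R),
    fun x hx => ?_, fun s => ?_⟩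
  · show Ideal.Quotient.liftₐ (I ^ k) ψ hψ (AdicCompletion.evalₐ I k x) = 0
    rw [(mem_map_pow_iff I hI x k).1 hx, map_zero]
  · show Ideal.Quotient.liftₐ (I ^ k) ψ hψ (AdicCompletion.evalₐ I k (algebraMap S _ s)) = ψ s
    rw [AlgHom.commutes]
    rfl

theorem iff_completion {R : Type u} [CommRing R] [Algebra R S] (hI : I.FG) :
    CAlgX.IsAdicFormallySmooth R S I ↔
      CAlgX.IsAdicFormallySmooth R (AdicCompletion I S) (I.map (algebraMap S (AdicCompletion I S))) := by
  have : IsScalarTower R S (AdicCompletion I S) :=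
    IsScalarTower.of_algebraMap_eq fun r => by
      rw [AdicCompletion.algebraMap_apply, AdicCompletion.algebraMap_apply, Algebra.algebraMap_self,
        RingHom.id_apply]
  let ι : S →ₐ[R] AdicCompletion I S := IsScalarTower.toAlgHom R S (AdicCompletion I S)
  have hι : ∀ k, ∀ x ∈ I ^ k, algebraMap S (AdicCompletion I S) x ∈
      (I.map (algebraMap S (AdicCompletion I S))) ^ k := fun k x hx => by
    rw [← Ideal.map_pow]; exact Ideal.mem_map_of_mem _ hx
  constructor
  · intro hfs A _ _ J hJ ψ ⟨k, hk⟩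
    obtain ⟨χ, hχ⟩ := hfs A J hJ (ψ.comp ι) ⟨k, fun x hx => hk _ (hι k x hx)⟩
    have hkill : ∀ x ∈ I ^ (k * 2), χ x = 0 := fun x hx => by
      rw [pow_mul] at hx
      have h1 : I ^ k ≤ J.comap χ := fun y hy => by
        rw [Ideal.mem_comap, ← Ideal.Quotient.eq_zero_iff_mem]
        exact (DFunLike.congr_fun hχ y).trans (hk _ (hι k y hy))
      have h2 : χ x ∈ J ^ 2 := (Ideal.pow_right_mono h1 2).trans (Ideal.le_comap_pow _ 2) hx
      rw [hJ] at h2
      exact h2
    obtain ⟨φ, hφ0, hφ⟩ := exists_extend hI χ (k * 2) hkill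
    refine ⟨φ, AlgHom.coe_ringHom_injective (eq_of_eqOn hI _ _ (k * 2) (fun x hx => ?_) (fun x hx => ?_) fun s => ?_)⟩
    · show Ideal.Quotient.mk J (φ x) = 0
      rw [hφ0 x hx, map_zero]
    · exact hk x (Ideal.pow_le_pow_right (by omega) hx)
    · show Ideal.Quotient.mk J (φ (algebraMap S _ s)) = ψ (algebraMap S _ s)
      rw [hφ]
      exact DFunLike.congr_fun hχ s
  · intro hfs A _ _ J hJ ψ ⟨k, hk⟩
    obtain ⟨φ, hφ0, hφ⟩ := exists_extend hI ψ k hk
    obtain ⟨χ, hχ⟩ := hfs A J hJ φ ⟨k, hφ0⟩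
    refine ⟨χ.comp ι, AlgHom.ext fun s => ?_⟩
    exact (DFunLike.congr_fun hχ (algebraMap S _ s)).trans (hφ s)

theorem iff_completion_map {R : Type u} [CommRing R] [Algebra R S] (𝔪 : Ideal R) (h𝔪 : 𝔪.FG) (hI : I.FG)
    (hc : ∃ c : ℕ, (𝔪 ^ c).map (algebraMap R S) ≤ I)
    (ψ : AdicCompletion 𝔪 R →+* AdicCompletion I S)
    (hψ : ψ.comp (algebraMap R (AdicCompletion 𝔪 R)) =
      (algebraMap S (AdicCompletion I S)).comp (algebraMap R S)) :
    CAlgX.IsAdicFormallySmooth R S I ↔
      letI : Algebra (AdicCompletion 𝔪 R) (AdicCompletion I S) := ψ.toAlgebra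
      CAlgX.IsAdicFormallySmooth (AdicCompletion 𝔪 R) (AdicCompletion I S)
        (I.map (algebraMap S (AdicCompletion I S))) := by
  obtain ⟨c, hc⟩ := hc
  rw [iff_completion hI]
  let : Algebra (AdicCompletion 𝔪 R) (AdicCompletion I S) := ψ.toAlgebra
  have : IsScalarTower R (AdicCompletion 𝔪 R) (AdicCompletion I S) :=
    IsScalarTower.of_algebraMap_eq fun r => by
      rw [RingHom.algebraMap_toAlgebra, ← RingHom.comp_apply, hψ, RingHom.comp_apply,
        AdicCompletion.algebraMap_apply, AdicCompletion.algebraMap_apply, Algebra.algebraMap_self,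
        RingHom.id_apply]
  set n := I.map (algebraMap S (AdicCompletion I S))
  set M := 𝔪.map (algebraMap R (AdicCompletion 𝔪 R))
  have hψn : ∀ k, M ^ (c * k) ≤ (n ^ k).comap ψ := fun k => by
    rw [pow_mul]
    refine (Ideal.pow_right_mono ?_ k).trans (Ideal.le_comap_pow ψ k)
    rw [← Ideal.map_pow, Ideal.map_le_iff_le_comap]
    intro r hr
    show ψ (algebraMap R _ r) ∈ n
    rw [← RingHom.comp_apply, hψ]
    exact Ideal.mem_map_of_mem _ (hc (Ideal.mem_map_of_mem _ hr))
  constructor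
  · intro hfs A _ _ J hJ φ ⟨k, hk⟩
    let : Algebra R A := ((algebraMap (AdicCompletion 𝔪 R) A).comp (algebraMap R _)).toAlgebra
    have : IsScalarTower R (AdicCompletion 𝔪 R) A := IsScalarTower.of_algebraMap_eq fun _ => rfl
    obtain ⟨χ, hχ⟩ := hfs A J hJ (φ.restrictScalars R) ⟨k, hk⟩
    have hJk : n ^ k ≤ J.comap χ := fun y hy => by
      rw [Ideal.mem_comap, ← Ideal.Quotient.eq_zero_iff_mem]
      exact (DFunLike.congr_fun hχ y).trans (hk y hy)
    have hkill : ∀ x ∈ n ^ (k * 2), χ x = 0 := fun x hx => by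
      rw [pow_mul] at hx
      have h2 : χ x ∈ J ^ 2 := (Ideal.pow_right_mono hJk 2).trans (Ideal.le_comap_pow _ 2) hx
      rw [hJ] at h2
      exact h2
    have hlin : (χ : AdicCompletion I S →+* A).comp ψ = algebraMap (AdicCompletion 𝔪 R) A := by
      refine eq_of_eqOn h𝔪 _ _ (c * k * 2) (fun x hx => ?_) (fun x hx => ?_) fun r => ?_
      · rw [mul_assoc] at hx
        exact hkill _ (hψn (k * 2) hx)
      · have h1 : M ^ (c * k) ≤ J.comap (algebraMap (AdicCompletion 𝔪 R) A) := fun y hy => by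
          rw [Ideal.mem_comap, ← Ideal.Quotient.eq_zero_iff_mem]
          exact (φ.commutes y).symm.trans (hk _ (hψn k hy))
        rw [pow_mul] at hx
        have h2 := (Ideal.pow_right_mono h1 2).trans (Ideal.le_comap_pow _ 2) hx
        rw [hJ] at h2
        exact h2
      · show χ (ψ (algebraMap R _ r)) = algebraMap _ A (algebraMap R _ r)
        exact ((congrArg χ (IsScalarTower.algebraMap_apply R (AdicCompletion 𝔪 R) (AdicCompletion I S) r)).symm.trans
          (χ.commutes r))
    refine ⟨{ χ.toRingHom with commutes' := fun z => RingHom.congr_fun hlin z }, AlgHom.ext fun y => ?_⟩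
    exact DFunLike.congr_fun hχ y
  · intro hfs A _ _ J hJ φ ⟨k, hk⟩
    have hkm : ∀ r ∈ 𝔪 ^ (c * k * 2), Algebra.ofId R A r = 0 := fun r hr => by
      have h1 : 𝔪 ^ (c * k) ≤ J.comap (algebraMap R A) := fun y hy => by
        rw [Ideal.mem_comap, ← Ideal.Quotient.eq_zero_iff_mem]
        refine (φ.commutes y).symm.trans (hk _ ?_)
        rw [IsScalarTower.algebraMap_apply R (AdicCompletion 𝔪 R) (AdicCompletion I S), RingHom.algebraMap_toAlgebra]
        refine hψn k ?_
        rw [← Ideal.map_pow]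
        exact Ideal.mem_map_of_mem _ hy
      rw [pow_mul] at hr
      have h2 := (Ideal.pow_right_mono h1 2).trans (Ideal.le_comap_pow _ 2) hr
      rw [hJ] at h2
      exact h2
    obtain ⟨a, ha0, ha⟩ := exists_extend h𝔪 (Algebra.ofId R A) (c * k * 2) hkm
    let : Algebra (AdicCompletion 𝔪 R) A := a.toRingHom.toAlgebra
    have : IsScalarTower R (AdicCompletion 𝔪 R) A := IsScalarTower.of_algebraMap_eq fun r => (ha r).symm
    have hφlin : (φ : AdicCompletion I S →+* A ⧸ J).comp ψ = (Ideal.Quotient.mk J).comp a.toRingHom := by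
      refine eq_of_eqOn h𝔪 _ _ (c * k * 2) (fun x hx => ?_) (fun x hx => ?_) fun r => ?_
      · rw [mul_assoc] at hx
        exact hk _ (Ideal.pow_le_pow_right (by omega) (hψn (k * 2) hx))
      · show Ideal.Quotient.mk J (a x) = 0
        rw [ha0 x hx, map_zero]
      · show φ (ψ (algebraMap R _ r)) = Ideal.Quotient.mk J (a (algebraMap R _ r))
        rw [ha]
        exact (congrArg φ (IsScalarTower.algebraMap_apply R (AdicCompletion 𝔪 R) (AdicCompletion I S) r)).symm.trans
          (φ.commutes r)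
    obtain ⟨χ, hχ⟩ := hfs A J hJ { φ.toRingHom with commutes' := fun z => RingHom.congr_fun hφlin z } ⟨k, hk⟩
    exact ⟨χ.restrictScalars R, AlgHom.ext fun y => DFunLike.congr_fun hχ y⟩

end Groth.Agent.CAlgH39.AdicFSCompl
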