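import Groth.Agent.CAlgH39.NormVal
import Groth.Agent.Hensel.IntegralStrict
import Groth.Agent.Hensel.Local
import Mathlib

/-!
# Lifts of residues algebraic over a perfect coefficient field
-/

universe u

open Polynomial

namespace Groth.Agent.CAlgH39.AlgLift

theorem existsUnique_lift (K A B : Type u) [Field K]
    [PerfectField K] [CommRing A] [IsLocalRing A] [Algebra K A]
    (hK : Function.Bijective ((IsLocalRing.residue A).comp (algebraMap K A)))
    [CommRing B] [IsDomain B] [HenselianLocalRing B] [Algebra A B] [Algebra.IsIntegral A B]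
    [Algebra K B] [IsScalarTower K A B]
    (M : Ideal B) [M.IsMaximal] (b : B) : ∃! c : B, IsAlgebraic K c ∧ b - c ∈ M := by
  have hM : M = IsLocalRing.maximalIdeal B := IsLocalRing.eq_maximalIdeal inferInstance
  letI : Field (B ⧸ M) := Ideal.Quotient.field M
  let σ : K ≃+* IsLocalRing.ResidueField A := RingEquiv.ofBijective _ hK
  let τ : A →+* K := σ.symm.toRingHom.comp (IsLocalRing.residue A)
  have hAM : ∀ a : A, algebraMap K (B ⧸ M) (τ a) = algebraMap A (B ⧸ M) a := by
    intro a
    rw [IsScalarTower.algebraMap_apply K A (B ⧸ M), ← sub_eq_zero, ← map_sub,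
      IsScalarTower.algebraMap_apply A B (B ⧸ M), Ideal.Quotient.algebraMap_eq, Ideal.Quotient.eq_zero_iff_mem]
    have hmem : algebraMap K A (τ a) - a ∈ IsLocalRing.maximalIdeal A := by
      rw [← IsLocalRing.residue_eq_zero_iff, map_sub, sub_eq_zero]
      exact σ.apply_symm_apply (IsLocalRing.residue A a)
    have hmax : (M.comap (algebraMap A B)).IsMaximal := Ideal.isMaximal_comap_of_isIntegral_of_isMaximal M
    exact (IsLocalRing.eq_maximalIdeal hmax).ge hmem
  let y : B ⧸ M := Ideal.Quotient.mk M b
  have hyK : IsIntegral K y := by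
    obtain ⟨f, hfm, hf⟩ : IsIntegral A y :=
      (Algebra.IsIntegral.isIntegral (R := A) b).map (IsScalarTower.toAlgHom A B (B ⧸ M))
    refine ⟨f.map τ, hfm.map τ, ?_⟩
    rw [eval₂_map, show (algebraMap K (B ⧸ M)).comp τ = algebraMap A (B ⧸ M) from RingHom.ext hAM]
    exact hf
  set f := minpoly K y
  have hsep : f.Separable := PerfectField.separable_of_irreducible (minpoly.irreducible hyK)
  let g : B[X] := f.map (algebraMap K B)
  have hmk : ∀ p : K[X], Ideal.Quotient.mk M ((p.map (algebraMap K B)).eval b) = aeval y p := fun p => by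
    rw [eval_map, hom_eval₂]
    rfl
  have h0 : g.eval b ∈ IsLocalRing.maximalIdeal B := by
    rw [← hM, ← Ideal.Quotient.eq_zero_iff_mem, hmk, minpoly.aeval]
  have h1 : IsUnit (g.derivative.eval b) := by
    rw [← IsLocalRing.notMem_maximalIdeal, ← hM, ← Ideal.Quotient.eq_zero_iff_mem, derivative_map, hmk]
    exact hsep.aeval_derivative_ne_zero (minpoly.aeval K y)
  obtain ⟨c, hc, hcb⟩ := HenselianLocalRing.is_henselian g ((minpoly.monic hyK).map _) b h0 h1
  have hcM : b - c ∈ M := by
    rw [hM, ← Ideal.neg_mem_iff, neg_sub]; exact hcb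
  have haeval : ∀ p : K[X], ∀ z : B, (p.map (algebraMap K B)).eval z = aeval z p := fun p z => by
    rw [eval_map, aeval_def]
  refine ⟨c, ⟨⟨f, (minpoly.monic hyK).ne_zero, by rw [← haeval]; exact hc⟩, hcM⟩, ?_⟩
  rintro c' ⟨halg, hc'M⟩
  have hc'K : IsIntegral K c' := halg.isIntegral
  have hyc' : Ideal.Quotient.mk M c' = y := (Ideal.Quotient.eq.2 hc'M).symm
  have hfc' : f = minpoly K c' := by
    have hirr : Irreducible (minpoly K c') := minpoly.irreducible hc'K
    refine (minpoly.eq_of_irreducible_of_monic hirr ?_ (minpoly.monic hc'K)).symm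
    show aeval y (minpoly K c') = 0
    rw [← hyc', ← Ideal.Quotient.mkₐ_eq_mk K, aeval_algHom_apply, minpoly.aeval, map_zero]
  have hroot' : g.eval c' = 0 := by rw [haeval, hfc', minpoly.aeval]
  obtain ⟨z, hz⟩ := Polynomial.binomExpansion g c (c' - c)
  rw [add_sub_cancel, hroot', hc.eq_zero] at hz
  have hu : IsUnit (g.derivative.eval c + z * (c' - c)) := by
    rw [← IsLocalRing.notMem_maximalIdeal]
    intro hmem
    have hcc : c' - c ∈ IsLocalRing.maximalIdeal B := by
      rw [← hM]
      have := M.sub_mem hcM hc'M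
      simpa using this
    have h2 : g.derivative.eval c ∈ IsLocalRing.maximalIdeal B := by
      have := (IsLocalRing.maximalIdeal B).sub_mem hmem ((IsLocalRing.maximalIdeal B).mul_mem_left z hcc)
      simpa using this
    have h3 : g.derivative.eval b - g.derivative.eval c ∈ IsLocalRing.maximalIdeal B :=
      Ideal.mem_of_dvd _ (sub_dvd_eval_sub b c g.derivative) (hM ▸ hcM)
    have h4 := (IsLocalRing.maximalIdeal B).add_mem h3 h2
    rw [sub_add_cancel] at h4
    exact (IsLocalRing.notMem_maximalIdeal.2 h1) h4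
  have h5 : (c' - c) * (g.derivative.eval c + z * (c' - c)) = 0 := by linear_combination -hz
  exact sub_eq_zero.1 ((hu.mul_left_eq_zero).1 h5)

end Groth.Agent.CAlgH39.AlgLift
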