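import Groth.Agent.CAlgUI.Local
import Groth.Agent.CAlgUI.Projective
import Groth.Agent.CAlgUI.Swindle
import Mathlib

/-! Bass: projective modules of infinite rank over a ring with Noetherian `R/J`. -/

universe u

namespace Groth.Agent.CAlgH39.BassFree

variable {R : Type u} [CommRing R]

/-- No finitely generated submodule spans `P` modulo a maximal ideal. -/
def InfRank (R : Type u) [CommRing R] (P : Type u) [AddCommGroup P] [Module R P] : Prop :=
  ∀ (m : Ideal R), m.IsMaximal → ∀ Q : Submodule R P, Q.FG → Q ⊔ m • ⊤ ≠ ⊤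

theorem infRank_of_localization (P : Type u) [AddCommGroup P] [Module R P] [Module.Projective R P]
    (hP : ∀ (m : Ideal R) [m.IsMaximal],
      ¬ Module.Finite (Localization.AtPrime m) (LocalizedModule m.primeCompl P)) : InfRank R P := by
  classical
  intro m hm Q hQ htop
  obtain ⟨G, rfl⟩ := hQ
  have : Module.Projective (Localization.AtPrime m) (LocalizedModule m.primeCompl P) :=
    Module.projective_of_isLocalizedModule (R := R) m.primeCompl
      (LocalizedModule.mkLinearMap m.primeCompl P)
  have : Module.Free (Localization.AtPrime m) (LocalizedModule m.primeCompl P) := by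
    obtain ⟨κ, L, hL, hc⟩ := CAlgUI.exists_countablyGenerated_of_projective
      (R := Localization.AtPrime m) (M := LocalizedModule m.primeCompl P)
    exact CAlgUI.free_of_projective_local _ L hL hc
  let b := Module.Free.chooseBasis (Localization.AtPrime m) (LocalizedModule m.primeCompl P)
  let f := LocalizedModule.mkLinearMap m.primeCompl P
  let T := G.biUnion fun q => (b.repr (f q)).support
  obtain ⟨j, hj⟩ : ∃ j, j ∉ T := by
    by_contra h
    push Not at h
    have : Finite (Module.Free.ChooseBasisIndex (Localization.AtPrime m) (LocalizedModule m.primeCompl P)) :=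
      Finite.of_injective (fun j => (⟨j, h j⟩ : T)) fun a b hab => congrArg Subtype.val hab
    exact hP m (Module.Finite.of_basis b)
  let φ : P →ₗ[R] Localization.AtPrime m := (b.coord j).restrictScalars R ∘ₗ f
  let N : Submodule R (Localization.AtPrime m) :=
    (IsLocalRing.maximalIdeal (Localization.AtPrime m)).restrictScalars R
  have h1 : Submodule.span R (G : Set P) ≤ N.comap φ := by
    refine Submodule.span_le.2 fun q hq => ?_
    have : φ q = 0 := Finsupp.notMem_support_iff.1 fun h => hj (Finset.mem_biUnion.2 ⟨q, hq, h⟩)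
    simp [N, this]
  have h2 : m • (⊤ : Submodule R P) ≤ N.comap φ := Submodule.smul_le.2 fun a ha x _ => by
    rw [Submodule.mem_comap, map_smul, Submodule.restrictScalars_mem, Algebra.smul_def]
    exact Ideal.mul_mem_right _ _
      ((IsLocalization.AtPrime.to_map_mem_maximal_iff (Localization.AtPrime m) m a).2 ha)
  obtain ⟨⟨p, s⟩, hps⟩ := IsLocalizedModule.surj m.primeCompl f (b j)
  have hp : φ p ∈ IsLocalRing.maximalIdeal (Localization.AtPrime m) :=
    sup_le h1 h2 (htop.ge (Submodule.mem_top (x := p)))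
  have hs : φ p = algebraMap R (Localization.AtPrime m) s := by
    change b.coord j (f p) = _
    rw [← hps, Submonoid.smul_def, LinearMap.map_smul_of_tower, Module.Basis.coord_apply,
      Module.Basis.repr_self, Finsupp.single_eq_same, Algebra.smul_def, mul_one]
  rw [hs, IsLocalization.AtPrime.to_map_mem_maximal_iff (Localization.AtPrime m) m] at hp
  exact s.2 hp

theorem InfRank.of_surjective {W P : Type u} [AddCommGroup W] [Module R W] [AddCommGroup P] [Module R P]
    (h : InfRank R P) (f : W →ₗ[R] P) (hf : Function.Surjective f) : InfRank R W := by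
  intro m hm Q hQ htop
  refine h m hm (Q.map f) (hQ.map f) ?_
  have h1 := congrArg (Submodule.map f) htop
  rwa [Submodule.map_sup, Submodule.map_smul'', Submodule.map_top, LinearMap.range_eq_top.2 hf] at h1

theorem InfRank.compl {W : Type u} [AddCommGroup W] [Module R W] (h : InfRank R W)
    {K K' : Submodule R W} (hc : IsCompl K K') [Module.Finite R K] : InfRank R K' := by
  intro m hm Q hQ htop
  refine h m hm (K ⊔ Q.map K'.subtype) ((Module.Finite.iff_fg.1 inferInstance).sup (hQ.map _)) ?_
  rw [eq_top_iff]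
  refine hc.sup_eq_top.symm.trans_le ?_
  rw [sup_assoc]
  refine sup_le_sup le_rfl ?_
  intro x hx
  have h' : (⟨x, hx⟩ : K') ∈ Q ⊔ m • ⊤ := htop.ge Submodule.mem_top
  have := Submodule.mem_map_of_mem (f := K'.subtype) h'
  rw [Submodule.map_sup, Submodule.map_smul''] at this
  have hle : Q.map K'.subtype ⊔ m • (⊤ : Submodule R K').map K'.subtype ≤
      Q.map K'.subtype ⊔ m • (⊤ : Submodule R W) :=
    sup_le_sup le_rfl (Submodule.smul_mono le_rfl le_top)
  exact hle this

theorem exists_unimodular [IsNoetherianRing (R ⧸ (⊥ : Ideal R).jacobson)]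
    {P : Type u} [AddCommGroup P] [Module R P] [Module.Projective R P] (hP : InfRank R P)
    (s : P) (M : Submodule R P) (hM : Submodule.span R {s} ⊔ M = ⊤) :
    ∃ m ∈ M, ∃ φ : P →ₗ[R] R, φ (s + m) = 1 := by
  classical
  obtain ⟨i, hi⟩ := Module.projective_def.1 (inferInstance : Module.Projective R P)
  set J := (⊥ : Ideal R).jacobson with hJdef
  let mk := Ideal.Quotient.mk J
  let c : P → Ideal (R ⧸ J) := fun x => Ideal.span (Set.range fun j => mk (i x j))
  suffices key : ∀ (I : Ideal (R ⧸ J)) (m : P), m ∈ M → c (s + m) = I →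
      ∃ m ∈ M, ∃ φ : P →ₗ[R] R, φ (s + m) = 1 from key _ 0 (zero_mem _) rfl
  intro I
  induction I using WellFoundedGT.induction with
  | _ I ih =>
  intro m hm hI
  set x := s + m with hxdef
  by_cases hI1 : I = ⊤
  · obtain ⟨a, ha⟩ := Finsupp.mem_span_range_iff_exists_finsupp.1
      ((hI.trans hI1).ge (Submodule.mem_top (x := 1)))
    choose a' ha' using fun j => Ideal.Quotient.mk_surjective (a j)
    let ψ : P →ₗ[R] R := ∑ j ∈ a.support, a' j • (Finsupp.lapply j ∘ₗ i)
    have h1 : mk (ψ x) = 1 := by
      rw [← ha, Finsupp.sum]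
      simp [ψ, mk, map_sum, ha']
    have hu : IsUnit (ψ x) := by
      rw [← mk.map_one, Ideal.Quotient.eq] at h1
      exact Ideal.isUnit_of_sub_one_mem_jacobson_bot _ h1
    obtain ⟨u, hu'⟩ := hu.exists_left_inv
    exact ⟨m, hm, u • ψ, hu'⟩
  · obtain ⟨n, hn, hIn⟩ := Ideal.exists_le_maximal I hI1
    have : (n.comap mk).IsMaximal :=
      Ideal.comap_isMaximal_of_surjective mk Ideal.Quotient.mk_surjective
    set m₀ := n.comap mk
    set S := (i x).support
    let g : M →ₗ[R] (S → R ⧸ J) :=
      LinearMap.pi fun j => J.mkQ ∘ₗ Finsupp.lapply (j : P) ∘ₗ i ∘ₗ M.subtype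
    obtain ⟨y, hyg, j₀, hj₀⟩ : ∃ y : M, g y = 0 ∧ ∃ j, i y j ∉ m₀ := by
      by_contra hno
      push Not at hno
      have hfg : (LinearMap.range g).FG := by
        let T' : Submodule (R ⧸ J) (S → R ⧸ J) :=
          { (LinearMap.range g).toAddSubmonoid with
            smul_mem' := fun a v hv => by
              obtain ⟨a, rfl⟩ := Ideal.Quotient.mk_surjective a
              have : Ideal.Quotient.mk J a • v = a • v := algebraMap_smul (R ⧸ J) a v
              show Ideal.Quotient.mk J a • v ∈ LinearMap.range g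
              rw [this]
              exact Submodule.smul_mem _ a hv }
        have hT : T'.restrictScalars R = LinearMap.range g := rfl
        rw [← hT]
        exact (IsNoetherian.noetherian T').restrictScalars_of_surjective Ideal.Quotient.mk_surjective
      obtain ⟨G, hG⟩ := hfg
      have hpre : ∀ v : G, ∃ z : M, g z = v := fun v => hG.le (Submodule.subset_span v.2)
      choose z hz using hpre
      let Q : Submodule R P := Submodule.span R ({s} ∪ Set.range fun v : G => (z v : P))
      refine hP m₀ inferInstance Q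
        (Submodule.fg_span ((Set.finite_singleton s).union (Set.finite_range _))) ?_
      rw [eq_top_iff]
      refine hM.symm.trans_le ?_
      refine sup_le ((Submodule.span_mono Set.subset_union_left).trans le_sup_left) fun k hk => ?_
      obtain ⟨w, hw⟩ : g ⟨k, hk⟩ ∈ LinearMap.range
          (Finsupp.linearCombination R fun v : G => (v : S → R ⧸ J)) := by
        rw [Finsupp.range_linearCombination, show Set.range (fun v : G => (v : S → R ⧸ J)) = ↑G from
          Subtype.range_coe, hG]
        exact LinearMap.mem_range_self g _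
      set kQ : M := Finsupp.linearCombination R z w with hkQ
      have hkQ' : (kQ : P) ∈ Q := by
        rw [hkQ, Finsupp.linearCombination_apply, Finsupp.sum]
        simp only [Submodule.coe_sum, Submodule.coe_smul]
        exact Submodule.sum_mem _ fun v _ =>
          Submodule.smul_mem _ _ (Submodule.subset_span (Or.inr ⟨v, rfl⟩))
      have h0 : g (⟨k, hk⟩ - kQ) = 0 := by
        rw [map_sub, ← hw, hkQ, Finsupp.apply_linearCombination, sub_eq_zero]
        congr 2
        exact funext fun v => (hz v).symm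
      have hmem := hno _ h0
      rw [show k = (kQ : P) + ((⟨k, hk⟩ - kQ : M) : P) by simp]
      refine add_mem (Submodule.mem_sup_left hkQ') (Submodule.mem_sup_right ?_)
      rw [← hi ((⟨k, hk⟩ - kQ : M) : P), Finsupp.linearCombination_apply]
      exact Submodule.sum_mem _ fun j _ => Submodule.smul_mem_smul (hmem j) Submodule.mem_top
    have hy : ∀ j ∈ S, mk (i y j) = 0 := fun j hj => congrFun hyg ⟨j, hj⟩
    have hle : I ≤ c (x + y) := by
      rw [← hI]
      refine Ideal.span_le.2 ?_
      rintro _ ⟨j, rfl⟩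
      by_cases hj : j ∈ S
      · refine Ideal.subset_span ⟨j, ?_⟩
        simp [map_add, hy j hj]
      · simp [mk, Finsupp.notMem_support_iff.1 hj]
    have hmemc : mk (i y j₀) ∈ c (x + y) := by
      refine Ideal.subset_span ⟨j₀, ?_⟩
      by_cases hj : j₀ ∈ S
      · exfalso
        apply hj₀
        change mk (i y j₀) ∈ n
        rw [hy j₀ hj]
        exact zero_mem n
      · simp [map_add, Finsupp.notMem_support_iff.1 hj]
    have hlt : I < c (x + y) := lt_of_le_of_ne hle fun h => hj₀ (hIn (h ▸ hmemc))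
    exact ih _ hlt (m + y) (M.add_mem hm y.2) (by rw [hxdef, add_assoc])

/-- Splitting one more free rank one summand off the complement of a free summand. -/
theorem enlarge {W : Type u} [AddCommGroup W] [Module R W] {K K' : Submodule R W} (hc : IsCompl K K')
    [Module.Free R K] [Module.Finite R K] (x : W) (φ : K' →ₗ[R] R)
    (hx : φ (Submodule.projectionOnto K' K hc.symm x) = 1) :
    ∃ L L' : Submodule R W, IsCompl L L' ∧ Module.Free R L ∧ Module.Finite R L ∧ K ≤ L ∧ x ∈ L := by
  let π := Submodule.projectionOnto K' K hc.symm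
  let ψ : W →ₗ[R] R := φ ∘ₗ π
  have hleft : ∀ y : K', π (y : W) = y := Submodule.projectionOnto_apply_left hc.symm
  have hψK : ∀ k ∈ K, ψ k = 0 := fun k hk => by
    show φ (π k) = 0
    rw [show π k = 0 from (Submodule.projectionOnto_apply_eq_zero_iff hc.symm).2 hk, map_zero]
  let g : (K × R) →ₗ[R] W := K.subtype.coprod (LinearMap.toSpanSingleton R W x)
  have hg : Function.Injective g := by
    rw [← LinearMap.ker_eq_bot, LinearMap.ker_eq_bot']
    rintro ⟨k, r⟩ h
    have h' : (k : W) + r • x = 0 := by simpa [g] using h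
    have hr : r = 0 := by
      have := congrArg ψ h'
      rw [map_add, map_smul, map_zero, hψK k k.2, zero_add, show ψ x = 1 from hx, smul_eq_mul, mul_one] at this
      exact this
    refine Prod.ext (Subtype.ext ?_) hr
    simpa [hr] using h'
  have hKL : K ≤ LinearMap.range g := fun k hk => ⟨(⟨k, hk⟩, 0), by simp [g]⟩
  have hxL : x ∈ LinearMap.range g := ⟨(0, 1), by simp [g]⟩
  have hsub : ∀ w, w - (π w : W) ∈ K := fun w => by
    rw [← Submodule.projectionOnto_apply_eq_zero_iff hc.symm]
    show π (w - (π w : W)) = 0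
    rw [map_sub, hleft, sub_self]
  refine ⟨LinearMap.range g, K' ⊓ LinearMap.ker ψ, ⟨?_, ?_⟩,
    Module.Free.of_equiv (LinearEquiv.ofInjective g hg),
    Module.Finite.equiv (LinearEquiv.ofInjective g hg), hKL, hxL⟩
  · refine Submodule.disjoint_def.2 ?_
    rintro _ ⟨⟨k, r⟩, rfl⟩ ⟨hK', hψ⟩
    have he : g (k, r) = (k : W) + r • x := by simp [g]
    have hr : r = 0 := by
      have h0 : ψ (g (k, r)) = 0 := hψ
      rw [he, map_add, map_smul, hψK k k.2, zero_add, show ψ x = 1 from hx, smul_eq_mul, mul_one] at h0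
      exact h0
    rw [he, hr, zero_smul, add_zero] at hK' ⊢
    exact Submodule.disjoint_def.1 hc.disjoint k k.2 hK'
  · refine codisjoint_iff.2 (eq_top_iff.2 fun w _ => Submodule.mem_sup.2 ?_)
    refine ⟨(w - π w) + ψ w • (π x : W), ?_, (π w : W) - ψ w • (π x : W), ⟨?_, ?_⟩, by abel⟩
    · refine add_mem (hKL (hsub w)) (Submodule.smul_mem _ _ ?_)
      rw [show (π x : W) = x - (x - (π x : W)) by abel]
      exact sub_mem hxL (hKL (hsub x))
    · exact sub_mem (π w).2 (K'.smul_mem _ (π x).2)
    · have hπ : ∀ y, ψ (π y : W) = ψ y := fun y => congrArg φ (hleft (π y))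
      show ψ _ = 0
      rw [map_sub, map_smul, hπ, hπ, show ψ x = 1 from hx, smul_eq_mul, mul_one, sub_self]

variable [IsNoetherianRing (R ⧸ (⊥ : Ideal R).jacobson)]

theorem exists_stablyFree_summand {P : Type u} [AddCommGroup P] [Module R P] [Module.Projective R P]
    (hP : InfRank R P) (s : P) :
    ∃ K K' : Submodule R P, IsCompl K K' ∧ Module.Finite R K ∧ Module.IsStablyFree R K ∧ s ∈ K := by
  classical
  obtain ⟨n, K0, K0', hc0, _, _, hs0⟩ := CAlgUI.exists_finite_free_summand (R := R) s
  let e : Fin n → (Fin n → R) × P := fun j => (Pi.single j 1, 0)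
  have hW : InfRank R ((Fin n → R) × P) := hP.of_surjective (LinearMap.snd R _ P) Prod.snd_surjective
  suffices key : ∀ k, k ≤ n → ∃ K K' : Submodule R ((Fin n → R) × P), IsCompl K K' ∧ Module.Free R K ∧
      Module.Finite R K ∧ ((0, s) : (Fin n → R) × P) ∈ K ∧ ∀ j : Fin n, (j : ℕ) < k → e j ∈ K by
    obtain ⟨K, K', hc, hfree, hfin, hs, he⟩ := key n le_rfl
    have hFn : ∀ a : Fin n → R, ((a, 0) : (Fin n → R) × P) ∈ K := fun a => by
      rw [show ((a, 0) : (Fin n → R) × P) = ∑ j, a j • e j by
        refine Prod.ext (funext fun l => ?_) ?_ <;> simp [e, Prod.fst_sum, Prod.snd_sum, Finset.sum_apply, Pi.single_apply]]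
      exact Submodule.sum_mem _ fun j _ => K.smul_mem _ (he j j.2)
    have hsnd : ∀ w : (Fin n → R) × P, ((0, w.2) : (Fin n → R) × P) = w - (w.1, 0) := fun w => by
      ext <;> simp
    let L : Submodule R P := K.comap (LinearMap.inr R (Fin n → R) P)
    refine ⟨L, K'.map (LinearMap.snd R (Fin n → R) P), ⟨?_, ?_⟩, ?_, ?_, hs⟩
    · refine Submodule.disjoint_def.2 ?_
      rintro p hpK ⟨w, hw, rfl⟩
      have hwK : w ∈ K := by
        rw [show w = (w.1, 0) + (0, w.2) by ext <;> simp]
        exact add_mem (hFn _) hpK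
      rw [Submodule.disjoint_def.1 hc.disjoint w hwK hw, map_zero]
    · refine codisjoint_iff.2 (eq_top_iff.2 fun p _ => ?_)
      obtain ⟨k, hk, k', hk', hkk⟩ := Submodule.mem_sup.1
        (hc.sup_eq_top.ge (Submodule.mem_top (x := ((0, p) : (Fin n → R) × P))))
      refine Submodule.mem_sup.2 ⟨k.2, ?_, k'.2, ⟨k', hk', rfl⟩, congrArg Prod.snd hkk⟩
      show ((0, k.2) : (Fin n → R) × P) ∈ K
      rw [hsnd]
      exact sub_mem hk (hFn _)
    · refine Module.Finite.of_surjective
        (((LinearMap.snd R (Fin n → R) P) ∘ₗ K.subtype).codRestrict L fun w => ?_) ?_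
      · show ((0, (w : (Fin n → R) × P).2) : (Fin n → R) × P) ∈ K
        rw [hsnd]
        exact sub_mem w.2 (hFn _)
      · rintro ⟨p, hp⟩
        exact ⟨⟨(0, p), hp⟩, rfl⟩
    · let E : ((Fin n → R) × L) ≃ₗ[R] K :=
        { toFun := fun al => ⟨(al.1, (al.2 : P)), by
            rw [show ((al.1, (al.2 : P)) : (Fin n → R) × P) = (al.1, 0) + (0, (al.2 : P)) by ext <;> simp]
            exact add_mem (hFn _) al.2.2⟩
          invFun := fun w => (w.1.1, ⟨w.1.2, by
            show ((0, w.1.2) : (Fin n → R) × P) ∈ K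
            rw [hsnd]
            exact sub_mem w.2 (hFn _)⟩)
          map_add' := fun a b => rfl
          map_smul' := fun r a => rfl
          left_inv := fun a => rfl
          right_inv := fun a => rfl }
      have : Module.Free R ((Fin n → R) × L) := Module.Free.of_equiv E.symm
      exact Module.IsStablyFree.of_free_prod' R L (Fin n → R)
  intro k
  induction k with
  | zero =>
    exact fun _ => ⟨K0, K0', hc0, inferInstance, inferInstance, hs0,
      fun j hj => absurd hj (Nat.not_lt_zero _)⟩
  | succ k ih =>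
    intro hk
    obtain ⟨K, K', hc, hfree, hfin, hs, he⟩ := ih (Nat.le_of_succ_le hk)
    let j₀ : Fin n := ⟨k, hk⟩
    let χ : ((Fin n → R) × P) →ₗ[R] R := LinearMap.proj j₀ ∘ₗ LinearMap.fst R _ _
    let π := Submodule.projectionOnto K' K hc.symm
    have : Module.Projective R K' := Module.Projective.of_split K'.subtype π
      (LinearMap.ext fun y => Submodule.projectionOnto_apply_left hc.symm y)
    have hM : Submodule.span R {π (e j₀)} ⊔ (LinearMap.ker χ).map π = ⊤ := by
      refine eq_top_iff.2 fun y _ => Submodule.mem_sup.2 ⟨χ y • π (e j₀),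
        Submodule.smul_mem _ _ (Submodule.mem_span_singleton_self _), π ((y : (Fin n → R) × P) - χ y • e j₀),
        Submodule.mem_map_of_mem ?_, ?_⟩
      · simp [χ, e]
      · rw [map_sub, map_smul, show π (y : (Fin n → R) × P) = y from
          Submodule.projectionOnto_apply_left hc.symm y, add_sub_cancel]
    obtain ⟨_, ⟨m, hm, rfl⟩, φ, hφ⟩ := exists_unimodular (hW.compl hc) _ _ hM
    rw [← map_add] at hφ
    obtain ⟨L, L', hL, _, _, hKL, hxL⟩ := enlarge hc _ φ hφ
    have hm' : χ m = 0 := hm
    let α : ((Fin n → R) × P) ≃ₗ[R] (Fin n → R) × P :=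
      LinearEquiv.ofLinearMap (LinearMap.id + χ.smulRight m) (LinearMap.id - χ.smulRight m)
        (LinearMap.ext fun w => by simp [hm']) (LinearMap.ext fun w => by simp [hm'])
    have hfix : ∀ v, χ v = 0 → α v = v := fun v hv => by simp [α, hv]
    let o := Submodule.orderIsoMapComap α
    refine ⟨L.map α.symm.toLinearMap, L'.map α.symm.toLinearMap,
      hL.map (Submodule.orderIsoMapComap α.symm), ?_, ?_, ?_, fun j hj => ?_⟩
    · exact Module.Free.of_equiv (α.symm.submoduleMap L)
    · exact Module.Finite.equiv (α.symm.submoduleMap L)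
    · refine ⟨(0, s), hKL hs, ?_⟩
      exact (LinearEquiv.symm_apply_eq α).2 (hfix _ (by simp [χ])).symm
    · rcases Nat.lt_succ_iff_lt_or_eq.1 hj with h | h
      · refine ⟨e j, hKL (he j h), ?_⟩
        exact (LinearEquiv.symm_apply_eq α).2 (hfix _ (by simp [χ, e, j₀, Fin.ext_iff, Ne.symm h.ne])).symm
      · obtain rfl : j = j₀ := Fin.ext h
        refine ⟨e j₀ + m, hxL, ?_⟩
        exact (LinearEquiv.symm_apply_eq α).2 (by simp [α, χ, e])

theorem exists_free_summand_equiv (n : ℕ) : ∀ {P : Type u} [AddCommGroup P] [Module R P]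
    [Module.Projective R P], InfRank R P →
    ∃ K K' : Submodule R P, IsCompl K K' ∧ Nonempty ((Fin n → R) ≃ₗ[R] K) := by
  induction n with
  | zero =>
    intro P _ _ _ hP
    exact ⟨⊥, ⊤, isCompl_bot_top, ⟨LinearEquiv.ofSubsingleton _ _⟩⟩
  | succ n ih =>
    intro P _ _ _ hP
    obtain ⟨m, -, φ, hφ⟩ := exists_unimodular hP 0 ⊤ (by simp)
    rw [zero_add] at hφ
    let g : R →ₗ[R] P := LinearMap.toSpanSingleton R P m
    have hg : φ ∘ₗ g = LinearMap.id := LinearMap.ext fun r => by simp [g, hφ]
    have hginj : Function.Injective g := fun a b h => by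
      have := congrArg φ h
      simpa [g, hφ] using this
    have hc : IsCompl (LinearMap.range g) (LinearMap.ker φ) := by
      refine ⟨Submodule.disjoint_def.2 ?_, codisjoint_iff.2 (eq_top_iff.2 fun x _ => ?_)⟩
      · rintro _ ⟨r, rfl⟩ hr
        have hr' : r = 0 := by simpa [g, hφ] using hr
        rw [hr', map_zero]
      · exact Submodule.mem_sup.2 ⟨g (φ x), ⟨_, rfl⟩, x - g (φ x),
          by simp [LinearMap.mem_ker, g, hφ], add_sub_cancel _ _⟩
    have : Module.Projective R (LinearMap.ker φ) := Module.Projective.of_split (LinearMap.ker φ).subtype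
      (Submodule.projectionOnto _ _ hc.symm)
      (LinearMap.ext fun y => Submodule.projectionOnto_apply_left hc.symm y)
    obtain ⟨K, K', hK, ⟨E⟩⟩ := ih (hP.compl hc)
    let G : (R × (Fin n → R)) →ₗ[R] P := g.coprod ((LinearMap.ker φ).subtype ∘ₗ K.subtype ∘ₗ E.toLinearMap)
    have hφG : ∀ r v, φ (G (r, v)) = r := fun r v => by
      simp [G, g, hφ, LinearMap.mem_ker.1 (E v).1.2]
    have hG : Function.Injective G := by
      rw [← LinearMap.ker_eq_bot, LinearMap.ker_eq_bot']
      rintro ⟨r, v⟩ h
      have hr : r = 0 := by rw [← hφG r v, h, map_zero]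
      subst hr
      refine Prod.ext rfl (E.injective (Subtype.ext (Subtype.ext ?_)))
      simpa [G] using h
    refine ⟨LinearMap.range G, K'.map (LinearMap.ker φ).subtype, ⟨?_, ?_⟩,
      ⟨((Fin.consLinearEquiv R (fun _ : Fin (n + 1) => R)).symm).trans (LinearEquiv.ofInjective G hG)⟩⟩
    · refine Submodule.disjoint_def.2 ?_
      rintro _ ⟨⟨r, v⟩, rfl⟩ ⟨y, hy, hyeq⟩
      have hr : r = 0 := by rw [← hφG r v, ← hyeq]; exact y.2
      subst hr
      have : (E v : LinearMap.ker φ) = y := Subtype.ext (by simpa [G] using hyeq.symm)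
      have h0 := Submodule.disjoint_def.1 hK.disjoint _ (E v).2 (this ▸ hy)
      simp [G, h0]
    · refine codisjoint_iff.2 (eq_top_iff.2 fun x _ => ?_)
      have hx : x - g (φ x) ∈ LinearMap.ker φ := by simp [g, hφ]
      obtain ⟨k, hk, k', hk', hkk⟩ := Submodule.mem_sup.1
        (hK.sup_eq_top.ge (Submodule.mem_top (x := (⟨_, hx⟩ : LinearMap.ker φ))))
      refine Submodule.mem_sup.2 ⟨G (φ x, E.symm ⟨k, hk⟩), ⟨_, rfl⟩, (k' : P), ⟨k', hk', rfl⟩, ?_⟩
      have := congrArg Subtype.val hkk
      simp only [Submodule.coe_add] at this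
      simp [G, add_assoc, this]

theorem exists_free_summand {P : Type u} [AddCommGroup P] [Module R P] [Module.Projective R P]
    (hP : InfRank R P) (s : P) :
    ∃ K K' : Submodule R P, IsCompl K K' ∧ Module.Free R K ∧ Module.Finite R K ∧ s ∈ K := by
  obtain ⟨L, L', hL, _, _, hs⟩ := exists_stablyFree_summand hP s
  obtain ⟨N, _, _, _, _, hfree⟩ := Module.IsStablyFree.exist_free_prod R L
  let b := Module.Free.chooseBasis R N
  let m := Fintype.card (Module.Free.ChooseBasisIndex R N)
  let eN : N ≃ₗ[R] (Fin m → R) := (b.reindex (Fintype.equivFin _)).equivFun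
  have : Module.Projective R L' := Module.Projective.of_split L'.subtype
    (Submodule.projectionOnto _ _ hL.symm)
    (LinearMap.ext fun y => Submodule.projectionOnto_apply_left hL.symm y)
  obtain ⟨K, K', hK, ⟨E⟩⟩ := exists_free_summand_equiv m (hP.compl hL)
  let G : (L × N) →ₗ[R] P :=
    L.subtype.coprod (L'.subtype ∘ₗ K.subtype ∘ₗ (eN.trans E).toLinearMap)
  have hG : Function.Injective G := by
    rw [← LinearMap.ker_eq_bot, LinearMap.ker_eq_bot']
    rintro ⟨a, b⟩ h
    have h' : (a : P) + ((eN.trans E b : L') : P) = 0 := by simpa [G] using h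
    have ha : (a : P) = 0 := Submodule.disjoint_def.1 hL.disjoint _ a.2
      (eq_neg_of_add_eq_zero_left h' ▸ neg_mem (eN.trans E b).1.2)
    rw [ha, zero_add] at h'
    exact Prod.ext (Subtype.ext ha)
      ((eN.trans E).injective ((Subtype.ext (Subtype.ext h')).trans (map_zero _).symm))
  refine ⟨LinearMap.range G, K'.map L'.subtype, ⟨?_, ?_⟩,
    Module.Free.of_equiv (LinearEquiv.ofInjective G hG),
    Module.Finite.equiv (LinearEquiv.ofInjective G hG), ⟨(⟨s, hs⟩, 0), by simp [G]⟩⟩
  · refine Submodule.disjoint_def.2 ?_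
    rintro _ ⟨⟨a, b⟩, rfl⟩ ⟨y, hy, hyeq⟩
    have h' : (y : P) = (a : P) + ((eN.trans E b : L') : P) := by simpa [G] using hyeq
    have ha : (a : P) = 0 := Submodule.disjoint_def.1 hL.disjoint _ a.2
      ((eq_sub_of_add_eq h'.symm) ▸ sub_mem y.2 (eN.trans E b).1.2)
    rw [ha, zero_add] at h'
    have := Submodule.disjoint_def.1 hK.disjoint _ (eN.trans E b).2 (Subtype.ext h' ▸ hy)
    rw [← hyeq, Submodule.subtype_apply, h', this, Submodule.coe_zero]
  · refine codisjoint_iff.2 (eq_top_iff.2 fun x _ => ?_)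
    obtain ⟨a, ha, a', ha', haa⟩ := Submodule.mem_sup.1 (hL.sup_eq_top.ge (Submodule.mem_top (x := x)))
    obtain ⟨k, hk, k', hk', hkk⟩ := Submodule.mem_sup.1
      (hK.sup_eq_top.ge (Submodule.mem_top (x := (⟨a', ha'⟩ : L'))))
    refine Submodule.mem_sup.2 ⟨G (⟨a, ha⟩, (eN.trans E).symm ⟨k, hk⟩), ⟨_, rfl⟩, (k' : P), ⟨k', hk', rfl⟩, ?_⟩
    have h2 : (k : P) + (k' : P) = a' := congrArg Subtype.val hkk
    simp only [G, LinearMap.coprod_apply, LinearMap.comp_apply, LinearEquiv.coe_toLinearMap,
      LinearEquiv.apply_symm_apply, Submodule.subtype_apply]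
    rw [add_assoc, h2, haa]

theorem free_of_countablyGenerated {P : Type u} [AddCommGroup P] [Module R P] [Module.Projective R P]
    (hP : InfRank R P) (hc : ∃ t : Set P, t.Countable ∧ Submodule.span R t = ⊤) : Module.Free R P := by
  classical
  obtain ⟨t, htc, hts⟩ := hc
  obtain ⟨s, hs⟩ := (htc.insert 0).exists_eq_range (Set.insert_nonempty 0 t)
  let St := {q : Submodule R P × Submodule R P // IsCompl q.1 q.2 ∧ Module.Finite R q.1}
  have step : ∀ (q : St) (k : ℕ), ∃ (L : Submodule R P) (q' : St), Module.Free R L ∧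
      q'.1.1 = q.1.1 ⊔ L ∧ L ≤ q.1.2 ∧ q'.1.2 ≤ q.1.2 ∧ Disjoint L (q.1.1 ⊔ q'.1.2) ∧ s k ∈ q'.1.1 := by
    rintro ⟨⟨F, C⟩, hFC, hfin⟩ k
    obtain ⟨a, ha, c, hc', hac⟩ := Submodule.mem_sup.1 (hFC.sup_eq_top.ge (Submodule.mem_top (x := s k)))
    have : Module.Projective R C := Module.Projective.of_split C.subtype
      (Submodule.projectionOnto _ _ hFC.symm)
      (LinearMap.ext fun y => Submodule.projectionOnto_apply_left hFC.symm y)
    obtain ⟨K, K', hK, hfree, hKfin, hcK⟩ := exists_free_summand (hP.compl hFC) ⟨c, hc'⟩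
    set L := K.map C.subtype
    set C' := K'.map C.subtype
    have hLC : L ≤ C := Submodule.map_subtype_le C K
    have hC'C : C' ≤ C := Submodule.map_subtype_le C K'
    have hsup : L ⊔ C' = C := by
      rw [← Submodule.map_sup, hK.sup_eq_top, Submodule.map_subtype_top]
    have hdisj : Disjoint L C' :=
      Submodule.disjoint_map C.injective_subtype hK.disjoint
    have hLfin : Module.Finite R L := Module.Finite.equiv (Submodule.equivMapOfInjective _ C.injective_subtype K)
    have hFfin : Module.Finite R F := hfin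
    have hd2 : Disjoint L (F ⊔ C') := by
      rw [sup_comm]
      refine Disjoint.disjoint_sup_right_of_disjoint_sup_left hdisj ?_
      rw [hsup]
      exact hFC.symm.disjoint
    have hfin' : Module.Finite R ↥(F ⊔ L) :=
      Module.Finite.iff_fg.2 ((Module.Finite.iff_fg.1 hFfin).sup (Module.Finite.iff_fg.1 hLfin))
    refine ⟨L, ⟨(F ⊔ L, C'), ⟨?_, ?_⟩, hfin'⟩, Module.Free.of_equiv (Submodule.equivMapOfInjective _ C.injective_subtype K),
      rfl, hLC, hC'C, hd2, ?_⟩
    · refine Disjoint.disjoint_sup_left_of_disjoint_sup_right hdisj ?_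
      rw [hsup]
      exact hFC.disjoint
    · rw [codisjoint_iff, sup_assoc, hsup, hFC.sup_eq_top]
    · rw [← hac]
      exact add_mem (Submodule.mem_sup_left ha) (Submodule.mem_sup_right ⟨⟨c, hc'⟩, hcK, rfl⟩)
  choose L nx hLfree hF hLC hCC hd hsk using step
  let q : ℕ → St := fun k => Nat.rec ⟨(⊥, ⊤), isCompl_bot_top, inferInstance⟩ (fun k q => nx q k) k
  let M : ℕ → Submodule R P := fun k => L (q k) k
  have hq : ∀ k, q (k + 1) = nx (q k) k := fun k => rfl
  have hFmono : Monotone fun k => (q k).1.1 :=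
    monotone_nat_of_le_succ fun k => by rw [hq, hF]; exact le_sup_left
  have hCanti : Antitone fun k => (q k).1.2 :=
    antitone_nat_of_succ_le fun k => by rw [hq]; exact hCC _ _
  have hFle : ∀ k, (q k).1.1 ≤ ⨆ j, M j := by
    intro k
    induction k with
    | zero => exact bot_le
    | succ k ih => rw [hq, hF]; exact sup_le ih (le_iSup M k)
  have hint : DirectSum.IsInternal M := by
    refine DirectSum.isInternal_submodule_of_iSupIndep_of_iSup_eq_top (fun k => ?_) (eq_top_iff.2 ?_)
    · refine (hd (q k) k).mono_right (iSup₂_le fun j hj => ?_)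
      rcases lt_or_gt_of_ne hj with h | h
      · refine le_sup_of_le_left (le_trans ?_ (hFmono (Nat.succ_le_of_lt h)))
        show M j ≤ (q (j + 1)).1.1
        rw [hq, hF]
        exact le_sup_right
      · refine le_sup_of_le_right ((hLC (q j) j).trans ?_)
        rw [← hq]
        exact hCanti (Nat.succ_le_of_lt h)
    · rw [← hts, Submodule.span_le]
      intro x hx
      obtain ⟨k, rfl⟩ := hs.le (Set.mem_insert_of_mem 0 hx)
      refine hFle (k + 1) ?_
      rw [hq]
      exact hsk _ _
  have : ∀ k, Module.Free R (M k) := fun k => hLfree (q k) k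
  exact Module.Free.of_basis (hint.collectedBasis fun k => Module.Free.chooseBasis R (M k))

end Groth.Agent.CAlgH39.BassFree
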