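import Groth.Agent.FlatCxLib.Reduced
import Groth.Agent.FibreKer.Basic
import Mathlib

/-! Locally constant Betti numbers over reduced rings. -/

universe u

open CategoryTheory Limits TensorProduct

namespace Groth.Agent.CAlgH39.BettiReduced

variable {A : Type u} [CommRing A]

/-- Locally constant fibre homology of `M₁ → M₂ → M₃` forces projective homology. -/
theorem projective_homology [IsReduced A] {M₁ M₂ M₃ : Type u} [AddCommGroup M₁] [AddCommGroup M₂] [AddCommGroup M₃]
    [Module A M₁] [Module A M₂] [Module A M₃] [Module.Finite A M₁] [Module.Finite A M₂] [Module.Finite A M₃]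
    [Module.Projective A M₁] [Module.Projective A M₂] [Module.Projective A M₃]
    (f : M₁ →ₗ[A] M₂) (g : M₂ →ₗ[A] M₃) (hfg : g ∘ₗ f = 0)
    (h : IsLocallyConstant fun x : PrimeSpectrum A =>
      Module.finrank x.asIdeal.ResidueField (LinearMap.ker (g.baseChange x.asIdeal.ResidueField)) -
        Module.finrank x.asIdeal.ResidueField (LinearMap.range (f.baseChange x.asIdeal.ResidueField))) :
    Module.Finite A (LinearMap.ker g ⧸ (LinearMap.range f).comap (LinearMap.ker g).subtype) ∧
      Module.Projective A (LinearMap.ker g ⧸ (LinearMap.range f).comap (LinearMap.ker g).subtype) := by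
  have e : ∀ x : PrimeSpectrum A,
      (Module.finrank x.asIdeal.ResidueField (LinearMap.ker (g.baseChange x.asIdeal.ResidueField)) -
        Module.finrank x.asIdeal.ResidueField (LinearMap.range (f.baseChange x.asIdeal.ResidueField))) +
        FibreKer.rk (A := A) M₃ x =
      FibreKer.rk (A := A) (M₂ ⧸ LinearMap.range f) x + FibreKer.rk (A := A) (M₃ ⧸ LinearMap.range g) x := by
    intro x
    have h1 := FibreKer.finrank_ker_add (k := x.asIdeal.ResidueField) g
    have h2 := FibreKer.finrank_range_add (k := x.asIdeal.ResidueField) f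
    have hle : LinearMap.range (f.baseChange x.asIdeal.ResidueField) ≤ LinearMap.ker (g.baseChange x.asIdeal.ResidueField) :=
      LinearMap.range_le_ker_iff.2 (by rw [← LinearMap.baseChange_comp, hfg, LinearMap.baseChange_zero])
    have h3 := Submodule.finrank_mono hle
    simp only [FibreKer.rk]
    omega
  have hadd : IsLocallyConstant fun x => FibreKer.rk (A := A) (M₂ ⧸ LinearMap.range f) x +
      FibreKer.rk (A := A) (M₃ ⧸ LinearMap.range g) x := by
    rw [← funext e]
    exact h.comp₂ (FibreKer.isLocallyConstant_rk M₃) (· + ·)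
  obtain ⟨hf, hg⟩ := FibreKer.isLocallyConstant_of_add (FibreKer.upperSemicontinuous_rk _)
    (FibreKer.upperSemicontinuous_rk _) hadd
  have hproj : ∀ {N : Type u} [AddCommGroup N] [Module A N] [Module.FinitePresentation A N],
      IsLocallyConstant (FibreKer.rk (A := A) N) → Module.Projective A N := fun {N} _ _ _ hN => by
    have := FlatCxLib.flat_of_isLocallyConstant_fibreRank N hN
    exact Module.Flat.projective_of_finitePresentation
  have hfp : ∀ {M N : Type u} [AddCommGroup M] [Module A M] [Module.Finite A M] [AddCommGroup N] [Module A N]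
      [Module.Finite A N] [Module.Projective A N] (φ : M →ₗ[A] N), Module.FinitePresentation A (N ⧸ LinearMap.range φ) := by
    intro M N _ _ _ _ _ _ _ φ
    have := Module.finitePresentation_of_projective A N
    exact Module.finitePresentation_of_surjective _ (Submodule.mkQ_surjective _)
      (by rw [Submodule.ker_mkQ]; exact Module.Finite.iff_fg.1 (Module.Finite.range φ))
  have := hfp f
  have := hfp g
  have : Module.Projective A (M₂ ⧸ LinearMap.range f) := hproj hf
  have : Module.Projective A (M₃ ⧸ LinearMap.range g) := hproj hg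
  have : Module.Projective A (LinearMap.range g) := FibreKer.projective_sub _
  let gbar : (M₂ ⧸ LinearMap.range f) →ₗ[A] LinearMap.range g :=
    (LinearMap.range f).liftQ g.rangeRestrict (by
      rw [LinearMap.ker_rangeRestrict]
      exact LinearMap.range_le_ker_iff.2 hfg)
  have hgs : Function.Surjective gbar := by
    rintro ⟨_, y, rfl⟩
    exact ⟨Submodule.Quotient.mk y, rfl⟩
  let ι : (LinearMap.ker g ⧸ (LinearMap.range f).comap (LinearMap.ker g).subtype) →ₗ[A] (M₂ ⧸ LinearMap.range f) :=
    Submodule.mapQ _ _ (LinearMap.ker g).subtype le_rfl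
  have hι : Function.Injective ι := by
    rw [← LinearMap.ker_eq_bot, Submodule.ker_mapQ, Submodule.mkQ_map_self]
  have hrange : LinearMap.range ι = LinearMap.ker gbar := by
    ext z
    obtain ⟨y, rfl⟩ := Submodule.Quotient.mk_surjective _ z
    constructor
    · rintro ⟨w, hw⟩
      obtain ⟨w, rfl⟩ := Submodule.Quotient.mk_surjective _ w
      rw [LinearMap.mem_ker, ← hw]
      exact Subtype.ext (LinearMap.mem_ker.1 w.2)
    · intro hy
      exact ⟨Submodule.Quotient.mk ⟨y, congrArg Subtype.val hy⟩, rfl⟩
  have : Module.Projective A ((M₂ ⧸ LinearMap.range f) ⧸ LinearMap.ker gbar) :=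
    Module.Projective.of_equiv (gbar.quotKerEquivOfSurjective hgs).symm
  have : Module.Projective A (LinearMap.ker gbar) := FibreKer.projective_sub _
  obtain ⟨r, hr⟩ := FibreKer.exists_retraction (LinearMap.ker gbar)
  have : Module.Finite A (LinearMap.ker gbar) :=
    Module.Finite.of_surjective r fun z => ⟨z, LinearMap.congr_fun hr z⟩
  let eH := (LinearEquiv.ofInjective ι hι).trans (LinearEquiv.ofEq _ _ hrange)
  exact ⟨Module.Finite.equiv eH.symm, Module.Projective.of_equiv eH.symm⟩

end Groth.Agent.CAlgH39.BettiReduced
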