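import Groth.Agent.EtLocal7.Completion
import Groth.Agent.S0558
import Groth.Agent.S0548
import Groth.Agent.S0547

/-!
# Local maps which are surjective on completions
-/

universe u

open IsLocalRing

namespace Groth.Agent.CAlgH39

variable (A B : Type u) [CommRing A] [CommRing B] [IsLocalRing A] [IsLocalRing B] [IsNoetherianRing A]
  [IsNoetherianRing B] [Algebra A B] [IsLocalHom (algebraMap A B)]

theorem completion_surjective (hm : (maximalIdeal A).map (algebraMap A B) = maximalIdeal B)
    (hk : Function.Surjective (ResidueField.map (algebraMap A B)))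
    (ψ : AdicCompletion (maximalIdeal A) A →+* AdicCompletion (maximalIdeal B) B)
    (hψ : ψ.comp (algebraMap A (AdicCompletion (maximalIdeal A) A)) =
      (algebraMap B (AdicCompletion (maximalIdeal B) B)).comp (algebraMap A B)) :
    Function.Surjective ψ := by
  haveI := EtLocal7.isLocalHom_completion ψ hψ
  letI := ψ.toAlgebra
  haveI : IsLocalHom (algebraMap (AdicCompletion (maximalIdeal A) A)
    (AdicCompletion (maximalIdeal B) B)) := EtLocal7.isLocalHom_completion ψ hψ
  haveI : Module.Finite (ResidueField A) (ResidueField B) :=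
    RingHom.finite_algebraMap.mp (RingHom.Finite.of_surjective _ hk)
  haveI := EtLocal7.finite_completion A B hψ hm
  set Ah := AdicCompletion (maximalIdeal A) A
  set Bh := AdicCompletion (maximalIdeal B) B
  have hmh : (maximalIdeal Ah).map (algebraMap Ah Bh) = maximalIdeal Bh :=
    (EtLocal7.map_eq_iff ψ hψ).mpr hm
  haveI := EtLocal7.isLocalHom_algebraMap_completion B
  let T : Submodule Ah Bh := LinearMap.range (Algebra.linearMap Ah Bh)
  have hT : T = ⊤ := by
    refine top_le_iff.mp (Submodule.le_of_le_smul_of_le_jacobson_bot (I := maximalIdeal Ah)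
      (Module.finite_def.mp inferInstance) (maximalIdeal_le_jacobson _) ?_)
    rw [Ideal.smul_top_eq_map, hmh]
    intro y _
    obtain ⟨b', hb'⟩ := (EtLocal7.bijective_residue B).2 (residue Bh y)
    obtain ⟨b, rfl⟩ := residue_surjective b'
    obtain ⟨a', ha'⟩ := hk (residue B b)
    obtain ⟨a, rfl⟩ := residue_surjective a'
    refine Submodule.mem_sup.mpr ⟨ψ (algebraMap A Ah a), ⟨algebraMap A Ah a, rfl⟩,
      y - ψ (algebraMap A Ah a), ?_, add_sub_cancel _ _⟩
    rw [Submodule.restrictScalars_mem, ← residue_eq_zero_iff, map_sub, sub_eq_zero, ← hb',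
      ResidueField.map_residue]
    rw [ResidueField.map_residue] at ha'
    have h1 : ψ (algebraMap A Ah a) = algebraMap B Bh (algebraMap A B a) := DFunLike.congr_fun hψ a
    rw [h1, ← ResidueField.map_residue (algebraMap B Bh), ← ResidueField.map_residue (algebraMap B Bh), ha']
  intro y
  exact (hT ▸ Submodule.mem_top : y ∈ T)

theorem completion_bijective_of_flat [Module.Flat A B] (hm : (maximalIdeal A).map (algebraMap A B) = maximalIdeal B)
    (hk : Function.Surjective (ResidueField.map (algebraMap A B)))
    (ψ : AdicCompletion (maximalIdeal A) A →+* AdicCompletion (maximalIdeal B) B)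
    (hψ : ψ.comp (algebraMap A (AdicCompletion (maximalIdeal A) A)) =
      (algebraMap B (AdicCompletion (maximalIdeal B) B)).comp (algebraMap A B)) :
    Function.Bijective ψ := by
  refine ⟨?_, completion_surjective A B hm hk ψ hψ⟩
  have hf : ψ.Flat := (Groth.Agent.S9231.result A B ψ hψ).mpr (RingHom.flat_algebraMap_iff.mpr inferInstance)
  have := EtLocal7.isLocalHom_completion ψ hψ
  letI := ψ.toAlgebra
  haveI : IsLocalHom (algebraMap (AdicCompletion (maximalIdeal A) A)
    (AdicCompletion (maximalIdeal B) B)) := EtLocal7.isLocalHom_completion ψ hψ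
  haveI : Module.Flat (AdicCompletion (maximalIdeal A) A) (AdicCompletion (maximalIdeal B) B) := hf
  haveI : Module.FaithfullyFlat (AdicCompletion (maximalIdeal A) A) (AdicCompletion (maximalIdeal B) B) :=
    Module.FaithfullyFlat.of_flat_of_isLocalHom
  exact FaithfulSMul.algebraMap_injective (AdicCompletion (maximalIdeal A) A) (AdicCompletion (maximalIdeal B) B)

theorem completion_bijective_of_regular [IsRegularLocalRing A] (hdim : ringKrullDim B = ringKrullDim A)
    (hm : (maximalIdeal A).map (algebraMap A B) = maximalIdeal B)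
    (hk : Function.Surjective (ResidueField.map (algebraMap A B)))
    (ψ : AdicCompletion (maximalIdeal A) A →+* AdicCompletion (maximalIdeal B) B)
    (hψ : ψ.comp (algebraMap A (AdicCompletion (maximalIdeal A) A)) =
      (algebraMap B (AdicCompletion (maximalIdeal B) B)).comp (algebraMap A B)) :
    Function.Bijective ψ := by
  have hs := completion_surjective A B hm hk ψ hψ
  refine ⟨?_, hs⟩
  haveI := LC.Canon.isNoetherianRing_completion (R := A)
  haveI : IsRegularLocalRing (AdicCompletion (maximalIdeal A) A) :=
    (Groth.Agent.S0548.result A).mp inferInstance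
  haveI : IsDomain (AdicCompletion (maximalIdeal A) A) := Groth.Agent.S0558.result _
  have hd : ringKrullDim (AdicCompletion (maximalIdeal B) B) = ringKrullDim (AdicCompletion (maximalIdeal A) A) := by
    rw [Groth.Agent.S0547.result, Groth.Agent.S0547.result, hdim]
  by_contra hinj
  rw [RingHom.injective_iff_ker_eq_bot] at hinj
  obtain ⟨r, hr, hr0⟩ := Submodule.exists_mem_ne_zero_of_ne_bot hinj
  have h1 := ringKrullDim_succ_le_of_surjective ψ hs (mem_nonZeroDivisors_of_ne_zero hr0) hr
  rw [hd] at h1
  have hb : ringKrullDim (AdicCompletion (maximalIdeal A) A) ≠ ⊥ := ringKrullDim_ne_bot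
  have ht : ringKrullDim (AdicCompletion (maximalIdeal A) A) ≠ ⊤ := ringKrullDim_ne_top
  generalize ringKrullDim (AdicCompletion (maximalIdeal A) A) = d at h1 hb ht
  obtain ⟨d, rfl⟩ := WithBot.ne_bot_iff_exists.mp hb
  induction d using ENat.recTopCoe with
  | top => exact ht rfl
  | coe n =>
    norm_cast at h1
    omega

end Groth.Agent.CAlgH39
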