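import Mathlib.RingTheory.Extension.Cotangent.LocalizationAway
import Mathlib.RingTheory.Kaehler.JacobiZariski
import Mathlib.RingTheory.Etale.Basic
import Mathlib.LinearAlgebra.TensorProduct.Pi
import Groth.Agent.S9161

/-!
# Stable isomorphism class of the conormal module of a presentation
-/

universe u

open TensorProduct

namespace Groth.Agent.CAlgH39.Conormal

variable {T : Type u} [CommRing T]

/-- Removing a split isomorphism `K ≅ L` from a two term complex does not change its stable class. -/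
theorem stable_of_split {J₁ E₁ J E K L : Type u}
    [AddCommGroup J₁] [Module T J₁] [AddCommGroup E₁] [Module T E₁]
    [AddCommGroup J] [Module T J] [AddCommGroup E] [Module T E]
    [AddCommGroup K] [Module T K] [AddCommGroup L] [Module T L]
    (d₁ : J₁ →ₗ[T] E₁) (d : J →ₗ[T] E) (φ₁ : J₁ →ₗ[T] J) (φ₀ : E₁ →ₗ[T] E)
    (ψ₁ : J →ₗ[T] J₁) (ψ₀ : E →ₗ[T] E₁) (hφ : d ∘ₗ φ₁ = φ₀ ∘ₗ d₁) (hψ : d₁ ∘ₗ ψ₁ = ψ₀ ∘ₗ d)
    (h : E₁ →ₗ[T] J₁) (hh₁ : LinearMap.id - ψ₁ ∘ₗ φ₁ = h ∘ₗ d₁) (hh₀ : LinearMap.id - ψ₀ ∘ₗ φ₀ = d₁ ∘ₗ h)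
    (h' : E →ₗ[T] J) (hh'₁ : LinearMap.id - φ₁ ∘ₗ ψ₁ = h' ∘ₗ d) (hh'₀ : LinearMap.id - φ₀ ∘ₗ ψ₀ = d ∘ₗ h')
    (c : J₁ →ₗ[T] K) (r : E₁ →ₗ[T] L) (δ : K ≃ₗ[T] L) (hcr : r ∘ₗ d₁ = δ.toLinearMap ∘ₗ c)
    (t : K →ₗ[T] J₁) (ht : c ∘ₗ t = LinearMap.id) :
    Nonempty ((LinearMap.ker c × E) ≃ₗ[T] (J × LinearMap.ker r)) := by
  have hct : ∀ x, c (t x) = x := fun x => DFunLike.congr_fun ht x
  have hrd : ∀ x, r (d₁ x) = δ (c x) := fun x => DFunLike.congr_fun hcr x
  set k : E₁ →ₗ[T] J₁ := t ∘ₗ δ.symm.toLinearMap ∘ₗ r with hk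
  have hk1 : ∀ x, k (d₁ x) = t (c x) := fun x => by simp [k, hrd]
  let p₁ : J₁ →ₗ[T] LinearMap.ker c :=
    (LinearMap.id - t ∘ₗ c).codRestrict _ fun x => by simp [hct]
  let p₀ : E₁ →ₗ[T] LinearMap.ker r :=
    (LinearMap.id - d₁ ∘ₗ k).codRestrict _ fun x => by simp [hrd, k, hct]
  have hp₁ : ∀ x, (p₁ x : J₁) = x - t (c x) := fun x => rfl
  have hp₀ : ∀ x, (p₀ x : E₁) = x - d₁ (k x) := fun x => rfl
  let i₁ := (LinearMap.ker c).subtype
  let i₀ := (LinearMap.ker r).subtype
  let dA : LinearMap.ker c →ₗ[T] LinearMap.ker r :=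
    (d₁ ∘ₗ i₁).codRestrict _ fun x => by simp [i₁, hrd]
  have hdA : ∀ x, (dA x : E₁) = d₁ x := fun x => rfl
  have eφ : ∀ x, d (φ₁ x) = φ₀ (d₁ x) := fun x => DFunLike.congr_fun hφ x
  have eψ : ∀ x, d₁ (ψ₁ x) = ψ₀ (d x) := fun x => DFunLike.congr_fun hψ x
  have e1 : ∀ x, x - ψ₁ (φ₁ x) = h (d₁ x) := fun x => DFunLike.congr_fun hh₁ x
  have e0 : ∀ x, x - ψ₀ (φ₀ x) = d₁ (h x) := fun x => DFunLike.congr_fun hh₀ x
  have e'1 : ∀ x, x - φ₁ (ψ₁ x) = h' (d x) := fun x => DFunLike.congr_fun hh'₁ x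
  have e'0 : ∀ x, x - φ₀ (ψ₀ x) = d (h' x) := fun x => DFunLike.congr_fun hh'₀ x
  refine Groth.Agent.S9161.result T _ _ _ _ dA d (φ₁ ∘ₗ i₁) (φ₀ ∘ₗ i₀) (p₁ ∘ₗ ψ₁) (p₀ ∘ₗ ψ₀)
    ?_ ?_ (p₁ ∘ₗ h ∘ₗ i₀) ?_ ?_ (h' + φ₁ ∘ₗ k ∘ₗ ψ₀) ?_ ?_
  · ext x; simp [i₁, i₀, eφ, hdA]
  · ext x; simp [hdA, hp₁, hp₀, ← eψ, map_sub, hk1]
  · ext x
    have := congrArg (fun z => (p₁ z : J₁)) (e1 (x : J₁))
    simp only [map_sub, Submodule.coe_sub] at this
    simpa [hp₁, i₁, i₀, hdA] using this
  · ext x
    have hkx : k (x : E₁) = 0 := by simp [k]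
    have hki : ∀ z, k (d₁ z) = t (c z) := hk1
    have := congrArg (fun z => (p₀ z : E₁)) (e0 (x : E₁))
    simp only [map_sub, Submodule.coe_sub] at this
    simpa [hp₁, hp₀, i₁, i₀, hdA, hkx, hk1] using this
  · ext x
    have h2 : k (ψ₀ (d x)) = t (c (ψ₁ x)) := by rw [← eψ, hk1]
    simp [i₁, hp₁, h2, map_sub, ← e'1]
    abel
  · ext x
    simp [i₀, hp₀, map_sub, eφ, ← e'0]
    abel

variable {R S : Type u} [CommRing R] [CommRing S] [Algebra R S]

open Algebra

/-- The homotopy data between two presentations of an algebra. -/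
theorem homotopy_data {ι ι' : Type} (P : Generators R S ι) (P' : Generators R S ι') :
    ∃ (f : P.toExtension.Hom P'.toExtension) (g : P'.toExtension.Hom P.toExtension)
      (h : P.toExtension.CotangentSpace →ₗ[S] P.toExtension.Cotangent)
      (h' : P'.toExtension.CotangentSpace →ₗ[S] P'.toExtension.Cotangent),
      (LinearMap.id - Extension.Cotangent.map g ∘ₗ Extension.Cotangent.map f =
        h ∘ₗ P.toExtension.cotangentComplex) ∧
      (LinearMap.id - Extension.CotangentSpace.map g ∘ₗ Extension.CotangentSpace.map f =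
        P.toExtension.cotangentComplex ∘ₗ h) ∧
      (LinearMap.id - Extension.Cotangent.map f ∘ₗ Extension.Cotangent.map g =
        h' ∘ₗ P'.toExtension.cotangentComplex) ∧
      (LinearMap.id - Extension.CotangentSpace.map f ∘ₗ Extension.CotangentSpace.map g =
        P'.toExtension.cotangentComplex ∘ₗ h') := by
  let f := (P.defaultHom P').toExtensionHom
  let g := (P'.defaultHom P).toExtensionHom
  refine ⟨f, g, (Extension.Hom.id _).sub (g.comp f), (Extension.Hom.id _).sub (f.comp g), ?_, ?_, ?_, ?_⟩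
  · rw [← Extension.Cotangent.map_sub_map, Extension.Cotangent.map_id, Extension.Cotangent.map_comp]; rfl
  · have h := Extension.CotangentSpace.map_sub_map (Extension.Hom.id P.toExtension) (g.comp f)
    rw [Extension.CotangentSpace.map_id, Extension.CotangentSpace.map_comp] at h
    exact h
  · rw [← Extension.Cotangent.map_sub_map, Extension.Cotangent.map_id, Extension.Cotangent.map_comp]; rfl
  · have h := Extension.CotangentSpace.map_sub_map (Extension.Hom.id P'.toExtension) (f.comp g)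
    rw [Extension.CotangentSpace.map_id, Extension.CotangentSpace.map_comp] at h
    exact h

theorem presentations {n m : ℕ} (P : Generators R S (Fin n)) (P' : Generators R S (Fin m)) :
    Nonempty ((P.toExtension.Cotangent × (Fin m → S)) ≃ₗ[S] (P'.toExtension.Cotangent × (Fin n → S))) := by
  obtain ⟨f, g, h, h', a, b, a', b'⟩ := homotopy_data P P'
  obtain ⟨e⟩ := Groth.Agent.S9161.result S _ _ _ _ P.toExtension.cotangentComplex
    P'.toExtension.cotangentComplex (Extension.Cotangent.map f) (Extension.CotangentSpace.map f)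
    (Extension.Cotangent.map g) (Extension.CotangentSpace.map g)
    (Extension.CotangentSpace.map_comp_cotangentComplex f).symm
    (Extension.CotangentSpace.map_comp_cotangentComplex g).symm h a b h' a' b'
  exact ⟨((LinearEquiv.refl S _).prodCongr P'.cotangentSpaceBasis.equivFun.symm).trans
    (e.trans ((LinearEquiv.refl S _).prodCongr P.cotangentSpaceBasis.equivFun))⟩

/-- The conormal module of a presentation given by a surjective map. -/
theorem exists_ofAlgHom {n : ℕ} (α : MvPolynomial (Fin n) R →ₐ[R] S) (hα : Function.Surjective α) :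
    Nonempty ((Extension.ofSurjective α hα).Cotangent ≃ₗ[S] (Generators.ofAlgHom α hα).toExtension.Cotangent) := by
  have hev : ∀ x, algebraMap (Generators.ofAlgHom α hα).Ring S x = α x := fun x => by
    rw [Generators.algebraMap_apply]
    exact (DFunLike.congr_fun (show α = MvPolynomial.aeval (α ∘ MvPolynomial.X) by ext; simp) x).symm
  let f : (Extension.ofSurjective α hα).Hom (Generators.ofAlgHom α hα).toExtension :=
    { toRingHom := RingHom.id _
      toRingHom_algebraMap := fun x => rfl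
      algebraMap_toRingHom := fun x => by exact hev x }
  let g : (Generators.ofAlgHom α hα).toExtension.Hom (Extension.ofSurjective α hα) :=
    { toRingHom := RingHom.id _
      toRingHom_algebraMap := fun x => rfl
      algebraMap_toRingHom := fun x => by exact (hev x).symm }
  refine ⟨LinearEquiv.ofLinear (Extension.Cotangent.map f) (Extension.Cotangent.map g) ?_ ?_⟩
  · ext x; obtain ⟨x, rfl⟩ := Extension.Cotangent.mk_surjective x; rfl
  · ext x; obtain ⟨x, rfl⟩ := Extension.Cotangent.mk_surjective x; rfl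

theorem localized {n m : ℕ} (s : S) {T : Type u} [CommRing T] [Algebra R T] [Algebra S T] [IsScalarTower R S T]
    [IsLocalization.Away s T] (P : Generators R S (Fin n)) (P' : Generators R T (Fin m)) :
    Nonempty (((T ⊗[S] P.toExtension.Cotangent) × (Fin m → T)) ≃ₗ[T]
      (P'.toExtension.Cotangent × (Fin n → T))) := by
  let Q := Generators.localizationAway (S := T) s
  let P₁ := Q.comp P
  obtain ⟨f, g, h, h', a, b, a', b'⟩ := homotopy_data P₁ P'
  haveI : Algebra.FormallyEtale S T := Algebra.FormallyEtale.of_isLocalization (Submonoid.powers s)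
  have hinj : Function.Injective Q.toExtension.cotangentComplex := by
    haveI : Subsingleton Q.toExtension.H1Cotangent := Q.equivH1Cotangent.toEquiv.subsingleton
    exact (Extension.subsingleton_h1Cotangent _).mp inferInstance
  have hsurj : Function.Surjective Q.toExtension.cotangentComplex := fun y =>
    (Q.toExtension.exact_cotangentComplex_toKaehler y).mp (Subsingleton.elim _ _)
  let δ := LinearEquiv.ofBijective Q.toExtension.cotangentComplex ⟨hinj, hsurj⟩
  let c : P₁.toExtension.Cotangent →ₗ[T] Q.toExtension.Cotangent :=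
    Extension.Cotangent.map (Q.ofComp P).toExtensionHom
  let r : P₁.toExtension.CotangentSpace →ₗ[T] Q.toExtension.CotangentSpace :=
    Extension.CotangentSpace.map (Q.ofComp P).toExtensionHom
  obtain ⟨x, hx⟩ := Generators.Cotangent.surjective_map_ofComp Q P (Generators.cMulXSubOneCotangent T s)
  obtain ⟨e⟩ := stable_of_split P₁.toExtension.cotangentComplex P'.toExtension.cotangentComplex
    (Extension.Cotangent.map f) (Extension.CotangentSpace.map f)
    (Extension.Cotangent.map g) (Extension.CotangentSpace.map g)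
    (Extension.CotangentSpace.map_comp_cotangentComplex f).symm
    (Extension.CotangentSpace.map_comp_cotangentComplex g).symm h a b h' a' b'
    c r δ (Extension.CotangentSpace.map_comp_cotangentComplex (Q.ofComp P).toExtensionHom)
    (Generators.cotangentCompAwaySec s P x) (Generators.map_comp_cotangentCompAwaySec s P hx)
  let e₁ : (T ⊗[S] P.toExtension.Cotangent) ≃ₗ[T] LinearMap.ker c :=
    (LinearEquiv.ofInjective _ (Generators.liftBaseChange_injective_of_isLocalizationAway s P)).trans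
      (LinearEquiv.ofEq _ _ (LinearMap.exact_iff.mp (Generators.Cotangent.exact Q P)).symm)
  let e₀ : (T ⊗[S] P.toExtension.CotangentSpace) ≃ₗ[T] LinearMap.ker r :=
    (LinearEquiv.ofInjective _ (Generators.CotangentSpace.map_toComp_injective Q P)).trans
      (LinearEquiv.ofEq _ _ (LinearMap.exact_iff.mp (Generators.CotangentSpace.exact Q P)).symm)
  exact ⟨(e₁.prodCongr P'.cotangentSpaceBasis.equivFun.symm).trans
    (e.trans ((LinearEquiv.refl T _).prodCongr
      (e₀.symm.trans (P.cotangentSpaceBasis.baseChange T).equivFun)))⟩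

end Groth.Agent.CAlgH39.Conormal
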