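import Mathlib

/-!
# The different ideal commutes with localization
-/

universe u

open Submodule nonZeroDivisors

namespace Groth.Agent.CAlgH39.DiffLoc

attribute [local instance] FractionRing.liftAlgebra

theorem map_differentIdeal_aux (A B : Type u) [CommRing A] [CommRing B]
    [IsDedekindDomain A] [IsDedekindDomain B] [Algebra A B] [Module.Finite A B] [Module.IsTorsionFree A B]
    (S : Submonoid A) (Aₛ Bₛ : Type u) [CommRing Aₛ] [CommRing Bₛ] [Algebra A Aₛ] [Algebra B Bₛ] [Algebra Aₛ Bₛ]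
    [Algebra A Bₛ] [IsScalarTower A Aₛ Bₛ] [IsScalarTower A B Bₛ]
    [IsLocalization S Aₛ] [IsLocalization (Algebra.algebraMapSubmonoid B S) Bₛ]
    [IsDomain Aₛ] [IsIntegrallyClosed Aₛ] [IsDedekindDomain Bₛ] [Module.IsTorsionFree Aₛ Bₛ]
    (K L : Type u) [Field K] [Field L] [Algebra A K] [IsFractionRing A K] [Algebra B L] [IsFractionRing B L]
    [Algebra K L] [Algebra A L] [IsScalarTower A K L] [IsScalarTower A B L]
    [FiniteDimensional K L] [Algebra.IsSeparable K L]
    [Algebra Aₛ K] [IsScalarTower A Aₛ K] [IsFractionRing Aₛ K]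
    [Algebra Bₛ L] [IsScalarTower B Bₛ L] [IsFractionRing Bₛ L]
    [Algebra Aₛ L] [IsScalarTower Aₛ K L] [IsScalarTower Aₛ Bₛ L] :
    Ideal.map (algebraMap B Bₛ) (differentIdeal A B) = differentIdeal Aₛ Bₛ := by
  classical
  have : Module.Finite Aₛ Bₛ := Module.Finite.of_isLocalization A B S
  have hBA : ∀ a : A, algebraMap B L (algebraMap A B a) = algebraMap K L (algebraMap A K a) := fun a => by
    rw [← IsScalarTower.algebraMap_apply A B L, ← IsScalarTower.algebraMap_apply A K L]
  have hAL : ∀ a : A, algebraMap Aₛ K (algebraMap A Aₛ a) = algebraMap A K a := fun a =>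
    (IsScalarTower.algebraMap_apply A Aₛ K a).symm
  -- membership criteria
  have hmem : ∀ x : B, x ∈ differentIdeal A B ↔
      ∀ t ∈ traceDual A K (1 : Submodule B L), ∃ b : B, algebraMap B L b = algebraMap B L x * t := by
    intro x
    have h1 : algebraMap B L x ∈ IsLocalization.coeSubmodule L (differentIdeal A B) ↔ x ∈ differentIdeal A B :=
      IsLocalization.mem_coeSubmodule L _ |>.trans
        ⟨fun ⟨y, hy, e⟩ => IsFractionRing.injective B L e ▸ hy, fun h => ⟨x, h, rfl⟩⟩
    rw [← h1, coeSubmodule_differentIdeal A K, Submodule.mem_div_iff_forall_mul_mem]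
    simp only [Submodule.mem_one]
  have hmemS : ∀ x : Bₛ, x ∈ differentIdeal Aₛ Bₛ ↔
      ∀ t ∈ traceDual Aₛ K (1 : Submodule Bₛ L), ∃ b : Bₛ, algebraMap Bₛ L b = algebraMap Bₛ L x * t := by
    intro x
    have h1 : algebraMap Bₛ L x ∈ IsLocalization.coeSubmodule L (differentIdeal Aₛ Bₛ) ↔ x ∈ differentIdeal Aₛ Bₛ :=
      IsLocalization.mem_coeSubmodule L _ |>.trans
        ⟨fun ⟨y, hy, e⟩ => IsFractionRing.injective Bₛ L e ▸ hy, fun h => ⟨x, h, rfl⟩⟩
    have : IsIntegralClosure Bₛ Aₛ L := IsIntegralClosure.of_isIntegrallyClosed Bₛ Aₛ L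
    rw [← h1, coeSubmodule_differentIdeal Aₛ K, Submodule.mem_div_iff_forall_mul_mem]
    simp only [Submodule.mem_one]
  -- clearing denominators
  have hclearK : ∀ z : Aₛ, ∃ s ∈ S, ∃ a : A, algebraMap A K s * algebraMap Aₛ K z = algebraMap A K a := by
    intro z
    obtain ⟨⟨a, s, hs⟩, h⟩ := IsLocalization.surj S z
    exact ⟨s, hs, a, by rw [← hAL, ← map_mul, mul_comm, h, hAL]⟩
  have hclearL : ∀ w : Bₛ, ∃ s ∈ S, ∃ b : B,
      algebraMap K L (algebraMap A K s) * algebraMap Bₛ L w = algebraMap B L b := by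
    intro w
    obtain ⟨⟨b, ⟨_, s, hs, rfl⟩⟩, h⟩ := IsLocalization.surj (Algebra.algebraMapSubmonoid B S) w
    refine ⟨s, hs, b, ?_⟩
    rw [← hBA, IsScalarTower.algebraMap_apply B Bₛ L b, IsScalarTower.algebraMap_apply B Bₛ L, ← map_mul,
      mul_comm, h]
  have htr : ∀ (c : K) (z : L), Algebra.trace K L (algebraMap K L c * z) = c * Algebra.trace K L z := fun c z => by
    rw [← Algebra.smul_def, map_smul, smul_eq_mul]
  obtain ⟨G, hG⟩ := Module.Finite.fg_top (R := A) (M := B)
  refine le_antisymm (Ideal.map_le_iff_le_comap.2 fun x hx => ?_) fun z hz => ?_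
  · rw [Ideal.mem_comap, hmemS]
    intro y hy
    rw [Submodule.mem_traceDual] at hy
    have hb : ∀ b : B, ∃ a : Aₛ, algebraMap Aₛ K a = Algebra.trace K L (y * algebraMap B L b) := fun b =>
      hy _ (Submodule.mem_one.2 ⟨algebraMap B Bₛ b, (IsScalarTower.algebraMap_apply B Bₛ L b).symm⟩)
    choose a ha using hb
    choose s hs c hc using fun b => hclearK (a b)
    let u := ∏ b ∈ G, s b
    have huS : u ∈ S := Submonoid.prod_mem S fun b _ => hs b
    have huy : algebraMap K L (algebraMap A K u) * y ∈ traceDual A K (1 : Submodule B L) := by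
      rw [Submodule.mem_traceDual]
      rintro _ hb'
      obtain ⟨b, rfl⟩ := Submodule.mem_one.1 hb'
      have hbs : b ∈ Submodule.span A (G : Set B) := hG ▸ Submodule.mem_top
      induction hbs using Submodule.span_induction with
      | mem g hg =>
        refine ⟨(∏ b ∈ G.erase g, s b) * c g, ?_⟩
        rw [Algebra.traceForm_apply, mul_assoc, ← Algebra.smul_def, map_smul, smul_eq_mul, ← ha,
          show u = s g * ∏ b ∈ G.erase g, s b from (Finset.mul_prod_erase G s (Finset.mem_coe.1 hg)).symm,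
          map_mul, map_mul, ← hc g]
        ring
      | zero => exact ⟨0, by simp⟩
      | add p q _ _ hp hq =>
        obtain ⟨v, hv⟩ := hp (Submodule.mem_one.2 ⟨p, rfl⟩)
        obtain ⟨w, hw⟩ := hq (Submodule.mem_one.2 ⟨q, rfl⟩)
        exact ⟨v + w, by rw [map_add, hv, hw, map_add, map_add]⟩
      | smul r p _ hp =>
        obtain ⟨v, hv⟩ := hp (Submodule.mem_one.2 ⟨p, rfl⟩)
        refine ⟨r * v, ?_⟩
        rw [Algebra.smul_def r p, map_mul (algebraMap B L), hBA, map_mul, hv, Algebra.traceForm_apply,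
          Algebra.traceForm_apply,
          mul_left_comm (algebraMap K L (algebraMap A K u) * y) (algebraMap K L (algebraMap A K r)), htr]
    obtain ⟨b, hb⟩ := (hmem x).1 hx _ huy
    obtain ⟨v, hv⟩ := IsLocalization.map_units Aₛ (⟨u, huS⟩ : S)
    refine ⟨algebraMap Aₛ Bₛ (↑v⁻¹ : Aₛ) * algebraMap B Bₛ b, ?_⟩
    rw [map_mul, ← IsScalarTower.algebraMap_apply B Bₛ L, ← IsScalarTower.algebraMap_apply B Bₛ L,
      ← IsScalarTower.algebraMap_apply Aₛ Bₛ L, hb, IsScalarTower.algebraMap_apply Aₛ K L]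
    have h1 : algebraMap K L (algebraMap Aₛ K ↑v⁻¹) * algebraMap K L (algebraMap A K u) = 1 := by
      rw [← map_mul, ← hAL, ← hv, ← map_mul, Units.inv_mul, map_one, map_one]
    rw [mul_left_comm (algebraMap B L x), ← mul_assoc, h1, one_mul]
  · obtain ⟨⟨x, ⟨_, s, hs, rfl⟩⟩, hxz⟩ := IsLocalization.surj (Algebra.algebraMapSubmonoid B S) z
    rw [← (Ideal.unit_mul_mem_iff_mem _ (IsLocalization.map_units Bₛ
      (⟨_, ⟨s, hs, rfl⟩⟩ : Algebra.algebraMapSubmonoid B S))), mul_comm, hxz]
    have hx : algebraMap B Bₛ x ∈ differentIdeal Aₛ Bₛ := hxz ▸ Ideal.mul_mem_right _ _ hz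
    have hfg : (traceDual A K (1 : Submodule B L)).FG := by
      rw [← FractionalIdeal.coe_dual_one]
      exact FractionalIdeal.fg_of_isNoetherianRing le_rfl _
    obtain ⟨T, hT⟩ := hfg
    have hsub : ∀ t ∈ traceDual A K (1 : Submodule B L), t ∈ traceDual Aₛ K (1 : Submodule Bₛ L) := by
      intro t ht
      rw [Submodule.mem_traceDual] at ht ⊢
      rintro _ hw'
      obtain ⟨w, rfl⟩ := Submodule.mem_one.1 hw'
      obtain ⟨r, hr, b, hb⟩ := hclearL w
      obtain ⟨a, ha⟩ := ht _ (Submodule.mem_one.2 ⟨b, rfl⟩)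
      obtain ⟨v, hv⟩ := IsLocalization.map_units Aₛ (⟨r, hr⟩ : S)
      refine ⟨↑v⁻¹ * algebraMap A Aₛ a, ?_⟩
      rw [map_mul, hAL, ha, Algebra.traceForm_apply, Algebra.traceForm_apply, ← hb,
        mul_left_comm t, htr, ← mul_assoc, ← hAL, ← map_mul, ← hv, Units.inv_mul,
        map_one, one_mul]
    have hw : ∀ t ∈ traceDual A K (1 : Submodule B L), ∃ w : Bₛ,
        algebraMap Bₛ L w = algebraMap Bₛ L (algebraMap B Bₛ x) * t := fun t ht =>
      (hmemS _).1 hx t (hsub t ht)
    choose w hw using hw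
    choose r hr b hb using fun (t : L) (ht : t ∈ traceDual A K (1 : Submodule B L)) => hclearL (w t ht)
    have hTmem : ∀ t ∈ T, t ∈ traceDual A K (1 : Submodule B L) := fun t ht => hT ▸ Submodule.subset_span ht
    let u := ∏ t ∈ T.attach, r t.1 (hTmem t.1 t.2)
    have huS : u ∈ S := Submonoid.prod_mem S fun t _ => hr _ _
    rw [← (Ideal.unit_mul_mem_iff_mem _ (IsLocalization.map_units Bₛ
      (⟨_, ⟨u, huS, rfl⟩⟩ : Algebra.algebraMapSubmonoid B S))), ← map_mul]
    refine Ideal.mem_map_of_mem _ ((hmem _).2 fun t ht => ?_)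
    rw [← hT] at ht
    induction ht using Submodule.span_induction with
    | mem t ht =>
      refine ⟨algebraMap A B (∏ t' ∈ T.attach.erase ⟨t, ht⟩, r t'.1 (hTmem t'.1 t'.2)) * b t (hTmem t ht), ?_⟩
      rw [map_mul, map_mul, hBA, hBA, ← hb t (hTmem t ht), hw, ← IsScalarTower.algebraMap_apply B Bₛ L,
        show u = r t (hTmem t ht) * ∏ t' ∈ T.attach.erase ⟨t, ht⟩, r t'.1 (hTmem t'.1 t'.2) from
          (Finset.mul_prod_erase T.attach (fun t => r t.1 (hTmem t.1 t.2)) (Finset.mem_attach T ⟨t, ht⟩)).symm,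
        map_mul, map_mul]
      ring
    | zero => exact ⟨0, by simp⟩
    | add p q _ _ hp hq =>
      obtain ⟨v, hv⟩ := hp
      obtain ⟨w, hw⟩ := hq
      exact ⟨v + w, by rw [map_add, hv, hw, mul_add]⟩
    | smul c p _ hp =>
      obtain ⟨v, hv⟩ := hp
      exact ⟨c * v, by rw [map_mul (algebraMap B L) c v, hv, Algebra.smul_def]; ring⟩

theorem map_differentIdeal (A B : Type u) [CommRing A] [CommRing B]
    [IsDedekindDomain A] [IsDedekindDomain B] [Algebra A B] [Module.Finite A B] [Module.IsTorsionFree A B]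
    [Algebra.IsSeparable (FractionRing A) (FractionRing B)]
    (S : Submonoid A) (hS : S ≤ nonZeroDivisors A)
    (Aₛ Bₛ : Type u) [CommRing Aₛ] [CommRing Bₛ] [Algebra A Aₛ] [Algebra B Bₛ] [Algebra Aₛ Bₛ]
    [Algebra A Bₛ] [IsScalarTower A Aₛ Bₛ] [IsScalarTower A B Bₛ]
    [IsLocalization S Aₛ] [IsLocalization (Algebra.algebraMapSubmonoid B S) Bₛ]
    [IsDomain Aₛ] [IsIntegrallyClosed Aₛ] [IsDedekindDomain Bₛ] [Module.IsTorsionFree Aₛ Bₛ] :
    Ideal.map (algebraMap B Bₛ) (differentIdeal A B) = differentIdeal Aₛ Bₛ := by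
  have hSK : ∀ s : S, IsUnit (algebraMap A (FractionRing A) s) := fun s =>
    IsLocalization.map_units (FractionRing A) (⟨s.1, hS s.2⟩ : A⁰)
  letI : Algebra Aₛ (FractionRing A) := (IsLocalization.lift hSK).toAlgebra
  have : IsScalarTower A Aₛ (FractionRing A) :=
    IsScalarTower.of_algebraMap_eq fun a => (IsLocalization.lift_eq hSK a).symm
  have : IsFractionRing Aₛ (FractionRing A) :=
    IsFractionRing.isFractionRing_of_isDomain_of_isLocalization S Aₛ (FractionRing A)
  have hSB : Algebra.algebraMapSubmonoid B S ≤ B⁰ := by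
    rintro _ ⟨s, hs, rfl⟩
    exact mem_nonZeroDivisors_of_ne_zero fun h => nonZeroDivisors.ne_zero (hS hs)
      ((map_eq_zero_iff _ (FaithfulSMul.algebraMap_injective A B)).1 h)
  have hSL : ∀ s : Algebra.algebraMapSubmonoid B S, IsUnit (algebraMap B (FractionRing B) s) := fun s =>
    IsLocalization.map_units (FractionRing B) (⟨s.1, hSB s.2⟩ : B⁰)
  letI : Algebra Bₛ (FractionRing B) := (IsLocalization.lift hSL).toAlgebra
  have : IsScalarTower B Bₛ (FractionRing B) :=
    IsScalarTower.of_algebraMap_eq fun a => (IsLocalization.lift_eq hSL a).symm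
  have : IsFractionRing Bₛ (FractionRing B) :=
    IsFractionRing.isFractionRing_of_isDomain_of_isLocalization (Algebra.algebraMapSubmonoid B S) Bₛ (FractionRing B)
  have : IsScalarTower A (FractionRing A) (FractionRing B) :=
    FractionRing.isScalarTower_liftAlgebra A (FractionRing B)
  letI : Algebra Aₛ (FractionRing B) :=
    ((algebraMap (FractionRing A) (FractionRing B)).comp (algebraMap Aₛ (FractionRing A))).toAlgebra
  have : IsScalarTower Aₛ (FractionRing A) (FractionRing B) := IsScalarTower.of_algebraMap_eq fun _ => rfl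
  have : IsScalarTower Aₛ Bₛ (FractionRing B) := by
    refine IsScalarTower.of_algebraMap_eq' (IsLocalization.ringHom_ext S (RingHom.ext fun a => ?_))
    simp only [RingHom.comp_apply]
    rw [IsScalarTower.algebraMap_apply Aₛ (FractionRing A) (FractionRing B), ← IsScalarTower.algebraMap_apply A Aₛ,
      ← IsScalarTower.algebraMap_apply A (FractionRing A), ← IsScalarTower.algebraMap_apply A Aₛ Bₛ,
      IsScalarTower.algebraMap_apply A B Bₛ, ← IsScalarTower.algebraMap_apply B Bₛ,
      ← IsScalarTower.algebraMap_apply A B]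
  have : FiniteDimensional (FractionRing A) (FractionRing B) := Module.Finite.of_isLocalization A B A⁰
  exact map_differentIdeal_aux A B S Aₛ Bₛ (FractionRing A) (FractionRing B)

end Groth.Agent.CAlgH39.DiffLoc
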