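import Groth.Agent.HomDimLib.Local
import Groth.Agent.S0563

/-!
# Projective dimension read off `Ext(M, A)`
-/

universe u

open CategoryTheory

namespace Groth.Agent.CAlgH39

variable {A : Type u} [CommRing A] [IsNoetherianRing A] {M : Type u} [AddCommGroup M] [Module A M] [Module.Finite A M]

theorem hasProjectiveDimensionLT_of_ext_self (n : ℕ) [HasProjectiveDimensionLT (ModuleCat.of A M) (n + 1)]
    (h : Subsingleton (Abelian.Ext (ModuleCat.of A M) (ModuleCat.of A A) n)) :
    HasProjectiveDimensionLT (ModuleCat.of A M) n := by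
  rw [HomDimLib.hasProjectiveDimensionLT_iff_cyclic]
  intro I
  have hS : (ShortComplex.mk (ModuleCat.ofHom I.subtype) (ModuleCat.ofHom I.mkQ)
      (ModuleCat.hom_ext (LinearMap.exact_subtype_mkQ I).linearMap_comp_eq_zero)).ShortExact :=
    ModuleCat.shortComplex_shortExact _ (LinearMap.exact_subtype_mkQ I) I.subtype_injective I.mkQ_surjective
  refine ⟨fun a b => ?_⟩
  have key : ∀ e : Abelian.Ext (ModuleCat.of A M) (ModuleCat.of A (A ⧸ I)) n, e = 0 := by
    intro e
    obtain ⟨e', rfl⟩ := Abelian.Ext.covariant_sequence_exact₃ (ModuleCat.of A M) hS e rfl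
      (Abelian.Ext.eq_zero_of_hasProjectiveDimensionLT _ (n + 1) le_rfl)
    rw [Subsingleton.elim e' 0, Abelian.Ext.zero_comp]
  rw [key a, key b]

theorem hasProjectiveDimensionLT_of_ext_self_vanish (N n : ℕ) (hN : HasProjectiveDimensionLT (ModuleCat.of A M) N)
    (h : ∀ j, n ≤ j → j < N → Subsingleton (Abelian.Ext (ModuleCat.of A M) (ModuleCat.of A A) j)) :
    HasProjectiveDimensionLT (ModuleCat.of A M) n := by
  induction N with
  | zero => exact @hasProjectiveDimensionLT_of_ge _ _ _ _ 0 n (Nat.zero_le _) hN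
  | succ N ih =>
    by_cases hn : n ≤ N
    · exact ih (@hasProjectiveDimensionLT_of_ext_self _ _ _ M _ _ _ N hN (h N hn (Nat.lt_succ_self _)))
        fun j hj hj' => h j hj (by omega)
    · exact @hasProjectiveDimensionLT_of_ge _ _ _ _ (N + 1) n (by omega) hN

end Groth.Agent.CAlgH39
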