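import Mathlib

/-!
# Generic finiteness over a minimal prime with finite fibre
-/

universe u

open Polynomial

namespace Groth.Agent.CAlgH39.FiniteAway

variable {R S : Type u} [CommRing R] [CommRing S] [Algebra R S] {p : Ideal R}

theorem exists_smul_pow_eq_zero (hp : p ∈ minimalPrimes R) {y : S}
    (hy : ∀ Q ∈ p.primesOver S, y ∈ Q) : ∃ s ∉ p, ∃ N : ℕ, s • y ^ N = 0 := by
  by_contra hcon
  push Not at hcon
  have : p.IsPrime := hp.1.1
  let M : Submonoid S := Algebra.algebraMapSubmonoid S p.primeCompl ⊔ Submonoid.powers y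
  have hdisj : Disjoint ((⊥ : Ideal S) : Set S) (M : Set S) := by
    rw [Set.disjoint_left]
    intro z hz0 hzM
    obtain ⟨_, ⟨s, hs, rfl⟩, _, ⟨N, rfl⟩, hz⟩ := Submonoid.mem_sup.1 hzM
    refine hcon s hs N ?_
    rw [Algebra.smul_def, hz]
    exact hz0
  obtain ⟨Q, hQ, -, hQd⟩ := Ideal.exists_le_prime_disjoint _ _ hdisj
  have hle : Q.under R ≤ p := fun a ha => by
    by_contra hap
    exact Set.disjoint_left.1 hQd ha (Submonoid.mem_sup_left ⟨a, hap, rfl⟩)
  have hQp : Q ∈ p.primesOver S := ⟨hQ, ⟨le_antisymm (hp.2 ⟨Ideal.IsPrime.under R Q, bot_le⟩ hle) hle⟩⟩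
  exact Set.disjoint_left.1 hQd (hy Q hQp) (Submonoid.mem_sup_right ⟨1, pow_one y⟩)

variable [Algebra.FiniteType R S]

theorem exists_polynomial (hp : p ∈ minimalPrimes R) (hfin : (p.primesOver S).Finite) (x : S) :
    ∃ P : R[X], P.leadingCoeff ∉ p ∧ aeval x P = 0 := by
  have : p.IsPrime := hp.1.1
  have : Finite (p.primesOver S) := hfin.to_subtype
  have : Finite (PrimeSpectrum (p.Fiber S)) :=
    Finite.of_equiv _ (PrimeSpectrum.primesOverOrderIsoFiber R S p).toEquiv
  have : IsJacobsonRing (p.Fiber S) := isJacobsonRing_of_finiteType (A := p.ResidueField)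
  have : Module.Finite p.ResidueField (p.Fiber S) := by
    rw [Module.finite_iff_krullDimLE_zero]
    exact (PrimeSpectrum.discreteTopology_iff_finite_and_krullDimLE_zero.mp inferInstance).right
  let ι : S →ₐ[R] p.Fiber S := Algebra.TensorProduct.includeRight
  obtain ⟨f, hfm, hf⟩ := Algebra.IsIntegral.isIntegral (R := p.ResidueField) (ι x)
  let q := IsLocalization.integerNormalization (nonZeroDivisors (R ⧸ p)) f
  obtain ⟨b, hb⟩ := IsLocalization.integerNormalization_map_to_map (nonZeroDivisors (R ⧸ p)) f
  obtain ⟨P, hP, hPdeg⟩ := mem_lifts_and_degree_eq (f := Ideal.Quotient.mk p) (p := q)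
    ((mem_lifts q).2 (map_surjective _ Ideal.Quotient.mk_surjective q))
  have hq : q ≠ 0 := fun h => hfm.ne_zero ((IsFractionRing.integerNormalization_eq_zero_iff (A := R ⧸ p)).1 h)
  have hlc : P.leadingCoeff ∉ p := fun h => by
    refine hq (leadingCoeff_eq_zero.1 ?_)
    rw [leadingCoeff, natDegree_eq_of_degree_eq hPdeg.symm, ← hP, coeff_map]
    exact Ideal.Quotient.eq_zero_iff_mem.2 h
  have h0 : ι (aeval x P) = 0 := by
    rw [← aeval_algHom_apply, aeval_def, IsScalarTower.algebraMap_eq R p.ResidueField (p.Fiber S),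
      ← eval₂_map, IsScalarTower.algebraMap_eq R (R ⧸ p) p.ResidueField, ← Polynomial.map_map]
    erw [hP]
    rw [hb, Algebra.smul_def, Polynomial.algebraMap_apply, eval₂_mul, hf, mul_zero]
  have hy : ∀ Q ∈ p.primesOver S, aeval x P ∈ Q := fun Q hQ => by
    have he := (PrimeSpectrum.primesOverOrderIsoFiber R S p).symm_apply_apply ⟨Q, hQ⟩
    have hc := congrArg (fun Q' : p.primesOver S => (Q' : Ideal S)) he
    simp only [PrimeSpectrum.coe_primesOverOrderIsoFiber_symm_apply] at hc
    rw [← hc, Ideal.mem_comap]
    show ι (aeval x P) ∈ _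
    rw [h0]
    exact zero_mem _
  obtain ⟨s, hs, N, hN⟩ := exists_smul_pow_eq_zero hp hy
  have hne : s * P.leadingCoeff ^ N ∉ p := fun h => (Ideal.IsPrime.mem_or_mem ‹p.IsPrime› h).elim hs
    fun h => hlc (Ideal.IsPrime.mem_of_pow_mem ‹p.IsPrime› N h)
  refine ⟨C s * P ^ N, ?_, by rw [map_mul, map_pow, aeval_C, ← Algebra.smul_def, hN]⟩
  have h1 : (P ^ N).leadingCoeff = P.leadingCoeff ^ N :=
    leadingCoeff_pow' fun h => hne (by rw [h, mul_zero]; exact p.zero_mem)
  rw [leadingCoeff_mul' (by rw [leadingCoeff_C, h1]; exact fun h => hne (h ▸ p.zero_mem)), leadingCoeff_C, h1]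
  exact hne

theorem exists_finite_away (hp : p ∈ minimalPrimes R) (hfin : (p.primesOver S).Finite) :
    ∃ g : R, g ∉ p ∧ (Localization.awayMap (algebraMap R S) g).Finite := by
  have : p.IsPrime := hp.1.1
  obtain ⟨G, hG⟩ := Algebra.FiniteType.out (R := R) (A := S)
  choose P hlc hP using exists_polynomial (S := S) hp hfin
  let g := ∏ x ∈ G, (P x).leadingCoeff
  refine ⟨g, fun h => ?_, ?_⟩
  · obtain ⟨x, -, hx⟩ := (Ideal.IsPrime.prod_mem_iff).1 h
    exact hlc x hx
  let φ : Localization.Away g →+* Localization.Away (algebraMap R S g) := Localization.awayMap (algebraMap R S) g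
  letI := φ.toAlgebra
  have hcomm : ∀ r, algebraMap S (Localization.Away (algebraMap R S g)) (algebraMap R S r) =
      φ (algebraMap R (Localization.Away g) r) := fun r => by
    simp [φ, Localization.awayMap, IsLocalization.Away.map]
  have : IsScalarTower R (Localization.Away g) (Localization.Away (algebraMap R S g)) :=
    IsScalarTower.of_algebraMap_eq fun r => by
      rw [IsScalarTower.algebraMap_apply R S (Localization.Away (algebraMap R S g)), hcomm]; rfl
  show Module.Finite (Localization.Away g) (Localization.Away (algebraMap R S g))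
  rw [Algebra.finite_iff_isIntegral_and_finiteType]
  refine ⟨⟨fun z => ?_⟩, ?_⟩
  · let C' := (integralClosure (Localization.Away g) (Localization.Away (algebraMap R S g))).restrictScalars R
    have hC : ∀ s : S, algebraMap S (Localization.Away (algebraMap R S g)) s ∈ C' := by
      intro s
      have hs : s ∈ Algebra.adjoin R (G : Set S) := hG ▸ Algebra.mem_top
      induction hs using Algebra.adjoin_induction with
      | mem x hx =>
        have hu : IsUnit (algebraMap R (Localization.Away g) (P x).leadingCoeff) :=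
          isUnit_of_dvd_unit (map_dvd _ (Finset.dvd_prod_of_mem (fun x => (P x).leadingCoeff) hx)) (IsLocalization.Away.algebraMap_isUnit g)
        obtain ⟨u, hu⟩ := hu
        set x' := algebraMap S (Localization.Away (algebraMap R S g)) x
        have h0 : aeval x' (P x) = 0 := by rw [aeval_algebraMap_apply, hP x, map_zero]
        have hnu : (algebraMap R (Localization.Away g) (P x).leadingCoeff) ≠ 0 ∨
            Subsingleton (Localization.Away g) := by
          rcases subsingleton_or_nontrivial (Localization.Away g) with h | h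
          · exact Or.inr h
          · exact Or.inl (hu ▸ u.ne_zero)
        show IsIntegral (Localization.Away g) x'
        rcases hnu with hne | hsub
        · refine ⟨((↑u⁻¹ : Localization.Away g) • (P x).map (algebraMap R (Localization.Away g))), ?_, ?_⟩
          · rw [Monic, smul_eq_C_mul, leadingCoeff_mul' ?_, leadingCoeff_C,
              leadingCoeff_map_of_leadingCoeff_ne_zero _ hne, ← hu, Units.inv_mul]
            rw [leadingCoeff_C, leadingCoeff_map_of_leadingCoeff_ne_zero _ hne, ← hu, Units.inv_mul]
            exact fun h1 => hne (by rw [← mul_one (algebraMap R _ _), h1, mul_zero])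
          · rw [smul_eq_C_mul, eval₂_mul, eval₂_map, ← IsScalarTower.algebraMap_eq]
            exact mul_eq_zero_of_right _ h0
        · have : Subsingleton (Localization.Away (algebraMap R S g)) :=
            (algebraMap (Localization.Away g) _).codomain_trivial
          rw [Subsingleton.elim x' 0]
          exact isIntegral_zero
      | algebraMap r =>
        rw [← IsScalarTower.algebraMap_apply R S]
        exact Subalgebra.algebraMap_mem _ r
      | add a b _ _ ha hb => rw [map_add]; exact add_mem ha hb
      | mul a b _ _ ha hb => rw [map_mul]; exact mul_mem ha hb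
    obtain ⟨n, a, ha⟩ := IsLocalization.Away.surj (algebraMap R S g) z
    obtain ⟨u, hu⟩ := (IsLocalization.Away.algebraMap_isUnit (S := Localization.Away g) g).pow n
    have : z = algebraMap S _ a * algebraMap (Localization.Away g) _ (↑u⁻¹) := by
      rw [← ha, ← map_pow, ← map_pow, hcomm, map_pow, ← hu, mul_assoc]
      show z = z * (φ ↑u * φ ↑u⁻¹)
      rw [← map_mul, Units.mul_inv, map_one, mul_one]
    rw [this]
    exact IsIntegral.mul (hC a) isIntegral_algebraMap
  · have : Algebra.FiniteType R (Localization.Away (algebraMap R S g)) :=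
      Algebra.FiniteType.trans (S := S) inferInstance inferInstance
    exact Algebra.FiniteType.of_restrictScalars_finiteType R _ _

end Groth.Agent.CAlgH39.FiniteAway
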