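import Groth.Agent.CAlgH39.FlatModelBC
import Groth.Agent.S6883

/-! Descent of flatness of a presented module along injective integral maps. -/

universe u

open MvPolynomial TensorProduct

namespace Groth.Agent.CAlgH39.FlatModelBC

open Groth.Agent.FlatModel

variable {a n : ℕ} {R₀ : Type u} [CommRing R₀] (K₀ : Submodule (MvPolynomial (Fin n) R₀) (V a n R₀))

/-- Descent along a finite injective map of Noetherian rings. -/
theorem flatC_descent_finite (R S : Type u) [CommRing R] [CommRing S] [Algebra R₀ R] [Algebra R₀ S]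
    [Algebra R S] [IsScalarTower R₀ R S] [IsNoetherianRing R] [Module.Finite R S]
    (hinj : Function.Injective (algebraMap R S)) (h : FlatC K₀ S) : FlatC K₀ R := by
  have : IsNoetherianRing S := IsNoetherianRing.of_finite R S
  have := (flatC_iff_flat K₀).1 h
  obtain ⟨e⟩ := nonempty_equiv K₀ R S
  have : Module.Flat S (S ⊗[R] (V a n R ⧸ KK K₀ R)) := Module.Flat.of_linearEquiv e
  exact (flatC_iff_flat K₀).2 (Groth.Agent.S6883.result R S hinj _)

theorem flatC_of_algHom (R S : Type u) [CommRing R] [CommRing S] [Algebra R₀ R] [Algebra R₀ S]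
    (f : R →ₐ[R₀] S) (h : FlatC K₀ R) : FlatC K₀ S := by
  let _ : Algebra R S := f.toRingHom.toAlgebra
  have : IsScalarTower R₀ R S := IsScalarTower.of_algebraMap_eq fun r => (f.commutes r).symm
  exact flatC_of_flatC K₀ R S h

/-- Descent along an injective integral map. -/
theorem flatC_descent_integral [IsNoetherianRing R₀] (R S : Type u) [CommRing R] [CommRing S]
    [Algebra R₀ R] [Algebra R₀ S] [Algebra R S] [IsScalarTower R₀ R S] [Algebra.IsIntegral R S]
    (hinj : Function.Injective (algebraMap R S)) (h : FlatC K₀ S) : FlatC K₀ R := by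
  classical
  obtain ⟨S₁, ⟨s, hs⟩, hS₁⟩ := exists_fg_flatC K₀ h
  have hint : ∀ x : S, ∃ p : Polynomial R, p.Monic ∧ Polynomial.aeval x p = 0 := fun x =>
    Algebra.IsIntegral.isIntegral (R := R) x
  choose p hpm hp0 using hint
  let T : Finset R := s.biUnion fun x => (p x).coeffs
  let R₁ : Subalgebra R₀ R := Algebra.adjoin R₀ (T : Set R)
  have : Algebra.FiniteType R₀ R₁ := (Subalgebra.fg_iff_finiteType R₁).1 ⟨T, rfl⟩
  have : IsNoetherianRing R₁ := Algebra.FiniteType.isNoetherianRing R₀ R₁
  let S₂ : Subalgebra R₁ S := Algebra.adjoin R₁ (s : Set S)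
  have : Module.Finite R₁ S₂ := by
    refine Module.Finite.iff_fg.2 (fg_adjoin_of_finite s.finite_toSet fun x hx => ?_)
    have hl : p x ∈ Polynomial.lifts (algebraMap R₁ R) := by
      refine (Polynomial.lifts_iff_coeff_lifts _).2 fun k => ?_
      by_cases hk : (p x).coeff k = 0
      · exact ⟨0, by rw [map_zero, hk]⟩
      · exact ⟨⟨_, Algebra.subset_adjoin
          (Finset.mem_biUnion.2 ⟨x, hx, Polynomial.coeff_mem_coeffs hk⟩)⟩, rfl⟩
    obtain ⟨q, hq, -, hqm⟩ := Polynomial.lifts_and_natDegree_eq_and_monic hl (hpm x)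
    refine ⟨q, hqm, ?_⟩
    rw [← Polynomial.aeval_def, ← Polynomial.aeval_map_algebraMap R, hq, hp0]
  have hle : S₁ ≤ S₂.restrictScalars R₀ := by
    rw [← hs]
    exact Algebra.adjoin_le fun x hx => Algebra.subset_adjoin (R := R₁) hx
  have hS₂ : FlatC K₀ S₂ := flatC_of_algHom K₀ S₁ S₂ (Subalgebra.inclusion hle) hS₁
  have hinj₁ : Function.Injective (algebraMap R₁ S₂) := fun x y hxy =>
    Subtype.ext (hinj (congrArg Subtype.val hxy :))
  exact flatC_of_flatC K₀ R₁ R (flatC_descent_finite K₀ R₁ S₂ hinj₁ hS₂)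

end Groth.Agent.CAlgH39.FlatModelBC
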