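import Groth.Agent.FlatModel.Core
import Mathlib

/-! Base change of the presented modules `Vᵃ ⧸ KK K₀`. -/

universe u

open MvPolynomial TensorProduct

namespace Groth.Agent.CAlgH39.FlatModelBC

open Groth.Agent.FlatModel

variable {a n : ℕ} {R₀ : Type u} [CommRing R₀] (K₀ : Submodule (MvPolynomial (Fin n) R₀) (V a n R₀))
  (R S : Type u) [CommRing R] [CommRing S] [Algebra R₀ R] [Algebra R₀ S] [Algebra R S]
  [IsScalarTower R₀ R S]

variable (a n) in
/-- `mapV` as a linear map. -/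
noncomputable def φ : V a n R →ₗ[R] V a n S where
  toFun := mapV (algebraMap R S)
  map_add' := mapV_add _
  map_smul' r v := by
    ext i
    simp [MvPolynomial.smul_eq_C_mul, Algebra.smul_def, MvPolynomial.algebraMap_eq]

theorem φ_B (e : Σ _ : Fin a, Fin n →₀ ℕ) : φ a n R S (B a n R e) = B a n S e := by
  ext i : 1
  show mapV _ _ i = _
  rw [B_apply, B_apply, mapV_apply]
  by_cases h : i = e.1
  · subst h; simp
  · simp [h]

theorem φ_mem {x : V a n R} (hx : x ∈ KK K₀ R) : φ a n R S x ∈ KK K₀ S := by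
  refine Submodule.span_le.2 ?_ (mapV_mem_span (algebraMap R S) hx)
  rintro _ ⟨_, ⟨w, hw, rfl⟩, rfl⟩
  rw [mapV_mapV, ← IsScalarTower.algebraMap_eq]
  exact Submodule.subset_span ⟨w, hw, rfl⟩

theorem KK_le :
    (KK K₀ S).restrictScalars S ≤ Submodule.span S (φ a n R S '' (KK K₀ R : Set (V a n R))) := by
  intro x hx
  set T := Submodule.span S (φ a n R S '' (KK K₀ R : Set (V a n R))) with hT
  have hmon : ∀ (d : Fin n →₀ ℕ), ∀ t ∈ T, (monomial d (1 : S)) • t ∈ T := by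
    intro d t ht
    induction ht using Submodule.span_induction with
    | mem y hy =>
      obtain ⟨v, hv, rfl⟩ := hy
      refine Submodule.subset_span ⟨(monomial d (1 : R)) • v, (KK K₀ R).smul_mem _ hv, ?_⟩
      ext i : 1
      show MvPolynomial.map _ ((monomial d (1 : R)) * v i) = (monomial d (1 : S)) * MvPolynomial.map _ (v i)
      rw [map_mul, map_monomial, map_one]
    | zero => simp
    | add y z _ _ hy hz => rw [smul_add]; exact add_mem hy hz
    | smul c y _ hy => rw [smul_comm]; exact T.smul_mem c hy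
  let T' : Submodule (MvPolynomial (Fin n) S) (V a n S) :=
    { T.toAddSubmonoid with
      smul_mem' := fun p t ht => by
        induction p using MvPolynomial.induction_on' with
        | monomial d c =>
          show monomial d c • t ∈ T
          rw [show monomial d c = c • monomial d (1 : S) by rw [smul_monomial, smul_eq_mul, mul_one], smul_assoc]
          exact T.smul_mem c (hmon d t ht)
        | add p q hp hq => rw [add_smul]; exact T.add_mem hp hq }
  have : KK K₀ S ≤ T' := by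
    refine Submodule.span_le.2 ?_
    rintro _ ⟨w, hw, rfl⟩
    refine Submodule.subset_span ⟨mapV (algebraMap R₀ R) w, Submodule.subset_span ⟨w, hw, rfl⟩, ?_⟩
    show mapV _ (mapV _ w) = _
    rw [mapV_mapV, ← IsScalarTower.algebraMap_eq]
  exact this hx

/-- `S ⊗_R (Vᵃ_R ⧸ K) ≅ Vᵃ_S ⧸ K`. -/
theorem nonempty_equiv :
    Nonempty (S ⊗[R] (V a n R ⧸ KK K₀ R) ≃ₗ[S] (V a n S ⧸ KK K₀ S)) := by
  let π : V a n R →ₗ[R] V a n R ⧸ KK K₀ R := (KK K₀ R).mkQ.restrictScalars R
  let ψ₀ : V a n S →ₗ[S] S ⊗[R] (V a n R ⧸ KK K₀ R) :=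
    (B a n S).constr S fun e => (1 : S) ⊗ₜ π (B a n R e)
  have hψφ : ∀ v, ψ₀ (φ a n R S v) = (1 : S) ⊗ₜ π v := by
    have : (ψ₀.restrictScalars R) ∘ₗ φ a n R S = (TensorProduct.mk R S _ 1) ∘ₗ π :=
      (B a n R).ext fun e => by simp [φ_B, ψ₀]
    exact fun v => LinearMap.congr_fun this v
  have hker : (KK K₀ S).restrictScalars S ≤ LinearMap.ker ψ₀ := by
    refine (KK_le K₀ R S).trans (Submodule.span_le.2 ?_)
    rintro _ ⟨v, hv, rfl⟩
    rw [SetLike.mem_coe, LinearMap.mem_ker, hψφ,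
      show π v = 0 from (Submodule.Quotient.mk_eq_zero _).2 hv, TensorProduct.tmul_zero]
  let πS : V a n S →ₗ[S] V a n S ⧸ KK K₀ S := (KK K₀ S).mkQ.restrictScalars S
  let ψ : (V a n S ⧸ KK K₀ S) →ₗ[S] S ⊗[R] (V a n R ⧸ KK K₀ R) :=
    ((KK K₀ S).restrictScalars S).liftQ ψ₀ hker ∘ₗ
      (Submodule.Quotient.restrictScalarsEquiv S (KK K₀ S)).symm.toLinearMap
  have hψ : ∀ x, ψ (πS x) = ψ₀ x := fun x => rfl
  let θ₁ : (V a n R ⧸ KK K₀ R) →ₗ[R] (V a n S ⧸ KK K₀ S) :=
    ((KK K₀ R).restrictScalars R).liftQ (πS.restrictScalars R ∘ₗ φ a n R S)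
      (fun x hx => (Submodule.Quotient.mk_eq_zero _).2 (φ_mem K₀ R S hx)) ∘ₗ
      (Submodule.Quotient.restrictScalarsEquiv R (KK K₀ R)).symm.toLinearMap
  let θ : S ⊗[R] (V a n R ⧸ KK K₀ R) →ₗ[S] (V a n S ⧸ KK K₀ S) := LinearMap.liftBaseChange S θ₁
  have hθ : ∀ (s : S) v, θ (s ⊗ₜ π v) = s • πS (φ a n R S v) := fun s v => by
    rw [LinearMap.liftBaseChange_tmul]; rfl
  refine ⟨LinearEquiv.ofLinearMap θ ψ (LinearMap.ext fun y => ?_) (LinearMap.ext fun y => ?_)⟩
  · obtain ⟨x, rfl⟩ := (KK K₀ S).mkQ_surjective y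
    show θ (ψ (πS x)) = πS x
    rw [hψ]
    have : θ ∘ₗ ψ₀ = πS := (B a n S).ext fun e => by
      rw [LinearMap.comp_apply, show ψ₀ (B a n S e) = (1 : S) ⊗ₜ π (B a n R e) by simp [ψ₀], hθ,
        one_smul, φ_B]
    exact LinearMap.congr_fun this x
  · induction y using TensorProduct.induction_on with
    | zero => simp
    | add y z hy hz => rw [map_add, hy, hz, map_add]
    | tmul s v =>
      obtain ⟨v, rfl⟩ := (KK K₀ R).mkQ_surjective v
      show ψ (θ (s ⊗ₜ π v)) = s ⊗ₜ π v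
      rw [hθ, map_smul, hψ, hψφ, TensorProduct.smul_tmul', smul_eq_mul, mul_one]

theorem flatC_of_flatC (h : FlatC K₀ R) : FlatC K₀ S := by
  have := (flatC_iff_flat K₀).1 h
  obtain ⟨e⟩ := nonempty_equiv K₀ R S
  exact (flatC_iff_flat K₀).2 (Module.Flat.of_linearEquiv e.symm)

end Groth.Agent.CAlgH39.FlatModelBC
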