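import Groth.Agent.SGA7X.TorSeq
import Groth.Agent.LC.GorHull
import Groth.Agent.LC.Sop
import Groth.Agent.LC.MatlisExtra
import Groth.Agent.DualityLC.GorShift
import Groth.Agent.IntMultLib.LocalAlg
import Groth.Agent.HSLib.Regular
import Mathlib

/-!
# `Tor` of the injective hull of the residue field over a Gorenstein local ring

Iterating `M ↦ (A_x/A) ⊗ M` along a regular system of parameters, starting from `A`, shifts
`Tor(-, κ)` up and `Ext(κ, -)` down and ends in an injective hull of `κ`.
-/

universe u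

open CategoryTheory Limits MonoidalCategory IsLocalRing RingTheory.Sequence TensorProduct

namespace Groth.Agent.CAlgH39.GorTor

variable {A : Type u} [CommRing A]

/-- `A_x / A`. -/
abbrev Cq (x : A) := Localization.Away x ⧸ LinearMap.range (Algebra.linearMap A (Localization.Away x))

section localization

variable (x : A) (M : Type u) [AddCommGroup M] [Module A M]

/-- The map `M → A_x ⊗ M`. -/
noncomputable abbrev ι : M →ₗ[A] Localization.Away x ⊗[A] M :=
  TensorProduct.mk A (Localization.Away x) M 1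

/-- The map `A_x ⊗ M → (A_x/A) ⊗ M`. -/
noncomputable abbrev π : Localization.Away x ⊗[A] M →ₗ[A] Cq x ⊗[A] M :=
  (LinearMap.range (Algebra.linearMap A (Localization.Away x))).mkQ.rTensor M

theorem π_surjective : Function.Surjective (π x M) :=
  LinearMap.rTensor_surjective M (Submodule.mkQ_surjective _)

theorem exact_ι_π : Function.Exact (ι x M) (π x M) := by
  have h := rTensor_exact M (LinearMap.exact_map_mkQ_range (Algebra.linearMap A (Localization.Away x)))
    (Submodule.mkQ_surjective _)
  intro z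
  rw [h z]
  constructor
  · rintro ⟨y, rfl⟩
    refine ⟨TensorProduct.lid A M y, ?_⟩
    induction y using TensorProduct.induction_on with
    | zero => simp
    | tmul r m => simp [Algebra.algebraMap_eq_smul_one, smul_tmul]
    | add a b ha hb => simp only [map_add, ha, hb]
  · rintro ⟨m, rfl⟩
    exact ⟨1 ⊗ₜ m, by simp⟩

theorem isLocalizedModule_ι : IsLocalizedModule (Submonoid.powers x) (ι x M) :=
  (isLocalizedModule_iff_isBaseChange (Submonoid.powers x) (Localization.Away x) _).2
    (TensorProduct.isBaseChange A M _)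

theorem exists_pow_smul_mem (l : Localization.Away x ⊗[A] M) : ∃ (n : ℕ) (m : M), x ^ n • l = ι x M m := by
  haveI := isLocalizedModule_ι x M
  obtain ⟨⟨m, ⟨_, n, rfl⟩⟩, h⟩ := IsLocalizedModule.surj (Submonoid.powers x) (ι x M) l
  exact ⟨n, m, h⟩

theorem ι_eq_zero {m : M} (h : ι x M m = 0) : ∃ n : ℕ, x ^ n • m = 0 := by
  haveI := isLocalizedModule_ι x M
  obtain ⟨⟨_, n, rfl⟩, hn⟩ := (IsLocalizedModule.eq_zero_iff (Submonoid.powers x) (ι x M)).1 h
  exact ⟨n, hn⟩

theorem smul_bijective : Function.Bijective fun l : Localization.Away x ⊗[A] M => x • l := by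
  haveI := isLocalizedModule_ι x M
  exact (Module.End.isUnit_iff _).1
    (IsLocalizedModule.map_units (ι x M) (⟨x, Submonoid.mem_powers x⟩ : Submonoid.powers x))

theorem pow_smul_injective (n : ℕ) : Function.Injective fun l : Localization.Away x ⊗[A] M => x ^ n • l := by
  induction n with
  | zero => intro a b h; simpa using h
  | succ n ih =>
    intro a b h
    refine ih ((smul_bijective x M).1 ?_)
    simpa [smul_smul, ← pow_succ'] using h

variable {x M}

theorem ι_injective (hx : IsSMulRegular M x) : Function.Injective (ι x M) :=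
  (injective_iff_map_eq_zero _).2 fun m hm => by
    obtain ⟨n, hn⟩ := ι_eq_zero x M hm
    exact (hx.pow n) (by simpa using hn)

/-- Everything in `(A_x/A) ⊗ M` is killed by a power of `x`. -/
theorem torsion_self (z : Cq x ⊗[A] M) : ∃ n : ℕ, x ^ n • z = 0 := by
  obtain ⟨l, rfl⟩ := π_surjective x M z
  obtain ⟨n, m, h⟩ := exists_pow_smul_mem x M l
  exact ⟨n, by rw [← map_smul, h, (exact_ι_π x M).apply_apply_eq_zero]⟩

/-- Torsion with respect to any element is inherited. -/
theorem torsion_of (y : A) (h : ∀ m : M, ∃ n : ℕ, y ^ n • m = 0) (z : Cq x ⊗[A] M) :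
    ∃ n : ℕ, y ^ n • z = 0 := by
  induction z using TensorProduct.induction_on with
  | zero => exact ⟨0, smul_zero _⟩
  | tmul c m =>
    obtain ⟨n, hn⟩ := h m
    exact ⟨n, by rw [← tmul_smul, hn, tmul_zero]⟩
  | add a b ha hb =>
    obtain ⟨n, hn⟩ := ha
    obtain ⟨k, hk⟩ := hb
    refine ⟨n + k, ?_⟩
    rw [smul_add, pow_add, mul_smul, mul_smul, smul_comm (y ^ n) (y ^ k) a, hn, hk, smul_zero,
      smul_zero, add_zero]

theorem isSMulRegular_of (hx : IsSMulRegular M x) (y : A) (hy : IsSMulRegular M y)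
    (hxy : IsSMulRegular (QuotSMulTop y M) x) : IsSMulRegular (Cq x ⊗[A] M) y := by
  refine (isSMulRegular_iff_right_eq_zero_of_smul (M := Cq x ⊗[A] M) (r := y)).2 fun z hz => ?_
  obtain ⟨l, rfl⟩ := π_surjective x M z
  rw [← map_smul] at hz
  obtain ⟨m', hm'⟩ := ((exact_ι_π x M) _).1 hz
  obtain ⟨n, m, hm⟩ := exists_pow_smul_mem x M l
  have h1 : x ^ n • m' = y • m := ι_injective hx (by rw [map_smul, map_smul, hm', ← hm, smul_comm])
  have h2 : (Submodule.Quotient.mk m' : QuotSMulTop y M) = 0 := by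
    refine (hxy.pow n) ?_
    show x ^ n • (Submodule.Quotient.mk m' : QuotSMulTop y M) = x ^ n • 0
    rw [smul_zero, ← Submodule.Quotient.mk_smul, h1, Submodule.Quotient.mk_eq_zero]
    exact Submodule.smul_mem_pointwise_smul _ y _ trivial
  rw [Submodule.Quotient.mk_eq_zero, Submodule.mem_smul_pointwise_iff_exists] at h2
  obtain ⟨m'', -, rfl⟩ := h2
  have h3 : x ^ n • m'' = m := hy (by show y • _ = y • _; rw [← h1, smul_comm])
  have h4 : l = ι x M m'' := pow_smul_injective x M n (by
    show x ^ n • l = x ^ n • _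
    rw [hm, ← map_smul, h3])
  rw [h4, (exact_ι_π x M).apply_apply_eq_zero]

/-- Regular sequences pass to `(A_x/A) ⊗ -`. -/
theorem isWeaklyRegular_of (x : A) : ∀ (l : List A) (M : Type u) [AddCommGroup M] [Module A M],
    (∀ l' : List A, l'.Subperm (x :: l) → IsWeaklyRegular M l') →
      IsWeaklyRegular (Cq x ⊗[A] M) l := by
  intro l
  induction l with
  | nil => intro M _ _ _; exact IsWeaklyRegular.nil _ _
  | cons y l ih =>
    intro M _ _ h
    have hx : IsSMulRegular M x := by
      have := h [x] (List.singleton_subperm_iff.2 List.mem_cons_self)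
      rwa [isWeaklyRegular_singleton_iff] at this
    have hy' := h [y, x] ((List.Perm.swap x y []).subperm.trans
      ((List.subperm_cons x).2 ((List.subperm_cons y).2 List.nil_subperm)))
    rw [isWeaklyRegular_cons_iff, isWeaklyRegular_singleton_iff] at hy'
    rw [isWeaklyRegular_cons_iff]
    refine ⟨isSMulRegular_of hx y hy'.1 hy'.2, ?_⟩
    refine ((QuotSMulTop.tensorQuotSMulTopEquivQuotSMulTop y (Cq x) M).isWeaklyRegular_congr l).1 ?_
    refine ih (QuotSMulTop y M) fun l' hl' => ?_
    have := h (y :: l') (((List.subperm_cons y).2 hl').trans (List.Perm.swap x y l).subperm)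
    rw [isWeaklyRegular_cons_iff] at this
    exact this.2

end localization

section step

variable [IsLocalRing A]

/-- The residue field. -/
local notation "κ" => ModuleCat.of A (ResidueField A)

theorem smul_id_residue {x : A} (hx : x ∈ maximalIdeal A) : x • 𝟙 κ = 0 :=
  ModuleCat.hom_ext (LinearMap.ext fun c => by
    show x • c = 0
    rw [Algebra.smul_def, ResidueField.algebraMap_eq, (residue_eq_zero_iff x).2 hx, zero_mul])

/-- `Tor(L, κ) = 0` if an element of `𝔪` acts invertibly on `L`. -/
theorem isZero_tor_of_bijective (L : Type u) [AddCommGroup L] [Module A L] {x : A} (hx : x ∈ maximalIdeal A)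
    (hbij : Function.Bijective fun l : L => x • l) (i : ℕ) :
    IsZero (((Tor (ModuleCat.{u} A) i).obj (ModuleCat.of A L)).obj κ) := by
  let Q : ProjectiveResolution κ := ProjectiveResolution.of _
  let G : ModuleCat.{u} A ⥤ ModuleCat.{u} A := (tensoringLeft (ModuleCat.{u} A)).obj (ModuleCat.of A L)
  refine IsZero.of_iso ?_ (Q.isoLeftDerivedObj G i)
  show IsZero (((G.mapHomologicalComplex _).obj Q.complex).homology i)
  have hcomm : (x • 𝟙 Q.complex) ≫ Q.π = 0 := by
    ext : 1
    rw [HomologicalComplex.comp_f, HomologicalComplex.smul_f_apply, HomologicalComplex.id_f, Linear.smul_comp,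
      Category.id_comp, ← Category.comp_id (Q.π.f 0), ← Linear.comp_smul]
    erw [smul_id_residue hx]
    exact comp_zero
  let h : Homotopy (x • 𝟙 Q.complex) 0 := ProjectiveResolution.liftHomotopyZero _ hcomm
  let φ := (G.mapHomologicalComplex (ComplexShape.down ℕ)).map (x • 𝟙 Q.complex)
  have h0 : HomologicalComplex.homologyMap φ i = 0 := by
    rw [(G.mapHomotopy h).homologyMap_eq i, Functor.map_zero, HomologicalComplex.homologyMap_zero]
  have : ∀ j, IsIso (φ.f j) := fun j => by
    refine (ConcreteCategory.isIso_iff_bijective _).2 ?_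
    show Function.Bijective ((x • 𝟙 (Q.complex.X j)).hom.lTensor L)
    obtain ⟨g, hg⟩ : IsUnit (algebraMap A (Module.End A L) x) := (Module.End.isUnit_iff _).2 hbij
    have he : ((x • 𝟙 (Q.complex.X j)).hom.lTensor L) =
        ((LinearMap.GeneralLinearGroup.toLinearEquiv g).rTensor (Q.complex.X j)).toLinearMap := by
      refine TensorProduct.ext' fun l q => ?_
      show l ⊗ₜ[A] (x • q) = (g : Module.End A L) l ⊗ₜ[A] q
      rw [hg, tmul_smul, Module.algebraMap_end_apply, smul_tmul']
    rw [he]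
    exact ((LinearMap.GeneralLinearGroup.toLinearEquiv g).rTensor (Q.complex.X j)).bijective
  have : IsIso φ := HomologicalComplex.Hom.isIso_of_components φ
  have : IsIso ((HomologicalComplex.homologyFunctor _ _ i).map φ) := inferInstance
  rw [IsZero.iff_id_eq_zero, ← cancel_epi (HomologicalComplex.homologyMap φ i), Category.comp_id, comp_zero]
  exact h0

/-- `Ext(κ, L) = 0` if an element of `𝔪` acts invertibly on `L`. -/
theorem subsingleton_ext_of_bijective (L : Type u) [AddCommGroup L] [Module A L] {x : A}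
    (hx : x ∈ maximalIdeal A) (hbij : Function.Bijective fun l : L => x • l) (i : ℕ) :
    Subsingleton (Abelian.Ext κ (ModuleCat.of A L) i) := by
  refine subsingleton_of_forall_eq 0 fun e => ?_
  obtain ⟨g, hg⟩ : IsUnit (algebraMap A (Module.End A L) x) := (Module.End.isUnit_iff _).2 hbij
  have hxg : x • ModuleCat.ofHom ((g⁻¹ : (Module.End A L)ˣ) : L →ₗ[A] L) = 𝟙 (ModuleCat.of A L) := by
    refine ModuleCat.hom_ext (LinearMap.ext fun l => ?_)
    show x • (↑g⁻¹ : Module.End A L) l = l
    rw [← Module.algebraMap_end_apply (S := A), ← hg, ← Module.End.mul_apply, Units.mul_inv]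
    rfl
  have h1 : ∀ e' : Abelian.Ext κ (ModuleCat.of A L) i, x • e' = 0 := fun e' => by
    rw [← Abelian.Ext.mk₀_id_comp e', ← Abelian.Ext.smul_comp, ← Abelian.Ext.mk₀_smul, smul_id_residue hx,
      Abelian.Ext.mk₀_zero, Abelian.Ext.zero_comp]
  rw [← Abelian.Ext.comp_mk₀_id e, ← hxg, Abelian.Ext.mk₀_smul, Abelian.Ext.comp_smul, h1]

/-- The state after `j` steps. -/
structure State (A : Type u) [CommRing A] [IsLocalRing A] (d j : ℕ) (T : Type u) [AddCommGroup T] [Module A T] : Prop where
  tor_zero : ∀ i, i ≠ j → IsZero (((Tor (ModuleCat.{u} A) i).obj (ModuleCat.of A T)).obj (ModuleCat.of A (ResidueField A)))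
  tor_eq : Nonempty (((Tor (ModuleCat.{u} A) j).obj (ModuleCat.of A T)).obj (ModuleCat.of A (ResidueField A)) ≅
    ModuleCat.of A (ResidueField A))
  ext_zero : ∀ i, i + j ≠ d → Subsingleton (Abelian.Ext (ModuleCat.of A (ResidueField A)) (ModuleCat.of A T) i)
  ext_length : ∀ i, i + j = d → Module.length A (Abelian.Ext (ModuleCat.of A (ResidueField A)) (ModuleCat.of A T) i) = 1

theorem step {d j : ℕ} {M : Type u} [AddCommGroup M] [Module A M] (hM : State A d j M) {x : A}
    (hx : x ∈ maximalIdeal A) (hreg : IsSMulRegular M x) : State A d (j + 1) (Cq x ⊗[A] M) := by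
  let S : ShortComplex (ModuleCat.{u} A) := ShortComplex.mk (X₁ := ModuleCat.of A M)
    (X₂ := ModuleCat.of A (Localization.Away x ⊗[A] M)) (X₃ := ModuleCat.of A (Cq x ⊗[A] M))
    (ModuleCat.ofHom (ι x M)) (ModuleCat.ofHom (π x M))
    (ModuleCat.hom_ext (exact_ι_π x M).linearMap_comp_eq_zero)
  have hS : S.ShortExact :=
    { exact := (ShortComplex.ShortExact.moduleCat_exact_iff_function_exact _).2 (exact_ι_π x M)
      mono_f := (ModuleCat.mono_iff_injective _).2 (ι_injective hreg)
      epi_g := (ModuleCat.epi_iff_surjective _).2 (π_surjective x M) }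
  obtain ⟨T, hT, hi⟩ := SGA7X.exists_torSeq hS κ
  have h2 : ∀ i, IsZero (T.X₂.homology i) := fun i =>
    (isZero_tor_of_bijective _ hx (smul_bijective x M) i).of_iso (hi i).2.1.some.symm
  have h0 : IsZero (T.X₃.homology 0) := by
    have := hT.epi_g
    have : Epi (T.g.f 0) := (HomologicalComplex.eval _ _ 0).map_epi T.g
    have := HomologicalComplex.epi_homologyMap_of_epi_of_not_rel T.g 0 (fun j => by simp)
    exact IsZero.of_epi (HomologicalComplex.homologyMap T.g 0) (h2 0)
  have htor : ∀ i, Nonempty (((Tor (ModuleCat.{u} A) (i + 1)).obj S.X₃).obj κ ≅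
      ((Tor (ModuleCat.{u} A) i).obj S.X₁).obj κ) := fun i =>
    ⟨(hi (i + 1)).2.2.some ≪≫ hT.δIso (i + 1) i rfl (h2 _) (h2 _) ≪≫ (hi i).1.some.symm⟩
  let δ : ∀ i, Abelian.Ext κ S.X₃ i →ₗ[A] Abelian.Ext κ S.X₁ (i + 1) := fun i =>
    { toFun := fun e => e.comp hS.extClass rfl
      map_add' := fun a b => Abelian.Ext.add_comp a b _ _
      map_smul' := fun r a => Abelian.Ext.smul_comp a _ _ r }
  have hδ : ∀ i, Function.Bijective (δ i) := fun i => by
    constructor
    · rw [injective_iff_map_eq_zero]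
      intro e he
      obtain ⟨w, rfl⟩ := Abelian.Ext.covariant_sequence_exact₃ κ hS e rfl he
      rw [@Subsingleton.elim _ (subsingleton_ext_of_bijective _ hx (smul_bijective x M) i) w 0,
        Abelian.Ext.zero_comp]
    · intro e
      exact Abelian.Ext.covariant_sequence_exact₁ κ hS e
        (@Subsingleton.elim _ (subsingleton_ext_of_bijective _ hx (smul_bijective x M) (i + 1)) _ _) rfl
  refine ⟨fun i hij => ?_, ⟨(htor j).some ≪≫ hM.tor_eq.some⟩, fun i hi' => ?_, fun i hi' => ?_⟩
  · rcases i with _ | i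
    · exact h0.of_iso (hi 0).2.2.some
    · exact (hM.tor_zero i (by omega)).of_iso (htor i).some
  · have := hM.ext_zero (i + 1) (by omega)
    exact (hδ i).1.subsingleton
  · rw [(LinearEquiv.ofBijective (δ i) (hδ i)).length_eq]
    exact hM.ext_length (i + 1) (by omega)

/-- Iteration along a sequence all whose sub-permutations are regular. -/
theorem iterate {d : ℕ} : ∀ (rs : List A) (j : ℕ) (M : Type u) [AddCommGroup M] [Module A M],
    State A d j M → (∀ r ∈ rs, r ∈ maximalIdeal A) →
      (∀ l : List A, l.Subperm rs → IsWeaklyRegular M l) →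
        ∃ (T : Type u) (_ : AddCommGroup T) (_ : Module A T), State A d (j + rs.length) T ∧
          (∀ r ∈ rs, ∀ z : T, ∃ n : ℕ, r ^ n • z = 0) ∧
          ∀ y : A, (∀ m : M, ∃ n : ℕ, y ^ n • m = 0) → ∀ z : T, ∃ n : ℕ, y ^ n • z = 0 := by
  intro rs
  induction rs with
  | nil =>
    intro j M _ _ hM _ _
    exact ⟨M, inferInstance, inferInstance, hM, by simp, fun y h => h⟩
  | cons x rs ih =>
    intro j M _ _ hM hmem hreg
    have hx : IsSMulRegular M x := by
      have := hreg [x] (List.singleton_subperm_iff.2 List.mem_cons_self)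
      rwa [isWeaklyRegular_singleton_iff] at this
    obtain ⟨T, i1, i2, hT, htors, hkeep⟩ := ih (j + 1) (Cq x ⊗[A] M)
      (step hM (hmem x List.mem_cons_self) hx) (fun r hr => hmem r (List.mem_cons_of_mem x hr))
      fun l hl => isWeaklyRegular_of x l M fun l' hl' => hreg l' (hl'.trans ((List.subperm_cons x).2 hl))
    refine ⟨T, i1, i2, by rw [List.length_cons, add_left_comm, add_comm]; simpa [add_assoc] using hT,
      fun r hr => ?_, fun y hy => hkeep y (torsion_of y hy)⟩
    rcases List.mem_cons.1 hr with rfl | hr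
    · exact hkeep r torsion_self
    · exact htors r hr

variable [IsNoetherianRing A]

/-- A torsion module with one dimensional socle and `Ext¹(κ, T) = 0` is an injective hull of `κ`. -/
theorem nonempty_equiv_hull {T : Type u} [AddCommGroup T] [Module A T]
    (htors : LocCoh.IsPowerTorsion (maximalIdeal A) T)
    (h0 : Module.length A (Abelian.Ext κ (ModuleCat.of A T) 0) = 1)
    (h1 : Subsingleton (Abelian.Ext κ (ModuleCat.of A T) 1))
    {E : Type u} [AddCommGroup E] [Module A E] {f : ResidueField A →ₗ[A] E}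
    (hf : InjHull.IsInjectiveHull f) : Nonempty (T ≃ₗ[A] E) := by
  let eH : Abelian.Ext κ (ModuleCat.of A T) 0 ≃ₗ[A] (ResidueField A →ₗ[A] T) :=
    (Abelian.Ext.linearEquiv₀ (R := A)).trans
      { toFun := fun g => g.hom, invFun := ModuleCat.ofHom, map_add' := fun _ _ => rfl,
        map_smul' := fun _ _ => rfl, left_inv := fun _ => rfl, right_inv := fun _ => rfl }
  rw [eH.length_eq, Module.length_eq_one_iff] at h0
  have := IsSimpleModule.nontrivial A (ResidueField A →ₗ[A] T)
  obtain ⟨ι₀, hι₀⟩ := exists_ne (0 : ResidueField A →ₗ[A] T)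
  have hι : Function.Injective ι₀ := by
    rw [injective_iff_map_eq_zero]
    intro c hc
    obtain ⟨r, rfl⟩ := residue_surjective c
    rw [residue_eq_zero_iff]
    by_contra hr
    refine hι₀ (LinearMap.ext fun c => ?_)
    obtain ⟨v, hv⟩ := notMem_maximalIdeal.1 hr
    obtain ⟨s, rfl⟩ := residue_surjective c
    rw [show residue A s = (s * ↑v⁻¹) • residue A r by
      rw [Algebra.smul_def, ResidueField.algebraMap_eq, ← map_mul, ← hv, mul_assoc, Units.inv_mul, mul_one],
      map_smul, hc, smul_zero]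
    rfl
  have hsoc : ∀ t : T, t ∈ LocCoh.torsionBy (maximalIdeal A) T → t ∈ LinearMap.range ι₀ := by
    intro t ht
    rw [Submodule.mem_torsionBySet_iff] at ht
    let g : ResidueField A →ₗ[A] T :=
      (maximalIdeal A).liftQ (LinearMap.toSpanSingleton A T t) fun a ha => ht ⟨a, ha⟩
    obtain ⟨c, hc⟩ := IsSimpleModule.toSpanSingleton_surjective A hι₀ g
    refine ⟨c • (1 : ResidueField A), ?_⟩
    rw [map_smul, ← LinearMap.smul_apply, show c • ι₀ = g from hc]
    exact one_smul A t
  have hess : InjHull.IsEssentialInj ι₀ := LC.isEssentialInj_iff.2 ⟨hι, fun t ht => by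
    obtain ⟨r, hr0, hr⟩ := LC.exists_socle_multiple (maximalIdeal A) htors ht
    exact ⟨r, hsoc _ hr, hr0⟩⟩
  haveI := hf.isInjective
  obtain ⟨ψ, hψ⟩ := Module.Injective.out ι₀ hι f
  have hψι : ψ ∘ₗ ι₀ = f := LinearMap.ext hψ
  have hψi : Function.Injective ψ :=
    LC.isEssentialInj_injective_of_comp hess ψ (by rw [hψι]; exact hf.injective)
  refine ⟨LinearEquiv.ofBijective ψ ⟨hψi, ?_⟩⟩
  let S : ShortComplex (ModuleCat.{u} A) := ShortComplex.mk (X₁ := ModuleCat.of A T)
    (X₂ := ModuleCat.of A E) (X₃ := ModuleCat.of A (E ⧸ LinearMap.range ψ))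
    (ModuleCat.ofHom ψ) (ModuleCat.ofHom (LinearMap.range ψ).mkQ)
    (ModuleCat.hom_ext (LinearMap.exact_map_mkQ_range ψ).linearMap_comp_eq_zero)
  have hS : S.ShortExact :=
    { exact := (ShortComplex.ShortExact.moduleCat_exact_iff_function_exact _).2
        (LinearMap.exact_map_mkQ_range ψ)
      mono_f := (ModuleCat.mono_iff_injective _).2 hψi
      epi_g := (ModuleCat.epi_iff_surjective _).2 (Submodule.mkQ_surjective _) }
  have hCt : LocCoh.IsPowerTorsion (maximalIdeal A) (E ⧸ LinearMap.range ψ) := fun z => by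
    obtain ⟨e, rfl⟩ := Submodule.Quotient.mk_surjective _ z
    obtain ⟨n, hn⟩ := LC.hull_isPowerTorsion hf e
    exact ⟨n, fun a ha => by rw [← Submodule.Quotient.mk_smul, hn a ha, Submodule.Quotient.mk_zero]⟩
  intro e
  by_contra he
  have hne : (Submodule.Quotient.mk e : E ⧸ LinearMap.range ψ) ≠ 0 := fun h =>
    he ((Submodule.Quotient.mk_eq_zero _).1 h)
  obtain ⟨r, hr0, hr⟩ := LC.exists_socle_multiple (maximalIdeal A) hCt hne
  rw [Submodule.mem_torsionBySet_iff] at hr
  let g : ResidueField A →ₗ[A] (E ⧸ LinearMap.range ψ) :=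
    (maximalIdeal A).liftQ (LinearMap.toSpanSingleton A _ (r • Submodule.Quotient.mk e))
      fun a ha => hr ⟨a, ha⟩
  obtain ⟨w, hw⟩ := Abelian.Ext.covariant_sequence_exact₃ κ hS
    (Abelian.Ext.mk₀ (ModuleCat.ofHom g)) (n₁ := 1) rfl (@Subsingleton.elim _ h1 _ _)
  obtain ⟨h, rfl⟩ := (Abelian.Ext.linearEquiv₀ (R := A)).symm.surjective w
  rw [Abelian.Ext.linearEquiv₀_symm_apply, Abelian.Ext.mk₀_comp_mk₀] at hw
  have hw' := congrArg ModuleCat.Hom.hom ((Abelian.Ext.mk₀_bijective _ _).1 hw)
  have hh : h.hom 1 ∈ LocCoh.torsionBy (maximalIdeal A) E := by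
    rw [Submodule.mem_torsionBySet_iff]
    rintro ⟨a, ha⟩
    show a • h.hom 1 = 0
    rw [← map_smul, LC.smul_residueField_eq_zero ha, map_zero]
  rw [LC.hull_socle hf, ← hψι] at hh
  obtain ⟨c, hc⟩ := hh
  apply hr0
  have h2 : g 1 = Submodule.Quotient.mk (h.hom 1) := (LinearMap.congr_fun hw' (1 : ResidueField A)).symm
  have h3 : g 1 = r • Submodule.Quotient.mk e := by
    rw [show (1 : ResidueField A) = residue A 1 from (map_one _).symm]
    exact one_smul A (r • (Submodule.Quotient.mk e : E ⧸ LinearMap.range ψ))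
  rw [← h3, h2, Submodule.Quotient.mk_eq_zero, ← hc]
  exact ⟨ι₀ c, rfl⟩

end step

/-- `Tor_i(E, κ)` is `κ` for `i = d` and zero otherwise. -/
theorem main (A : Type u) [CommRing A] [LocCoh.IsGorensteinLocalRing A] (d : ℕ) (hd : ringKrullDim A = d)
    (E : Type u) [AddCommGroup E] [Module A E] (f : ResidueField A →ₗ[A] E) (hf : InjHull.IsInjectiveHull f) :
    (∀ i : ℕ, i ≠ d → IsZero (((Tor (ModuleCat.{u} A) i).obj (ModuleCat.of A E)).obj
      (ModuleCat.of A (ResidueField A)))) ∧
      Nonempty (((Tor (ModuleCat.{u} A) d).obj (ModuleCat.of A E)).obj (ModuleCat.of A (ResidueField A)) ≅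
        ModuleCat.of A (ResidueField A)) := by
  have hG : LocCoh.IsGorensteinLocalRing A := inferInstance
  have hfin : IsFiniteLength A (ResidueField A) :=
    Module.length_ne_top_iff.1 (by rw [HSLib.length_residueField]; simp)
  obtain ⟨he0, he1⟩ := DualityLC.finLen_ext hG d hd (ResidueField A) hfin
  rw [HSLib.length_residueField] at he1
  let Q : ProjectiveResolution (ModuleCat.of A (ResidueField A)) := ProjectiveResolution.of _
  have hA : State A d 0 A := by
    refine ⟨fun i hi => ?_, ?_, fun i hi => he0 i (by omega), fun i hi => ?_⟩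
    · obtain ⟨k, rfl⟩ : ∃ k, i = k + 1 := ⟨i - 1, by omega⟩
      exact SGA7X.isZero_tor_flat _ _ k
    · exact ⟨((tensoringLeft (ModuleCat.{u} A)).obj (ModuleCat.of A A)).leftDerivedZeroIsoSelf.app _ ≪≫
        (MonoidalCategory.leftUnitor (C := ModuleCat.{u} A) (ModuleCat.of A (ResidueField A)))⟩
    · obtain rfl : i = d := by omega
      exact he1
  obtain ⟨rs, hlen, hrad⟩ := IntMultLib.exists_sop A d hd
  have hmem : ∀ r ∈ rs, r ∈ maximalIdeal A := fun r hr => hrad ▸ Ideal.le_radical (Ideal.subset_span hr)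
  have hCM : LocCoh.IsCohenMacaulayModule A A :=
    (LC.isCohenMacaulayLocalRing_of_gorenstein (R := A)).supportDim_eq_depth
  have hwr := LC.isWeaklyRegular_of_sop hCM d hd rs hlen hrad
  have hsub : ∀ l : List A, l.Subperm rs → IsWeaklyRegular A l := by
    rintro l ⟨l', hl', hsub⟩
    obtain ⟨l'', hperm⟩ := hsub.exists_perm_append
    have h1 := IsLocalRing.isWeaklyRegular_of_perm_of_subset_maximalIdeal hwr
      (hperm.trans (hl'.append_right l'')) hmem
    exact ((isWeaklyRegular_append_iff A l l'').1 h1).1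
  obtain ⟨T, i1, i2, hT, htors, -⟩ := iterate rs 0 A hA hmem hsub
  rw [zero_add, hlen] at hT
  have htorsion : LocCoh.IsPowerTorsion (maximalIdeal A) T := fun z => by
    obtain ⟨n, hn⟩ := Ideal.exists_pow_le_of_le_radical_of_fg
      (I := maximalIdeal A) (J := (A ∙ z).annihilator) (by
        rw [← hrad, Ideal.radical_le_radical_iff]
        refine Ideal.span_le.2 fun r hr => ?_
        obtain ⟨n, hn⟩ := htors r hr z
        exact ⟨n, (Submodule.mem_annihilator_span_singleton z _).2 hn⟩) (IsNoetherian.noetherian _)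
    exact ⟨n, fun a ha => (Submodule.mem_annihilator_span_singleton z a).1 (hn ha)⟩
  obtain ⟨e⟩ := nonempty_equiv_hull htorsion (hT.ext_length 0 (zero_add d)) (hT.ext_zero 1 (by omega)) hf
  refine ⟨fun i hi => (hT.tor_zero i hi).of_iso ?_, ⟨?_ ≪≫ hT.tor_eq.some⟩⟩
  · exact (((Tor (ModuleCat.{u} A) i).mapIso e.toModuleIso).app _).symm
  · exact (((Tor (ModuleCat.{u} A) d).mapIso e.toModuleIso).app _).symm

end Groth.Agent.CAlgH39.GorTor
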