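import Groth.Agent.KrullAkiExt.Basic
import Mathlib

/-!
# Fibres over height one primes for algebraic extensions of domains
-/

universe u

namespace Groth.Agent.CAlgH39.HeightOneFibre

theorem primesOver_maximalIdeal (R S K L : Type u)
    [CommRing R] [IsDomain R] [IsNoetherianRing R] [IsLocalRing R] (hdim : ringKrullDim R = 1)
    [CommRing S] [IsDomain S] [Algebra R S] [Field K] [Field L] [Algebra R K] [IsFractionRing R K]
    [Algebra S L] [IsFractionRing S L] [Algebra K L] [Algebra R L] [IsScalarTower R K L]
    [IsScalarTower R S L] [FiniteDimensional K L] :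
    (∀ n ∈ (IsLocalRing.maximalIdeal R).primesOver S, n.IsMaximal) ∧
      ((IsLocalRing.maximalIdeal R).primesOver S).Finite ∧
      ∀ n ∈ (IsLocalRing.maximalIdeal R).primesOver S, Module.Finite R (S ⧸ n) := by
  have : Ring.KrullDimLE 1 R := Ring.krullDimLE_iff.2 hdim.le
  have hA : Function.Injective (algebraMap S L) := IsFractionRing.injective S L
  obtain ⟨a, ham, ha⟩ : ∃ a ∈ IsLocalRing.maximalIdeal R, a ≠ 0 := by
    by_contra hcon
    push Not at hcon
    have : IsField R := IsLocalRing.isField_iff_maximalIdeal_eq.2 ((Submodule.eq_bot_iff _).2 hcon)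
    rw [ringKrullDim_eq_zero_of_isField this] at hdim
    exact absurd hdim (by norm_num)
  have haS : ∀ n ∈ (IsLocalRing.maximalIdeal R).primesOver S, algebraMap R S a ∈ n := fun n hn =>
    show a ∈ n.under R from hn.2.over ▸ ham
  have hfl : ∀ n ∈ (IsLocalRing.maximalIdeal R).primesOver S, IsFiniteLength R (S ⧸ n) := fun n hn =>
    KrullAkiExt.isArtinian_quotient (K := K) L S hA ha (haS n hn)
  refine ⟨fun n hn => ?_, ?_, fun n hn => ?_⟩
  · obtain ⟨-, hart⟩ := isFiniteLength_iff_isNoetherian_isArtinian.1 (hfl n hn)
    have := hn.1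
    have : IsArtinianRing (S ⧸ n) := isArtinian_of_tower R hart
    exact Ideal.Quotient.maximal_of_isField n (IsArtinianRing.isField_of_isDomain _)
  · set I := Ideal.span {algebraMap R S a}
    obtain ⟨-, hart⟩ := isFiniteLength_iff_isNoetherian_isArtinian.1
      (KrullAkiExt.isArtinian_quotient (K := K) L S hA ha (Ideal.mem_span_singleton_self (algebraMap R S a)))
    have : IsArtinianRing (S ⧸ I) := isArtinian_of_tower R hart
    refine Set.Finite.subset (Set.finite_range fun P : PrimeSpectrum (S ⧸ I) =>
      P.asIdeal.comap (Ideal.Quotient.mk I)) fun n hn => ?_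
    have := hn.1
    have hker : RingHom.ker (Ideal.Quotient.mk I) ≤ n := by
      rw [Ideal.mk_ker]; exact (Ideal.span_singleton_le_iff_mem n).2 (haS n hn)
    refine ⟨⟨n.map (Ideal.Quotient.mk I), Ideal.map_isPrime_of_surjective Ideal.Quotient.mk_surjective hker⟩, ?_⟩
    show (n.map (Ideal.Quotient.mk I)).comap (Ideal.Quotient.mk I) = n
    rw [Ideal.comap_map_of_surjective _ Ideal.Quotient.mk_surjective, sup_eq_left]
    exact hker
  · obtain ⟨hnoeth, -⟩ := isFiniteLength_iff_isNoetherian_isArtinian.1 (hfl n hn)
    exact Module.IsNoetherian.finite R (S ⧸ n)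

theorem finiteDimensional_fractionRing (A B : Type u) [CommRing A] [IsDomain A] [CommRing B] [IsDomain B]
    [Algebra A B] [FaithfulSMul A B] [Algebra.EssFiniteType A B] [Algebra.IsAlgebraic A B] :
    letI := FractionRing.liftAlgebra A (FractionRing B)
    FiniteDimensional (FractionRing A) (FractionRing B) := by
  letI := FractionRing.liftAlgebra A (FractionRing B)
  have : IsScalarTower A (FractionRing A) (FractionRing B) :=
    FractionRing.isScalarTower_liftAlgebra A (FractionRing B)
  have : Algebra.IsAlgebraic A (FractionRing B) :=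
    (IsFractionRing.isAlgebraic_iff' A B (FractionRing B)).1 inferInstance
  have : Algebra.IsAlgebraic (FractionRing A) (FractionRing B) :=
    Algebra.IsAlgebraic.extendScalars (R := A) (IsFractionRing.injective A (FractionRing A))
  have : Algebra.EssFiniteType B (FractionRing B) :=
    Algebra.EssFiniteType.of_isLocalization _ (nonZeroDivisors B)
  have : Algebra.EssFiniteType A (FractionRing B) := Algebra.EssFiniteType.comp A B (FractionRing B)
  have : Algebra.EssFiniteType (FractionRing A) (FractionRing B) :=
    Algebra.EssFiniteType.of_comp A (FractionRing A) (FractionRing B)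
  exact Algebra.finite_of_essFiniteType_of_isAlgebraic

theorem primesOver_maximalIdeal_of_algebraic (R S : Type u) [CommRing R] [IsDomain R] [IsNoetherianRing R]
    [IsLocalRing R] (hdim : ringKrullDim R = 1) [CommRing S] [IsDomain S] [Algebra R S] [FaithfulSMul R S]
    [Algebra.EssFiniteType R S] [Algebra.IsAlgebraic R S] :
    (∀ n ∈ (IsLocalRing.maximalIdeal R).primesOver S, n.IsMaximal) ∧
      ((IsLocalRing.maximalIdeal R).primesOver S).Finite := by
  letI := FractionRing.liftAlgebra R (FractionRing S)
  have : IsScalarTower R (FractionRing R) (FractionRing S) :=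
    FractionRing.isScalarTower_liftAlgebra R (FractionRing S)
  have := finiteDimensional_fractionRing R S
  obtain ⟨h1, h2, -⟩ := primesOver_maximalIdeal R S (FractionRing R) (FractionRing S) hdim
  exact ⟨h1, h2⟩

theorem finite_primesOver_and_height (A B : Type u) [CommRing A] [IsDomain A]
    [IsNoetherianRing A] [CommRing B] [IsDomain B] [Algebra A B] [FaithfulSMul A B]
    [Algebra.FiniteType A B] [Algebra.IsAlgebraic A B] (p : Ideal A) [p.IsPrime]
    (hp : p.height = 1) :
    (p.primesOver B).Finite ∧ ∀ q ∈ p.primesOver B, q.height = 1 := by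
  have hinj : Function.Injective (algebraMap A B) := FaithfulSMul.algebraMap_injective A B
  let T := Algebra.algebraMapSubmonoid B p.primeCompl
  have hT : T ≤ nonZeroDivisors B := by
    rintro _ ⟨s, hs, rfl⟩
    refine mem_nonZeroDivisors_of_ne_zero fun h => hs ?_
    rw [(map_eq_zero_iff _ hinj).1 h]
    exact p.zero_mem
  let R := Localization.AtPrime p
  let S := Localization T
  letI : Algebra R S := localizationAlgebra p.primeCompl B
  have : IsScalarTower A R S := isScalarTower_localizationAlgebra p.primeCompl B
  have : IsDomain S := IsLocalization.isDomain_localization hT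
  have hRS : Function.Injective (algebraMap R S) := by
    refine IsLocalization.injective_of_map_algebraMap_zero (M := p.primeCompl) R (algebraMap R S) fun x hx => ?_
    rw [← IsScalarTower.algebraMap_apply A R S, IsScalarTower.algebraMap_apply A B S,
      (IsLocalization.injective S hT).eq_iff' (map_zero _), map_eq_zero_iff _ hinj] at hx
    rw [hx, map_zero]
  have : FaithfulSMul R S := (faithfulSMul_iff_algebraMap_injective R S).2 hRS
  have : Algebra.EssFiniteType R S := by
    have : Algebra.EssFiniteType B S := Algebra.EssFiniteType.of_isLocalization _ T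
    have : Algebra.EssFiniteType A S := Algebra.EssFiniteType.comp A B S
    exact Algebra.EssFiniteType.of_comp A R S
  have hARinj : Function.Injective (algebraMap A R) :=
    IsLocalization.injective R p.primeCompl_le_nonZeroDivisors
  have : Algebra.IsAlgebraic R S := ⟨fun z => by
    obtain ⟨⟨b, ⟨_, s, hs, rfl⟩⟩, hz⟩ := IsLocalization.surj T z
    have hb : IsAlgebraic A (algebraMap B S b) :=
      (Algebra.IsAlgebraic.isAlgebraic (R := A) b).algHom (IsScalarTower.toAlgHom A B S)
    have hb' : IsAlgebraic R (algebraMap B S b) := hb.extendScalars hARinj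
    obtain ⟨v, hv⟩ := IsLocalization.map_units R (⟨s, hs⟩ : p.primeCompl)
    rw [← IsScalarTower.algebraMap_apply A B S, IsScalarTower.algebraMap_apply A R S] at hz
    have hzb : z = (↑v⁻¹ : R) • algebraMap B S b := by
      rw [← hz, ← hv, Algebra.smul_def, mul_left_comm, ← map_mul, Units.inv_mul, map_one, mul_one]
    rw [hzb]
    exact hb'.smul _⟩
  have : IsDomain R := IsLocalization.isDomain_localization p.primeCompl_le_nonZeroDivisors
  obtain ⟨hmax, hfin⟩ := primesOver_maximalIdeal_of_algebraic R S (by
    rw [IsLocalization.AtPrime.ringKrullDim_eq_height p R, hp]; rfl)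
  have hdisj : ∀ q ∈ p.primesOver B, Disjoint (T : Set B) q := by
    intro q hq
    rw [Set.disjoint_left]
    rintro _ ⟨s, hs, rfl⟩ hsq
    exact hs (show s ∈ p by rw [hq.2.over]; exact hsq)
  have hmap : ∀ q ∈ p.primesOver B, q.map (algebraMap B S) ∈ (IsLocalRing.maximalIdeal R).primesOver S := by
    intro q hq
    have := hq.1
    have hc : (q.map (algebraMap B S)).comap (algebraMap B S) = q :=
      IsLocalization.under_map_of_isPrime_disjoint T S ‹q.IsPrime› (hdisj q hq)
    have hP : (q.map (algebraMap B S)).IsPrime := IsLocalization.isPrime_of_isPrime_disjoint T S q ‹_› (hdisj q hq)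
    refine ⟨hP, ⟨?_⟩⟩
    have h1 : ((q.map (algebraMap B S)).under R).under A = p := by
      rw [Ideal.under_def, Ideal.under_def, Ideal.comap_comap, ← IsScalarTower.algebraMap_eq A R S,
        IsScalarTower.algebraMap_eq A B S, ← Ideal.comap_comap, hc, hq.2.over, Ideal.under_def]
    rw [← IsLocalization.map_comap p.primeCompl R ((q.map (algebraMap B S)).under R), h1,
      Localization.AtPrime.map_eq_maximalIdeal]
  have hinjOn : Set.InjOn (fun q : Ideal B => q.map (algebraMap B S)) (p.primesOver B) := by
    intro q hq q' hq' h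
    have := congrArg (fun J => J.under B) h
    simp only at this
    rwa [IsLocalization.under_map_of_isPrime_disjoint T S hq.1 (hdisj q hq),
      IsLocalization.under_map_of_isPrime_disjoint T S hq'.1 (hdisj q' hq')] at this
  refine ⟨Set.Finite.of_injOn hmap hinjOn hfin, fun q hq => ?_⟩
  have := hq.1
  have hp0 : p ≠ ⊥ := by rintro rfl; simp at hp
  have hq0 : q ≠ ⊥ := fun h => hp0 (by
    rw [hq.2.over, h, Ideal.under_def, Ideal.comap_bot_of_injective _ hinj])
  refine le_antisymm ?_ ?_
  · rw [show (1 : ℕ∞) = ((1 : ℕ) : ℕ∞) from rfl, Ideal.height_le_iff]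
    intro q' hq' hlt
    suffices q' = ⊥ by subst this; simp
    by_contra hne
    have hlt' : q' < q := hlt
    have h1 : q'.under A ≠ ⊥ := by
      obtain ⟨x, hx, hx0⟩ := Submodule.exists_mem_ne_zero_of_ne_bot hne
      obtain ⟨a, ha, c, hc⟩ := (Algebra.IsAlgebraic.isAlgebraic (R := A) x).exists_nonzero_dvd
        (mem_nonZeroDivisors_of_ne_zero hx0)
      exact fun h => ha (by
        have : a ∈ q'.under A := show algebraMap A B a ∈ q' from hc ▸ q'.mul_mem_right c hx
        rwa [h, Ideal.mem_bot] at this)
    have h2 : q'.under A ≤ p := by rw [hq.2.over]; exact Ideal.comap_mono hlt'.le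
    have h3 : q'.under A = p := by
      by_contra h3
      have hlt2 : q'.under A < p := lt_of_le_of_ne h2 h3
      have := Ideal.height_strict_mono_of_isPrime hlt2
      rw [hp, ENat.lt_one_iff_eq_zero] at this
      have hbot : q'.under A ∈ minimalPrimes A := Ideal.height_eq_zero_iff.1 this
      exact h1 (le_bot_iff.1 (by simpa using hbot.2 (y := (⊥ : Ideal A)) (by simp [Ideal.isPrime_bot]) bot_le))
    have hq'mem : q' ∈ p.primesOver B := ⟨hq', ⟨h3.symm⟩⟩
    have := hmax _ (hmap q' hq'mem)
    exact hlt'.ne (hinjOn hq'mem hq (this.eq_of_le (hmap q hq).1.ne_top (Ideal.map_mono hlt'.le)))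
  · rw [Order.one_le_iff_pos, pos_iff_ne_zero]
    intro h0
    exact hq0 (by simpa [IsDomain.minimalPrimes_eq_singleton_bot] using Ideal.height_eq_zero_iff.1 h0)

end Groth.Agent.CAlgH39.HeightOneFibre
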