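import Groth.Agent.LocalCrit.Flatness
import Mathlib

/-! A map which is injective modulo the maximal ideal, into a flat module. -/

universe u

open TensorProduct

namespace Groth.Agent.CAlgH39.InjModMax

section Devissage

variable {R M N : Type u} [CommRing R] [AddCommGroup M] [Module R M] [AddCommGroup N] [Module R N]

theorem inj_killed (I : Ideal R) [I.IsMaximal] (u : M →ₗ[R] N)
    (hu : Function.Injective (u.lTensor (R ⧸ I))) (V : Type u) [AddCommGroup V] [Module R V]
    (hV : Module.IsTorsionBySet R V I) : Function.Injective (u.lTensor V) := by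
  letI := Ideal.Quotient.field I
  letI := hV.module
  haveI : IsScalarTower R (R ⧸ I) V := hV.isScalarTower
  let g : (R ⧸ I) ⊗[R] M →ₗ[R ⧸ I] (R ⧸ I) ⊗[R] N := AlgebraTensorModule.map LinearMap.id u
  have hg : Function.Injective (g.lTensor V) := Module.Flat.lTensor_preserves_injective_linearMap g hu
  let e : ∀ (P : Type u) [AddCommGroup P] [Module R P],
      V ⊗[R ⧸ I] ((R ⧸ I) ⊗[R] P) ≃ₗ[R] V ⊗[R] P := fun P _ _ =>
    (AlgebraTensorModule.cancelBaseChange R (R ⧸ I) (R ⧸ I) V P).restrictScalars R
  have h2 : ∀ x, u.lTensor V (e M x) = e N (g.lTensor V x) := by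
    intro x
    induction x using TensorProduct.induction_on with
    | zero => simp
    | add y z hy hz => simp only [map_add, hy, hz]
    | tmul p y =>
      induction y using TensorProduct.induction_on with
      | zero => simp
      | tmul c m =>
        obtain ⟨c, rfl⟩ := Ideal.Quotient.mk_surjective c
        simp [e, g]
      | add y z hy hz => simp only [tmul_add, map_add, hy, hz]
  intro x y hxy
  obtain ⟨x, rfl⟩ := (e M).surjective x
  obtain ⟨y, rfl⟩ := (e M).surjective y
  rw [h2, h2] at hxy
  exact congrArg _ (hg ((e N).injective hxy))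

theorem inj_of_exact [Module.Flat R N] (u : M →ₗ[R] N) {V' V V'' : Type u}
    [AddCommGroup V'] [Module R V'] [AddCommGroup V] [Module R V] [AddCommGroup V''] [Module R V'']
    {a : V' →ₗ[R] V} {b : V →ₗ[R] V''} (ha : Function.Injective a) (hb : Function.Surjective b)
    (hab : Function.Exact a b) (h' : Function.Injective (u.lTensor V'))
    (h'' : Function.Injective (u.lTensor V'')) : Function.Injective (u.lTensor V) := by
  rw [← LinearMap.ker_eq_bot, LinearMap.ker_eq_bot']
  intro x hx
  have hbx : b.rTensor M x = 0 := h'' (by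
    rw [map_zero, ← LinearMap.comp_apply, LinearMap.lTensor_comp_rTensor, ← LinearMap.rTensor_comp_lTensor,
      LinearMap.comp_apply, hx, map_zero])
  obtain ⟨y, rfl⟩ := (rTensor_exact M hab hb x).mp hbx
  have : u.lTensor V' y = 0 := Module.Flat.rTensor_preserves_injective_linearMap (M := N) a ha (by
    rw [map_zero, ← LinearMap.comp_apply, LinearMap.rTensor_comp_lTensor, ← LinearMap.lTensor_comp_rTensor,
      LinearMap.comp_apply, hx])
  rw [h' (this.trans (map_zero _).symm), map_zero]

theorem inj_pow [Module.Flat R N] (I : Ideal R) [I.IsMaximal] (u : M →ₗ[R] N)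
    (hu : Function.Injective (u.lTensor (R ⧸ I))) :
    ∀ n : ℕ, Function.Injective (u.lTensor (R ⧸ I ^ n))
  | 0 => by
    have : Subsingleton (R ⧸ I ^ 0) := Submodule.Quotient.subsingleton_iff.2 (by simp)
    exact fun x y _ => Subsingleton.elim x y
  | n + 1 => by
    have hle : I ^ (n + 1) ≤ I ^ n := Ideal.pow_le_pow_right n.le_succ
    let b : (R ⧸ I ^ (n + 1)) →ₗ[R] R ⧸ I ^ n := Submodule.factor hle
    let V : Submodule R (R ⧸ I ^ (n + 1)) := LinearMap.ker b
    have hVt : Module.IsTorsionBySet R V (I : Set R) := by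
      rintro ⟨v, hv⟩ ⟨a, ha⟩
      obtain ⟨r, rfl⟩ := Submodule.Quotient.mk_surjective _ v
      have hr : r ∈ I ^ n := by
        simpa [V, b, Submodule.Quotient.mk_eq_zero, Ideal.Quotient.eq_zero_iff_mem] using hv
      refine Subtype.ext ?_
      change a • (Submodule.Quotient.mk r : R ⧸ I ^ (n + 1)) = 0
      rw [← Submodule.Quotient.mk_smul, Submodule.Quotient.mk_eq_zero, smul_eq_mul, pow_succ']
      exact Ideal.mul_mem_mul ha hr
    exact inj_of_exact u V.injective_subtype (Submodule.factor_surjective hle)
      (LinearMap.exact_subtype_ker_map b) (inj_killed I u hu V hVt) (inj_pow I u hu n)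

theorem quotTensor_one (I : Ideal R) (x : M) :
    quotTensorEquivQuotSMul M I ((1 : R ⧸ I) ⊗ₜ[R] x) = Submodule.Quotient.mk x := by
  rw [← map_one (Ideal.Quotient.mk I), quotTensorEquivQuotSMul_mk_tmul, one_smul]

end Devissage

variable {R S M N : Type u} [CommRing R] [CommRing S] [IsLocalRing R] [IsLocalRing S]
  [IsNoetherianRing R] [IsNoetherianRing S] [Algebra R S] [IsLocalHom (algebraMap R S)]
  [AddCommGroup M] [Module S M] [Module R M] [IsScalarTower R S M] [Module.Finite S M]
  [AddCommGroup N] [Module S N] [Module R N] [IsScalarTower R S N] [Module.Finite S N]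

theorem injective_and_flat [Module.Flat R N] (u : M →ₗ[S] N)
    (hu : ∀ x : M, u x ∈ (IsLocalRing.maximalIdeal R).map (algebraMap R S) • (⊤ : Submodule S N) →
      x ∈ (IsLocalRing.maximalIdeal R).map (algebraMap R S) • (⊤ : Submodule S M)) :
    Function.Injective u ∧ Module.Flat R (N ⧸ LinearMap.range u) := by
  set m := IsLocalRing.maximalIdeal R
  have hJ : m.map (algebraMap R S) ≤ Ideal.jacobson ⊥ := by
    rw [IsLocalRing.jacobson_eq_maximalIdeal ⊥ bot_ne_top]
    exact ((IsLocalRing.local_hom_TFAE (algebraMap R S)).out 0 2).mp ‹_›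
  have hM : ∀ (I : Ideal R) (x : M),
      x ∈ I • (⊤ : Submodule R M) ↔ x ∈ I.map (algebraMap R S) • (⊤ : Submodule S M) := fun I x => by
    rw [← Submodule.restrictScalars_mem R (I.map (algebraMap R S) • ⊤),
      Submodule.restrictScalars_map_smul_eq, Submodule.restrictScalars_top]
  have hN : ∀ (I : Ideal R) (x : N),
      x ∈ I • (⊤ : Submodule R N) ↔ x ∈ I.map (algebraMap R S) • (⊤ : Submodule S N) := fun I x => by
    rw [← Submodule.restrictScalars_mem R (I.map (algebraMap R S) • ⊤),
      Submodule.restrictScalars_map_smul_eq, Submodule.restrictScalars_top]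
  let u' : M →ₗ[R] N := u.restrictScalars R
  have hu0 : Function.Injective (u'.lTensor (R ⧸ m)) := by
    rw [← LinearMap.ker_eq_bot, LinearMap.ker_eq_bot']
    intro z hz
    obtain ⟨x, rfl⟩ := TensorProduct.mk_surjective R M (R ⧸ m) Ideal.Quotient.mk_surjective z
    have h1 := congrArg (quotTensorEquivQuotSMul N m) hz
    rw [map_zero] at h1
    have hx : u x ∈ m • (⊤ : Submodule R N) := by
      rw [← Submodule.Quotient.mk_eq_zero, ← h1]
      rw [← quotTensor_one m (u x)]; rfl
    apply (quotTensorEquivQuotSMul M m).injective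
    rw [map_zero]
    have h2 := (hM m x).2 (hu x ((hN m _).1 hx))
    rw [← Submodule.Quotient.mk_eq_zero] at h2
    exact (quotTensor_one m x).trans h2
  have hinj : Function.Injective u := by
    rw [← LinearMap.ker_eq_bot, LinearMap.ker_eq_bot']
    intro x hx
    refine LocalCrit.eq_zero_of_forall_mem_smul _ hJ fun n => ?_
    rw [← Ideal.map_pow]
    refine (hM (m ^ n) x).1 ?_
    have h1 : ((1 : R ⧸ m ^ n) ⊗ₜ[R] x) = 0 := inj_pow m u' hu0 n (by simp [u', hx])
    have h2 := congrArg (quotTensorEquivQuotSMul M (m ^ n)) h1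
    rw [map_zero] at h2
    rw [← Submodule.Quotient.mk_eq_zero, ← h2]
    exact (quotTensor_one (m ^ n) x).symm
  refine ⟨hinj, ?_⟩
  have h1 : Function.Injective (m.subtype.rTensor (N ⧸ LinearMap.range u)) := by
    let q : N →ₗ[R] N ⧸ LinearMap.range u := (LinearMap.range u).mkQ.restrictScalars R
    have hq : Function.Surjective q := (LinearMap.range u).mkQ_surjective
    rw [← LinearMap.ker_eq_bot, LinearMap.ker_eq_bot']
    intro y hy
    obtain ⟨z, rfl⟩ := LinearMap.lTensor_surjective m hq y
    have hlid : ∀ (P : Type u) [AddCommGroup P] [Module R P] (w : m ⊗[R] P),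
        TensorProduct.lid R P (m.subtype.rTensor P w) ∈ m • (⊤ : Submodule R P) := by
      intro P _ _ w
      induction w using TensorProduct.induction_on with
      | zero => simp
      | add a b ha hb => simp only [map_add]; exact add_mem ha hb
      | tmul a p => simpa using Submodule.smul_mem_smul a.2 (Submodule.mem_top (x := p))
    have hnat : ∀ w : m ⊗[R] N, TensorProduct.lid R _ (m.subtype.rTensor _ (q.lTensor m w)) =
        q (TensorProduct.lid R N (m.subtype.rTensor N w)) := by
      intro w
      induction w using TensorProduct.induction_on with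
      | zero => simp
      | add a b ha hb => simp only [map_add, ha, hb]
      | tmul a p => simp
    have hz := hnat z
    rw [hy, map_zero] at hz
    obtain ⟨x, hx⟩ := (Submodule.Quotient.mk_eq_zero _).1 hz.symm
    have hxm := (hM m x).2 (hu x ((hN m _).1 (by rw [hx]; exact hlid N z)))
    have hsur : ∀ x ∈ m • (⊤ : Submodule R M), ∃ w : m ⊗[R] M, TensorProduct.lid R M (m.subtype.rTensor M w) = x := by
      intro x hx
      induction hx using Submodule.smul_induction_on' with
      | smul a ha p _ => exact ⟨(⟨a, ha⟩ : m) ⊗ₜ p, by simp⟩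
      | add p _ q _ hp hq =>
        obtain ⟨wp, hwp⟩ := hp
        obtain ⟨wq, hwq⟩ := hq
        exact ⟨wp + wq, by simp [hwp, hwq]⟩
    obtain ⟨w, hw⟩ := hsur x hxm
    have hzw : u'.lTensor m w = z := by
      refine Module.Flat.rTensor_preserves_injective_linearMap (M := N) m.subtype m.injective_subtype
        ((TensorProduct.lid R N).injective ?_)
      rw [← hx, ← hw]
      clear hw
      induction w using TensorProduct.induction_on with
      | zero => simp
      | add a b ha hb => simp only [map_add, ha, hb]
      | tmul a p => simp [u']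
    rw [← hzw, ← LinearMap.comp_apply, ← LinearMap.lTensor_comp,
      show q ∘ₗ u' = 0 from LinearMap.ext fun a =>
        (Submodule.Quotient.mk_eq_zero _).2 (LinearMap.mem_range_self u a),
      LinearMap.lTensor_zero, LinearMap.zero_apply]
  exact LocalCrit.flat_of_le_jacobson (B := S) m hJ h1 (LocalCrit.keepsInjective_of_isMaximal m _)

end Groth.Agent.CAlgH39.InjModMax
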