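import Groth.Agent.CAlgH39.FlatModelBC
import Mathlib

/-!
A flat quotient of a finite free module over a polynomial ring whose relations are finitely generated
locally on the base is finitely presented, when the base embeds into finitely many of its local rings.
-/

universe u

open MvPolynomial TensorProduct

namespace Groth.Agent.CAlgH39.LocalFP

open Groth.Agent.FlatModel Groth.Agent.CAlgH39.FlatModelBC

variable {a n : ℕ}

theorem flatC_of_algHom' {R₀ : Type u} [CommRing R₀] (K₀ : Submodule (MvPolynomial (Fin n) R₀) (V a n R₀))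
    {R S : Type u} [CommRing R] [CommRing S] [Algebra R₀ R] [Algebra R₀ S] (f : R →ₐ[R₀] S) (h : FlatC K₀ R) :
    FlatC K₀ S := by
  let _ : Algebra R S := f.toRingHom.toAlgebra
  have : IsScalarTower R₀ R S := IsScalarTower.of_algebraMap_eq fun r => (f.commutes r).symm
  exact flatC_of_flatC K₀ R S h

/-- Maps to a local ring from a finitely presented algebra spread to a neighbourhood. -/
theorem exists_away_lift {R₀ R : Type u} [CommRing R₀] [IsNoetherianRing R₀] [CommRing R] [Algebra R₀ R]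
    (p : Ideal R) [p.IsPrime] {Rp : Type u} [CommRing Rp] [Algebra R Rp] [IsLocalization.AtPrime Rp p]
    [Algebra R₀ Rp] [IsScalarTower R₀ R Rp] (S₁ : Subalgebra R₀ Rp) (hS₁ : S₁.FG) :
    ∃ f : R, f ∉ p ∧ ∀ (Rf : Type u) [CommRing Rf] [Algebra R Rf] [IsLocalization.Away f Rf] [Algebra R₀ Rf]
      [IsScalarTower R₀ R Rf], Nonempty (S₁ →ₐ[R₀] Rf) := by
  classical
  obtain ⟨s, rfl⟩ := hS₁
  choose rt hrt using fun x : (s : Set Rp) => IsLocalization.surj p.primeCompl (x : Rp)
  let π : MvPolynomial (s : Set Rp) R₀ →ₐ[R₀] Rp := aeval fun x : (s : Set Rp) => (x : Rp)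
  obtain ⟨E, hE⟩ : (RingHom.ker π).FG := IsNoetherian.noetherian _
  let f₀ : R := ∏ x, ((rt x).2 : R)
  have hf₀ : f₀ ∈ p.primeCompl := prod_mem fun x _ => (rt x).2.2
  let R₀f := Localization.Away f₀
  have hu : ∀ x, IsUnit (algebraMap R R₀f ((rt x).2 : R)) := fun x =>
    isUnit_of_dvd_unit (map_dvd _ (Finset.dvd_prod_of_mem (fun x => ((rt x).2 : R)) (Finset.mem_univ x)))
      (IsLocalization.Away.algebraMap_isUnit f₀)
  let θ₀ : MvPolynomial (s : Set Rp) R₀ →ₐ[R₀] R₀f :=
    aeval fun x => algebraMap R R₀f (rt x).1 * ((hu x).unit⁻¹ : R₀fˣ)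
  let g : R₀f →ₐ[R] Rp :=
    IsLocalization.Away.liftAlgHom f₀ (f := Algebra.ofId R Rp) (IsLocalization.map_units Rp ⟨f₀, hf₀⟩)
  have hg : (g.restrictScalars R₀).comp θ₀ = π := by
    refine algHom_ext fun x => ?_
    simp only [θ₀, π, AlgHom.comp_apply, aeval_X, AlgHom.restrictScalars_apply, map_mul]
    refine (IsLocalization.map_units Rp (rt x).2).mul_left_injective ?_
    show _ * algebraMap R Rp ((rt x).2 : R) = _ * algebraMap R Rp ((rt x).2 : R)
    rw [hrt x, ← AlgHom.commutes g ((rt x).2 : R), mul_assoc, ← map_mul g, IsUnit.val_inv_mul, map_one, mul_one,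
      AlgHom.commutes]
  have hker : ∀ e ∈ E, ∃ (r : R) (k : ℕ) (v : R), v ∈ p.primeCompl ∧ θ₀ e * algebraMap R R₀f (f₀ ^ k) = algebraMap R R₀f r ∧
      v * r = 0 := by
    intro e he
    obtain ⟨⟨r, _, k, rfl⟩, hr⟩ := IsLocalization.surj (Submonoid.powers f₀) (θ₀ e)
    have h0 : algebraMap R Rp r = 0 := by
      rw [← AlgHom.commutes g r, ← hr, map_mul g, show g (θ₀ e) = π e from AlgHom.congr_fun hg e,
        show π e = 0 from hE.le (Submodule.subset_span he), zero_mul]
    obtain ⟨v, hv⟩ := (IsLocalization.map_eq_zero_iff p.primeCompl Rp r).1 h0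
    exact ⟨r, k, v, v.2, hr, hv⟩
  choose! r k v hv hr hvr using hker
  let f : R := f₀ * ∏ e ∈ E, v e
  have hf : f ∈ p.primeCompl := mul_mem hf₀ (prod_mem fun e he => hv e he)
  refine ⟨f, hf, fun Rf _ _ _ _ _ => ?_⟩
  have hunit : ∀ d, d ∣ f → IsUnit (algebraMap R Rf d) := fun d hd =>
    isUnit_of_dvd_unit (map_dvd _ hd) (IsLocalization.Away.algebraMap_isUnit f)
  let j : R₀f →ₐ[R] Rf :=
    IsLocalization.Away.liftAlgHom f₀ (f := Algebra.ofId R Rf) (hunit f₀ (dvd_mul_right _ _))
  let θ := (j.restrictScalars R₀).comp θ₀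
  have hθ : RingHom.ker π.rangeRestrict ≤ RingHom.ker θ := by
    intro x hx
    have hx' : x ∈ RingHom.ker π := congrArg Subtype.val hx
    refine (Submodule.span_le.2 fun e he => ?_ : Submodule.span _ (E : Set _) ≤ RingHom.ker θ) (hE.ge hx')
    have h1 : j (θ₀ e) * algebraMap R Rf (f₀ ^ k e) = algebraMap R Rf (r e) := by
      rw [← AlgHom.commutes j, ← map_mul j, hr e he, AlgHom.commutes]
    have h2 : algebraMap R Rf (r e) = 0 :=
      (hunit (v e) (dvd_mul_of_dvd_right (Finset.dvd_prod_of_mem v he) _)).mul_right_eq_zero.1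
        (by rw [← map_mul, hvr e he, map_zero])
    rw [h2, map_pow] at h1
    exact (((hunit f₀ (dvd_mul_right _ _)).pow _).mul_left_eq_zero.1 h1 :)
  have hrange : Algebra.adjoin R₀ (s : Set Rp) = π.range := by
    rw [show π.range = (aeval (R := R₀) fun x : (s : Set Rp) => (x : Rp)).range from rfl,
      ← Algebra.adjoin_range_eq_range_aeval, Subtype.range_coe]
  refine ⟨?_⟩
  exact (((Ideal.Quotient.liftₐ _ θ fun x hx => hθ hx).comp
    (Ideal.quotientKerAlgEquivOfSurjective (f := π.rangeRestrict) π.rangeRestrict_surjective).symm.toAlgHom).comp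
    (Subalgebra.equivOfEq _ _ hrange).toAlgHom)

/-- The relations are finitely generated. -/
theorem fg_of_locally_fg {R : Type u} [CommRing R] (K : Submodule (MvPolynomial (Fin n) R) (V a n R))
    [Module.Flat R (V a n R ⧸ K)] (s : Finset (PrimeSpectrum R))
    (hs : Function.Injective fun r : R => fun p : s => algebraMap R (Localization.AtPrime p.1.asIdeal) r)
    (hloc : ∀ p : PrimeSpectrum R, ∃ L : Finset (V a n R), ↑L ⊆ (K : Set (V a n R)) ∧
      ∀ x ∈ K, ∃ r ∉ p.asIdeal, r • x ∈ Submodule.span (MvPolynomial (Fin n) R) (L : Set (V a n R))) :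
    K.FG := by
  classical
  choose L hLK hL using hloc
  have step : ∀ p : PrimeSpectrum R, ∃ f : R, f ∉ p.asIdeal ∧ ∀ x ∈ K, ∃ N : ℕ,
      f ^ N • x ∈ Submodule.span (MvPolynomial (Fin n) R) ((L p ∪ s.biUnion L : Finset _) : Set (V a n R)) := by
    intro p
    set G := L p ∪ s.biUnion L with hG
    have hGK : (G : Set (V a n R)) ⊆ K := by
      rw [hG, Finset.coe_union, Finset.coe_biUnion]
      exact Set.union_subset (hLK p) (Set.iUnion₂_subset fun q _ => hLK q)
    have hsub : ∀ q, q = p ∨ q ∈ s → ∀ x ∈ K, ∃ r ∉ q.asIdeal, r • x ∈ Submodule.span (MvPolynomial (Fin n) R) (G : Set (V a n R)) := by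
      intro q hq x hx
      obtain ⟨r, hr, hrx⟩ := hL q x hx
      refine ⟨r, hr, Submodule.span_mono ?_ hrx⟩
      rcases hq with rfl | hq
      · exact Finset.coe_subset.2 Finset.subset_union_left
      · exact Finset.coe_subset.2 ((Finset.subset_biUnion_of_mem L hq).trans Finset.subset_union_right)
    -- a noetherian model of the relations `G`
    let T₀ : Finset R := G.biUnion fun g => Finset.univ.biUnion fun i => (g i).coeffs
    let R₀ : Subalgebra ℤ R := Algebra.adjoin ℤ (T₀ : Set R)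
    have : Algebra.FiniteType ℤ R₀ := (Subalgebra.fg_iff_finiteType R₀).1 ⟨T₀, rfl⟩
    have : IsNoetherianRing R₀ := Algebra.FiniteType.isNoetherianRing ℤ R₀
    have hlift : ∀ g ∈ G, ∃ w : V a n R₀, mapV (algebraMap R₀ R) w = g := by
      intro g hg
      have : ∀ i, ∃ q : MvPolynomial (Fin n) R₀, MvPolynomial.map (algebraMap R₀ R) q = g i := fun i => by
        refine MvPolynomial.mem_range_map_iff_coeffs_subset.2 fun c hc => ⟨⟨c, Algebra.subset_adjoin ?_⟩, rfl⟩
        exact Finset.mem_biUnion.2 ⟨g, hg, Finset.mem_biUnion.2 ⟨i, Finset.mem_univ _, hc⟩⟩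
      choose q hq using this
      exact ⟨q, funext hq⟩
    choose w hw using hlift
    let K₀ : Submodule (MvPolynomial (Fin n) R₀) (V a n R₀) :=
      Submodule.span _ (Set.range fun g : G => w g.1 g.2)
    have hKK : KK K₀ R = Submodule.span (MvPolynomial (Fin n) R) (G : Set (V a n R)) := by
      refine le_antisymm (Submodule.span_le.2 ?_) (Submodule.span_le.2 fun g hg => ?_)
      · rintro _ ⟨v, hv, rfl⟩
        refine Submodule.span_mono ?_ (mapV_mem_span (algebraMap R₀ R) hv)
        rintro _ ⟨_, ⟨g, rfl⟩, rfl⟩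
        rw [hw]; exact g.2
      · exact Submodule.subset_span ⟨w g hg, Submodule.subset_span ⟨⟨g, hg⟩, rfl⟩, hw g hg⟩
    have hKle : KK K₀ R ≤ K := hKK ▸ Submodule.span_le.2 hGK
    let q : (V a n R ⧸ KK K₀ R) →ₗ[R] (V a n R ⧸ K) := (Submodule.factor hKle).restrictScalars R
    have hqs : Function.Surjective q := Submodule.factor_surjective hKle
    -- flatness at `p`
    let Rp := Localization.AtPrime p.asIdeal
    let q' := q.baseChange Rp
    have hq' : Function.Bijective q' := by
      refine ⟨?_, LinearMap.lTensor_surjective _ hqs⟩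
      rw [injective_iff_map_eq_zero]
      intro z hz
      obtain ⟨⟨y, t⟩, hy⟩ := IsLocalizedModule.surj p.asIdeal.primeCompl (TensorProduct.mk R Rp (V a n R ⧸ KK K₀ R) 1) z
      obtain ⟨y, rfl⟩ := Submodule.Quotient.mk_surjective _ y
      have h0 : (1 : Rp) ⊗ₜ[R] (Submodule.Quotient.mk y : V a n R ⧸ K) = 0 := by
        have := congrArg q' hy
        rw [Submonoid.smul_def, LinearMap.map_smul_of_tower, hz, smul_zero] at this
        exact this.symm
      obtain ⟨u, hu⟩ := (IsLocalizedModule.eq_zero_iff p.asIdeal.primeCompl (TensorProduct.mk R Rp (V a n R ⧸ K) 1)).1 h0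
      rw [Submonoid.smul_def, ← Submodule.Quotient.mk_smul, Submodule.Quotient.mk_eq_zero] at hu
      obtain ⟨r, hr, hry⟩ := hsub p (Or.inl rfl) _ hu
      rw [← hKK] at hry
      have hy0 : TensorProduct.mk R Rp (V a n R ⧸ KK K₀ R) 1 (Submodule.Quotient.mk y) = 0 := by
        refine (IsLocalizedModule.eq_zero_iff p.asIdeal.primeCompl _).2 ⟨⟨r, hr⟩ * u, ?_⟩
        rw [Submonoid.smul_def, Submonoid.coe_mul, mul_smul, ← Submodule.Quotient.mk_smul,
          ← Submodule.Quotient.mk_smul, Submodule.Quotient.mk_eq_zero]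
        exact hry
      exact IsLocalizedModule.smul_injective (TensorProduct.mk R Rp (V a n R ⧸ KK K₀ R) 1) t
        (show t • z = t • 0 by rw [hy, hy0, smul_zero])
    have hflat : Module.Flat Rp (Rp ⊗[R] (V a n R ⧸ KK K₀ R)) :=
      Module.Flat.of_linearEquiv (LinearEquiv.ofBijective q' hq')
    have hC : FlatC K₀ Rp := by
      obtain ⟨e⟩ := nonempty_equiv K₀ R Rp
      exact (flatC_iff_flat K₀).2 (Module.Flat.of_linearEquiv e.symm)
    obtain ⟨S₁, hS₁, hCS⟩ := exists_fg_flatC K₀ hC
    obtain ⟨f, hf, hθ⟩ := exists_away_lift (R₀ := R₀) (R := R) p.asIdeal S₁ hS₁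
    refine ⟨f, hf, fun x hx => ?_⟩
    -- flatness over `R_f`
    let Rf := Localization.Away f
    let Z := Rf ⊗[R] (V a n R ⧸ KK K₀ R)
    have : Module.Flat Rf Z := by
      obtain ⟨θ⟩ := hθ Rf
      have := (flatC_iff_flat K₀).1 (flatC_of_algHom' K₀ θ hCS)
      obtain ⟨e⟩ := nonempty_equiv K₀ R Rf
      exact Module.Flat.of_linearEquiv e
    have : Module.Flat R Rf := IsLocalization.flat Rf (Submonoid.powers f)
    have : Module.Flat R Z := Module.Flat.trans R Rf Z
    let P := (j : s) → Localization.AtPrime j.1.asIdeal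
    have hinj : Function.Injective ((Algebra.linearMap R P).rTensor Z) :=
      Module.Flat.rTensor_preserves_injective_linearMap _ hs
    let z : Z := 1 ⊗ₜ Submodule.Quotient.mk x
    have hz0 : (1 : R) ⊗ₜ[R] z = 0 := hinj (by
      rw [map_zero, LinearMap.rTensor_tmul]
      have h1 : Algebra.linearMap R P 1 = ∑ j, Pi.single j 1 := by
        simp only [Algebra.linearMap_apply, map_one]
        exact (Finset.univ_sum_single (1 : P)).symm
      rw [h1, TensorProduct.sum_tmul]
      refine Finset.sum_eq_zero fun j _ => ?_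
      obtain ⟨r, hr, hrx⟩ := hsub j.1 (Or.inr j.2) x hx
      have hu : IsUnit (algebraMap R (Localization.AtPrime j.1.asIdeal) r) :=
        IsLocalization.map_units (M := j.1.asIdeal.primeCompl) _ ⟨r, hr⟩
      have : (Pi.single j 1 : P) = r • Pi.single j (hu.unit⁻¹ : (Localization.AtPrime j.1.asIdeal)ˣ) := by
        rw [← Pi.single_smul, Algebra.smul_def, IsUnit.mul_val_inv]
      rw [this, TensorProduct.smul_tmul]
      have : r • z = 0 := by
        rw [← hKK] at hrx
        rw [← TensorProduct.tmul_smul, ← Submodule.Quotient.mk_smul,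
          (Submodule.Quotient.mk_eq_zero _).2 hrx, TensorProduct.tmul_zero]
      rw [this, TensorProduct.tmul_zero])
    have hz : z = 0 := by simpa using congrArg (TensorProduct.lid R Z) hz0
    obtain ⟨⟨_, N, rfl⟩, hN⟩ := (IsLocalizedModule.eq_zero_iff (Submonoid.powers f)
      (TensorProduct.mk R Rf (V a n R ⧸ KK K₀ R) 1)).1 hz
    refine ⟨N, ?_⟩
    rw [← hKK, ← Submodule.Quotient.mk_eq_zero, Submodule.Quotient.mk_smul]
    exact hN
  choose f hf hfx using step
  have htop : Ideal.span (Set.range f) = ⊤ := by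
    by_contra h
    obtain ⟨m, hm, hle⟩ := Ideal.exists_le_maximal _ h
    exact hf ⟨m, hm.isPrime⟩ (hle (Ideal.subset_span ⟨_, rfl⟩))
  obtain ⟨T, hT, h1⟩ := Submodule.mem_span_finite_of_mem_span ((Ideal.eq_top_iff_one _).1 htop)
  choose pt hpt using fun t : T => hT t.2
  let G' : Finset (V a n R) := Finset.univ.biUnion fun t : T => L (pt t) ∪ s.biUnion L
  refine ⟨G', le_antisymm (Submodule.span_le.2 ?_) fun x hx => ?_⟩
  · intro y hy
    simp only [G', Finset.coe_biUnion, Set.mem_iUnion, Finset.coe_union, Set.mem_union, Finset.mem_coe] at hy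
    obtain ⟨t, -, hy | ⟨q, -, hy⟩⟩ := hy
    · exact hLK _ hy
    · exact hLK _ hy
  · refine Submodule.mem_of_span_eq_top_of_smul_pow_mem
      ((Submodule.span (MvPolynomial (Fin n) R) (G' : Set (V a n R))).restrictScalars R) (T : Set R)
      ((Ideal.eq_top_iff_one _).2 h1) x fun t => ?_
    obtain ⟨N, hN⟩ := hfx (pt ⟨t, t.2⟩) x hx
    refine ⟨N, Submodule.span_mono ?_ (hpt ⟨t, t.2⟩ ▸ hN)⟩
    exact Finset.coe_subset.2 (Finset.subset_biUnion_of_mem (fun t : T => L (pt t) ∪ s.biUnion L) (Finset.mem_univ _))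

end Groth.Agent.CAlgH39.LocalFP
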