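import Groth.Agent.S4564
import Mathlib

/-!
# Valuation of the norm over a complete discrete valuation ring
-/

universe u

namespace Groth.Agent.CAlgH39.NormVal

theorem isLocalRing_of_finite_domain (A B : Type u) [CommRing A] [IsDomain A] [IsLocalRing A] [IsNoetherianRing A]
    [IsAdicComplete (IsLocalRing.maximalIdeal A) A]
    [CommRing B] [IsDomain B] [Algebra A B] [Module.Finite A B] : IsLocalRing B := by
  haveI : HenselianLocalRing A := Hensel.henselianLocalRing_of_henselianRing _
  exact FormCat.isLocalRing_of_finite_domain A B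

theorem emultiplicity_intNorm (A B : Type u) [CommRing A] [IsDomain A] [IsDiscreteValuationRing A]
    [CommRing B] [IsDedekindDomain B] [IsLocalRing B] [Algebra A B] [Module.Finite A B] [Module.IsTorsionFree A B]
    (M : Ideal B) [M.IsMaximal] (x : B) (hx : x ≠ 0) :
    emultiplicity (IsLocalRing.maximalIdeal A) (Ideal.span {Algebra.intNorm A B x}) =
      (M.inertiaDeg A : ℕ∞) * emultiplicity M (Ideal.span {x}) := by
  classical
  set m := IsLocalRing.maximalIdeal A
  have hm0 : m ≠ ⊥ := IsDiscreteValuationRing.not_a_field A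
  have hM : M = IsLocalRing.maximalIdeal B := IsLocalRing.eq_maximalIdeal inferInstance
  have : M.LiesOver m := ⟨by
    have : Algebra.IsIntegral A B := inferInstance
    exact (IsLocalRing.eq_maximalIdeal (Ideal.IsMaximal.under A M)).symm⟩
  have hmB : m.map (algebraMap A B) ≠ ⊥ := fun h => hm0 ((Ideal.map_eq_bot_iff_of_injective
    (FaithfulSMul.algebraMap_injective A B)).1 h)
  have hM0 : M ≠ ⊥ := ne_bot_of_le_ne_bot hmB (Ideal.map_le_of_le_comap (M.over_def m).le)
  have hMp : Prime M := (Ideal.prime_of_isPrime hM0 inferInstance)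
  have hpow : ∀ I : Ideal B, I ≠ ⊥ → ∃ n, I = M ^ n := by
    intro I hI
    have hnf : ¬ IsField B := fun hf => hM0 (by rw [hM]; exact IsLocalRing.isField_iff_maximalIdeal_eq.1 hf)
    have : IsDiscreteValuationRing B := ((IsDiscreteValuationRing.TFAE B hnf).out 2 0).1 ‹IsDedekindDomain B›
    obtain ⟨π, hπ⟩ := IsDiscreteValuationRing.exists_irreducible B
    obtain ⟨n, hn⟩ := IsDiscreteValuationRing.ideal_eq_span_pow_irreducible hI hπ
    exact ⟨n, by rw [hn, hM, hπ.maximalIdeal_eq, Ideal.span_singleton_pow]⟩
  obtain ⟨e, he⟩ := hpow _ hmB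
  obtain ⟨w, hw⟩ := hpow (Ideal.span {x}) (fun h => hx (Ideal.span_singleton_eq_bot.1 h))
  have heq : M.ramificationIdx A = e := by
    rw [Ideal.IsDedekindDomain.ramificationIdx_eq_multiplicity m M hmB, he, multiplicity_pow_self_of_prime hMp]
  obtain ⟨s, hs⟩ := Ideal.exists_relNorm_eq_pow_of_isPrime (R := A) M m
  have hn : s * e = Module.finrank A B := by
    have h1 := Ideal.relNorm_algebraMap B m
    rw [he, map_pow, hs, ← pow_mul] at h1
    exact (Ideal.pow_right_strictAnti m hm0 (IsLocalRing.maximalIdeal.isMaximal A).ne_top).injective h1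
  have hsum : Module.finrank A B = e * M.inertiaDeg A := by
    have hset : m.primesOver B = {M} := by
      ext P
      constructor
      · rintro ⟨hP, hPm⟩
        have : P.IsMaximal := Ideal.IsMaximal.of_liesOver_isMaximal P m
        exact (IsLocalRing.eq_maximalIdeal this).trans hM.symm
      · rintro rfl
        exact ⟨inferInstance, inferInstance⟩
    letI : Unique (m.primesOver B) := hset ▸ Set.uniqueSingleton M
    rw [← Ideal.sum_ramification_inertia_eq_finrank (p := m), Fintype.sum_unique]
    have hd : ((default : m.primesOver B) : Ideal B) = M := by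
      have := (default : m.primesOver B).2
      exact Set.mem_singleton_iff.1 (hset.le this)
    rw [hd, heq]
  have he0 : 0 < e := heq ▸ Ideal.ramificationIdx_pos (R := A) M
  have hsf : s = M.inertiaDeg A := Nat.eq_of_mul_eq_mul_left he0 (by rw [mul_comm, hn, hsum])
  rw [← Ideal.relNorm_singleton, hw, map_pow, hs, ← pow_mul,
    emultiplicity_pow_self_of_prime (Ideal.prime_of_isPrime hm0 inferInstance), emultiplicity_pow_self_of_prime hMp,
    hsf]
  push_cast
  ring

end Groth.Agent.CAlgH39.NormVal
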