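import Groth.Prelude.Def_Found
import Groth.Agent.MorLib.RingUnivHomeo
import Mathlib

/-!
The reduced rings of `C ⊗ B`, for `C` running over the finite subalgebras with fraction field `K'`
of a finite extension `K'` of `Frac A`.
-/

universe u

open TensorProduct

namespace Groth.Agent.CAlgH39.RedTensor

variable {A B K' : Type u} [CommRing A] [CommRing B] [Algebra A B] [Field K'] [Algebra A K']

/-- `C ⊗ B → B ⊗ K'`. -/
noncomputable def g (B : Type u) [CommRing B] [Algebra A B] (C : Subalgebra A K') :
    ↥C ⊗[A] B →ₐ[A] B ⊗[A] K' :=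
  (Algebra.TensorProduct.comm A K' B).toAlgHom.comp (Algebra.TensorProduct.map C.val (AlgHom.id A B))

@[simp] theorem g_tmul (C : Subalgebra A K') (c : C) (b : B) : g B C (c ⊗ₜ b) = b ⊗ₜ (c : K') := rfl

theorem g_injective [Module.Flat A B] (C : Subalgebra A K') : Function.Injective (g B C) :=
  (Algebra.TensorProduct.comm A K' B).injective.comp
    (Module.Flat.rTensor_preserves_injective_linearMap C.val.toLinearMap Subtype.val_injective)

theorem g_map (C D : Subalgebra A K') (h : C ≤ D) (x : ↥C ⊗[A] B) :
    g B D (Algebra.TensorProduct.map (Subalgebra.inclusion h) (AlgHom.id A B) x) = g B C x := by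
  induction x using TensorProduct.induction_on with
  | zero => simp
  | tmul c b => rfl
  | add x y hx hy => simp [hx, hy]

theorem smul_g (C : Subalgebra A K') (b : B) (x : ↥C ⊗[A] B) : b • g B C x = g B C ((1 ⊗ₜ b) * x) := by
  rw [map_mul, g_tmul, Algebra.smul_def]
  rfl

theorem isIntegral_g (C : Subalgebra A K') [Module.Finite A C] (x : ↥C ⊗[A] B) : IsIntegral B (g B C x) := by
  induction x using TensorProduct.induction_on with
  | zero => rw [map_zero]; exact isIntegral_zero
  | add x y hx hy => rw [map_add]; exact hx.add hy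
  | tmul c b =>
    rw [g_tmul, show b ⊗ₜ[A] (c : K') = algebraMap B (B ⊗[A] K') b * (1 ⊗ₜ (c : K')) by simp]
    refine isIntegral_algebraMap.mul ?_
    have h1 : IsIntegral A (c : K') := (Algebra.IsIntegral.isIntegral c).map C.val
    exact (h1.map (Algebra.TensorProduct.includeRight : K' →ₐ[A] B ⊗[A] K')).tower_top

/-- There is a finite subalgebra with fraction field `K'`. -/
theorem exists_lattice [IsDomain A] [Algebra (FractionRing A) K'] [IsScalarTower A (FractionRing A) K']
    [FiniteDimensional (FractionRing A) K'] :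
    ∃ C : Subalgebra A K', Module.Finite A C ∧ ∀ x : K', ∃ a b : C, (b : K') ≠ 0 ∧ x * b = a := by
  classical
  let t := Module.finBasis (FractionRing A) K'
  have : Algebra.IsAlgebraic A K' := by
    have : Algebra.IsAlgebraic A (FractionRing A) := IsLocalization.isAlgebraic _ (nonZeroDivisors A)
    exact Algebra.IsAlgebraic.trans A (FractionRing A) K'
  obtain ⟨c, hc, hint⟩ := Algebra.IsAlgebraic.exists_integral_multiples (R := A) (Finset.univ.image t)
  let C : Subalgebra A K' := Algebra.adjoin A (Set.range fun i => c • t i)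
  refine ⟨C, Module.Finite.iff_fg.2 (fg_adjoin_of_finite (Set.finite_range _) ?_), fun x => ?_⟩
  · rintro _ ⟨i, rfl⟩
    exact hint _ (Finset.mem_image_of_mem _ (Finset.mem_univ i))
  · obtain ⟨⟨b, hb⟩, hb'⟩ := IsLocalization.exist_integer_multiples_of_finite (nonZeroDivisors A) (t.repr x)
    have hinj : Function.Injective (algebraMap A K') := by
      rw [IsScalarTower.algebraMap_eq A (FractionRing A) K']
      exact (algebraMap (FractionRing A) K').injective.comp (IsFractionRing.injective A _)
    choose a ha using hb'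
    have hx : x * algebraMap A K' (b * c) = ∑ i, a i • (c • t i) := by
      conv_lhs => rw [← t.sum_repr x, map_mul, Finset.sum_mul]
      refine Finset.sum_congr rfl fun i _ => ?_
      have h := congrArg (algebraMap (FractionRing A) K') (ha i)
      simp only [Algebra.smul_def, map_mul, ← IsScalarTower.algebraMap_apply] at h ⊢
      rw [h]
      ring
    refine ⟨⟨∑ i, a i • (c • t i), Subalgebra.sum_mem _ fun i _ => Subalgebra.smul_mem _
      (Algebra.subset_adjoin (Set.mem_range_self i)) (a i)⟩,
      algebraMap A C (b * c), fun h => ?_, hx⟩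
    exact mul_ne_zero (nonZeroDivisors.ne_zero hb) hc (hinj (h.trans (map_zero _).symm))

/-- The main statement. -/
theorem exists_eventually_bijective [IsDomain A] [IsNoetherianRing B] [Module.Flat A B]
    (hJ : ∀ (q : Ideal B) [q.IsPrime], q ∈ minimalPrimes B → CAlg.IsN2 (B ⧸ q))
    [Algebra (FractionRing A) K'] [IsScalarTower A (FractionRing A) K']
    [FiniteDimensional (FractionRing A) K'] :
    ∃ Cα : Subalgebra A K', (Module.Finite A Cα ∧ ∀ x : K', ∃ a b : Cα, (b : K') ≠ 0 ∧ x * b = a) ∧
      ∀ C : Subalgebra A K', (Module.Finite A C ∧ ∀ x : K', ∃ a b : C, (b : K') ≠ 0 ∧ x * b = a) →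
        ∀ hle : Cα ≤ C,
          (∀ x : ↥Cα ⊗[A] B, IsNilpotent (Algebra.TensorProduct.map (Subalgebra.inclusion hle) (AlgHom.id A B) x) →
            IsNilpotent x) ∧
          (∀ y : ↥C ⊗[A] B, ∃ x : ↥Cα ⊗[A] B,
            IsNilpotent (Algebra.TensorProduct.map (Subalgebra.inclusion hle) (AlgHom.id A B) x - y)) := by
  classical
  let S := B ⊗[A] K'
  have : Algebra.EssFiniteType A K' := Algebra.EssFiniteType.comp A (FractionRing A) K'
  have : Algebra.EssFiniteType B S := inferInstance
  have : IsNoetherianRing S := Algebra.EssFiniteType.isNoetherianRing B S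
  have : Module.Flat A (FractionRing A) := IsLocalization.flat _ (nonZeroDivisors A)
  have : Module.Flat A K' := Module.Flat.trans A (FractionRing A) K'
  have : Module.Flat B S := inferInstance
  have : Algebra.HasGoingDown B S := Algebra.HasGoingDown.of_flat
  have hfinΛ : Finite (minimalPrimes S) := (minimalPrimes.finite_of_isNoetherianRing S).to_subtype
  have hprime : ∀ P : minimalPrimes S, P.1.IsPrime := fun P => P.2.1.1
  -- the finite normalisations
  have hfin : ∀ P : minimalPrimes S,
      (Subalgebra.toSubmodule (integralClosure B (P.1.ResidueField))).FG := by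
    intro P
    let L := P.1.ResidueField
    let q := P.1.comap (algebraMap B S)
    have hq : q ∈ minimalPrimes B := by
      refine ⟨⟨Ideal.IsPrime.comap _, bot_le⟩, fun q' hq' hle => ?_⟩
      have : q'.IsPrime := hq'.1
      obtain ⟨P', hP', hP'p, hP'q⟩ := Ideal.exists_ideal_le_liesOver_of_le (S := S) P.1 (q := q) hle
      have : P' = P.1 := le_antisymm hP' (P.2.2 ⟨hP'p, bot_le⟩ hP')
      exact le_of_eq (by rw [hP'q.over, this])
    have : q.IsPrime := hq.1.1
    let κ := FractionRing (B ⧸ q)
    let φ : B ⧸ q →+* L := Ideal.Quotient.lift q (algebraMap B L) fun b hb => by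
      rw [IsScalarTower.algebraMap_apply B S L, Ideal.algebraMap_residueField_eq_zero]; exact hb
    let : Algebra (B ⧸ q) L := φ.toAlgebra
    have : IsScalarTower B (B ⧸ q) L := IsScalarTower.of_algebraMap_eq fun b => rfl
    have : FaithfulSMul (B ⧸ q) L := (faithfulSMul_iff_algebraMap_injective _ _).2
      (RingHom.lift_injective_of_ker_le_ideal q _ fun b hb => by
        rw [RingHom.mem_ker, IsScalarTower.algebraMap_apply B S L, Ideal.algebraMap_residueField_eq_zero] at hb
        exact hb)
    let : Algebra κ L := FractionRing.liftAlgebra (B ⧸ q) L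
    have : IsScalarTower B κ L := IsScalarTower.of_algebraMap_eq fun b => by
      rw [IsScalarTower.algebraMap_apply B (B ⧸ q) κ, ← IsScalarTower.algebraMap_apply (B ⧸ q) κ L,
        ← IsScalarTower.algebraMap_apply B (B ⧸ q) L]
    -- nonzero elements of `A` stay nonzero
    have hA : ∀ a : A, a ≠ 0 → algebraMap A B a ∉ q := by
      intro a ha hmem
      have hu : IsUnit (algebraMap A S a) := by
        rw [← (Algebra.TensorProduct.includeRight : K' →ₐ[A] S).commutes a]
        refine (IsUnit.mk0 _ fun h => ha ?_).map _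
        have hinj : Function.Injective (algebraMap A K') := by
          rw [IsScalarTower.algebraMap_eq A (FractionRing A) K']
          exact (algebraMap (FractionRing A) K').injective.comp (IsFractionRing.injective A _)
        exact hinj (h.trans (map_zero _).symm)
      exact (hprime P).ne_top (Ideal.eq_top_of_isUnit_mem _
        (show algebraMap B S (algebraMap A B a) ∈ P.1 from hmem)
        (by rw [← IsScalarTower.algebraMap_apply A B S]; exact hu))
    have : Algebra.IsAlgebraic A K' := by
      have : Algebra.IsAlgebraic A (FractionRing A) := IsLocalization.isAlgebraic _ (nonZeroDivisors A)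
      exact Algebra.IsAlgebraic.trans A (FractionRing A) K'
    have : IsScalarTower A κ L := IsScalarTower.of_algebraMap_eq fun a => by
      rw [IsScalarTower.algebraMap_apply A B κ, ← IsScalarTower.algebraMap_apply B κ L,
        ← IsScalarTower.algebraMap_apply A B L]
    have hκinj : Function.Injective (algebraMap A κ) := by
      rw [injective_iff_map_eq_zero]
      intro a ha
      by_contra h0
      rw [IsScalarTower.algebraMap_apply A (B ⧸ q) κ,
        IsFractionRing.to_map_eq_zero_iff, IsScalarTower.algebraMap_apply A B (B ⧸ q),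
        Ideal.Quotient.algebraMap_eq, Ideal.Quotient.eq_zero_iff_mem] at ha
      exact hA a h0 ha
    have halg : ∀ s : S, IsAlgebraic κ (algebraMap S L s) := by
      intro s
      induction s using TensorProduct.induction_on with
      | zero => rw [map_zero]; exact isAlgebraic_zero
      | add x y hx hy => rw [map_add]; exact hx.add hy
      | tmul b k =>
        rw [show b ⊗ₜ[A] k = algebraMap B S b * (1 ⊗ₜ k) by simp [S], map_mul]
        refine IsAlgebraic.mul ?_ ?_
        · rw [← IsScalarTower.algebraMap_apply B S L, IsScalarTower.algebraMap_apply B κ L]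
          exact isAlgebraic_algebraMap _
        · have h1 := (Algebra.IsAlgebraic.isAlgebraic (R := A) k).algHom
            ((IsScalarTower.toAlgHom A S L).comp Algebra.TensorProduct.includeRight)
          exact h1.extendScalars hκinj
    have : Algebra.IsAlgebraic κ L := by
      refine ⟨fun l => ?_⟩
      obtain ⟨x, y, hy, rfl⟩ := IsFractionRing.div_surjective (A := S ⧸ P.1) l
      obtain ⟨x, rfl⟩ := Ideal.Quotient.mk_surjective x
      obtain ⟨y, rfl⟩ := Ideal.Quotient.mk_surjective y
      rw [← Ideal.Quotient.algebraMap_eq, ← IsScalarTower.algebraMap_apply S (S ⧸ P.1) L,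
        ← IsScalarTower.algebraMap_apply S (S ⧸ P.1) L, div_eq_mul_inv]
      exact (halg x).mul (halg y).inv
    have : Algebra.EssFiniteType B L := Algebra.EssFiniteType.comp B S L
    have : Algebra.EssFiniteType κ L := Algebra.EssFiniteType.of_comp B κ L
    have : FiniteDimensional κ L := Algebra.finite_of_essFiniteType_of_isAlgebraic
    have h2 : Module.Finite (B ⧸ q) (integralClosure (B ⧸ q) L) := hJ q hq L ‹_›
    have heq : Subalgebra.toSubmodule (integralClosure B L) =
        (Subalgebra.toSubmodule (integralClosure (B ⧸ q) L)).restrictScalars B := by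
      ext x
      exact ⟨fun h => h.tower_top, fun h => isIntegral_trans (R := B) (A := B ⧸ q) x h⟩
    rw [heq]
    exact (Module.Finite.iff_fg.1 h2).restrictScalars_of_surjective Ideal.Quotient.mk_surjective
  -- the receiving module
  let Φ : S →ₐ[B] ((P : minimalPrimes S) → P.1.ResidueField) :=
    AlgHom.pi fun P => IsScalarTower.toAlgHom B S P.1.ResidueField
  have hΦ : ∀ s, Φ s = 0 ↔ IsNilpotent s := fun s => by
    rw [← mem_nilradical, nilradical_eq_sInf, Submodule.mem_sInf]
    refine ⟨fun h J hJ' => ?_, fun h => funext fun P => ?_⟩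
    · have : Ideal.IsPrime J := hJ'
      obtain ⟨p, hp, hpJ⟩ := Ideal.exists_minimalPrimes_le (I := (⊥ : Ideal S)) (J := J) bot_le
      have : p.IsPrime := hp.1.1
      exact hpJ (Ideal.algebraMap_residueField_eq_zero.1 (congrFun h ⟨p, hp⟩))
    · exact Ideal.algebraMap_residueField_eq_zero.2 (h P.1 (hprime P))
  let N : Submodule B ((P : minimalPrimes S) → P.1.ResidueField) :=
    Submodule.pi Set.univ fun P => Subalgebra.toSubmodule (integralClosure B P.1.ResidueField)
  have hN : N.FG := Submodule.fg_pi hfin
  have : IsNoetherian B N := isNoetherian_of_fg_of_noetherian N hN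
  let W : Subalgebra A K' → Submodule B ((P : minimalPrimes S) → P.1.ResidueField) := fun C =>
    Submodule.span B (Φ '' Set.range (g B C))
  have hWN : ∀ C : Subalgebra A K', Module.Finite A C → W C ≤ N := by
    intro C _
    refine Submodule.span_le.2 ?_
    rintro _ ⟨_, ⟨x, rfl⟩, rfl⟩ P -
    exact (isIntegral_g C x).map (IsScalarTower.toAlgHom B S P.1.ResidueField)
  have hWmem : ∀ C : Subalgebra A K', ∀ w ∈ W C, ∃ x, Φ (g B C x) = w := by
    intro C w hw
    induction hw using Submodule.span_induction with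
    | mem w hw => obtain ⟨_, ⟨x, rfl⟩, rfl⟩ := hw; exact ⟨x, rfl⟩
    | zero => exact ⟨0, by simp⟩
    | add v w _ _ hv hw =>
      obtain ⟨x, rfl⟩ := hv; obtain ⟨y, rfl⟩ := hw
      exact ⟨x + y, by simp⟩
    | smul b w _ hw =>
      obtain ⟨x, rfl⟩ := hw
      exact ⟨(1 ⊗ₜ b) * x, by rw [← smul_g, map_smul]⟩
  let fam : Set (Submodule B N) := {V | ∃ C : Subalgebra A K',
    (Module.Finite A C ∧ ∀ x : K', ∃ a b : C, (b : K') ≠ 0 ∧ x * b = a) ∧ V = (W C).comap N.subtype}
  obtain ⟨C₀, hC₀⟩ := exists_lattice (A := A) (K' := K')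
  obtain ⟨_, ⟨Cα, hCα, rfl⟩, hmax⟩ :=
    set_has_maximal_iff_noetherian.2 inferInstance fam ⟨_, C₀, hC₀, rfl⟩
  refine ⟨Cα, hCα, fun C hC hle => ⟨fun x hx => ?_, fun y => ?_⟩⟩
  · have := hx.map (g B C)
    rw [g_map] at this
    exact (IsNilpotent.map_iff (g_injective Cα)).1 this
  · have hmono : W Cα ≤ W C := Submodule.span_mono (Set.image_mono (by
      rintro _ ⟨x, rfl⟩
      exact ⟨_, g_map Cα C hle x⟩))
    have heq : (W C).comap N.subtype = (W Cα).comap N.subtype :=
      ((Submodule.comap_mono hmono).eq_or_lt.resolve_right (hmax _ ⟨C, hC, rfl⟩)).symm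
    have hyC : Φ (g B C y) ∈ W C := Submodule.subset_span ⟨_, ⟨y, rfl⟩, rfl⟩
    have hyα : Φ (g B C y) ∈ W Cα :=
      (SetLike.ext_iff.1 heq ⟨_, hWN C hC.1 hyC⟩).1 hyC
    obtain ⟨x, hx⟩ := hWmem Cα _ hyα
    refine ⟨x, (IsNilpotent.map_iff (g_injective C)).1 ((hΦ _).1 ?_)⟩
    rw [map_sub, g_map, map_sub, hx, sub_self]

/-- Radiciality of `Spec A' → Spec Cα` for faithfully flat `B`. -/
theorem universallyInjective_of_surjective_mod_nilpotent [Module.FaithfullyFlat A B] (Cα : Subalgebra A K')
    (hCα : Module.Finite A Cα ∧ ∀ x : K', ∃ a b : Cα, (b : K') ≠ 0 ∧ x * b = a)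
    (hsurj : ∀ C : Subalgebra A K', (Module.Finite A C ∧ ∀ x : K', ∃ a b : C, (b : K') ≠ 0 ∧ x * b = a) →
      ∀ hle : Cα ≤ C, ∀ y : ↥C ⊗[A] B, ∃ x : ↥Cα ⊗[A] B,
        IsNilpotent (Algebra.TensorProduct.map (Subalgebra.inclusion hle) (AlgHom.id A B) x - y))
    (hint : Cα ≤ integralClosure A K') :
    AlgebraicGeometry.UniversallyInjective
      (AlgebraicGeometry.Spec.map (CommRingCat.ofHom (Subalgebra.inclusion hint).toRingHom)) := by
  classical
  rw [Groth.Agent.MorLib.RUH.universallyInjective_SpecMap_iff]
  intro Ω _ f f' hff'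
  ext a
  -- the finite subalgebra generated by `a`
  have ha : IsIntegral A (a : K') := a.2
  let C := Cα ⊔ Algebra.adjoin A {(a : K')}
  have hC : Module.Finite A C ∧ ∀ x : K', ∃ a b : C, (b : K') ≠ 0 ∧ x * b = a := by
    refine ⟨?_, fun x => ?_⟩
    · have := hCα.1
      have : Module.Finite A (Algebra.adjoin A {(a : K')}) :=
        Module.Finite.iff_fg.2 ha.fg_adjoin_singleton
      exact Subalgebra.finite_sup _ _
    · obtain ⟨p, q, hq, he⟩ := hCα.2 x
      exact ⟨⟨p, le_sup_left (b := Algebra.adjoin A {(a : K')}) p.2⟩,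
        ⟨q, le_sup_left (b := Algebra.adjoin A {(a : K')}) q.2⟩, hq, he⟩
  have hCint : C ≤ integralClosure A K' := sup_le hint (Algebra.adjoin_le (by simp))
  let : Algebra A Ω := (f.comp (algebraMap A _)).toAlgebra
  let F : C →ₐ[A] Ω := (⟨f, fun r => rfl⟩ : integralClosure A K' →ₐ[A] Ω).comp (Subalgebra.inclusion hCint)
  let F' : C →ₐ[A] Ω := (⟨f', fun r => (RingHom.congr_fun hff' (algebraMap A Cα r)).symm⟩ :
    integralClosure A K' →ₐ[A] Ω).comp (Subalgebra.inclusion hCint)
  have : Nontrivial (Ω ⊗[A] B) := Module.FaithfullyFlat.rTensor_nontrivial A B Ω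
  obtain ⟨m, hm⟩ := Ideal.exists_maximal (Ω ⊗[A] B)
  let mk := Ideal.Quotient.mkₐ A m
  let G := mk.comp (Algebra.TensorProduct.map F (AlgHom.id A B))
  let G' := mk.comp (Algebra.TensorProduct.map F' (AlgHom.id A B))
  have hle : Cα ≤ C := le_sup_left
  have hagree : ∀ x, G (Algebra.TensorProduct.map (Subalgebra.inclusion hle) (AlgHom.id A B) x) =
      G' (Algebra.TensorProduct.map (Subalgebra.inclusion hle) (AlgHom.id A B) x) := by
    intro x
    induction x using TensorProduct.induction_on with
    | zero => simp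
    | add x y hx hy => simp [hx, hy]
    | tmul c b =>
      have : F (Subalgebra.inclusion hle c) = F' (Subalgebra.inclusion hle c) := RingHom.congr_fun hff' c
      simp [G, G', this]
  let y : ↥C ⊗[A] B := (⟨a, Algebra.subset_adjoin.trans (le_sup_right (a := Cα)) rfl⟩ : C) ⊗ₜ 1
  obtain ⟨x, hx⟩ := hsurj C hC hle y
  let := Ideal.Quotient.field m
  have h1 := (hx.map G).eq_zero
  have h2 := (hx.map G').eq_zero
  rw [map_sub, sub_eq_zero] at h1 h2
  have : G y = G' y := h1.symm.trans ((hagree x).trans h2)
  exact (Ideal.Quotient.mk m |>.comp Algebra.TensorProduct.includeLeftRingHom).injective this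

end Groth.Agent.CAlgH39.RedTensor
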