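import Groth.Agent.NoetherNormZ.Basic
import Mathlib

/-! Refined Noether normalization: a finite map moving a prime to a coordinate prime. -/

universe u

open MvPolynomial

namespace Groth.Agent.CAlgH39.RefinedNoether

variable {k : Type u} [Field k]

/-- The coordinate ideal `(X_i, r ≤ i)`. -/
noncomputable def J (k : Type u) [Field k] (n r : ℕ) : Ideal (MvPolynomial (Fin n) k) :=
  Ideal.span (Set.range fun i : {i : Fin n // r ≤ (i : ℕ)} => X (i : Fin n))

theorem finite_of_integral_generators {n : ℕ} {B : Type u} [CommRing B] [Algebra k B] [Algebra.FiniteType k B]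
    (φ : MvPolynomial (Fin n) k →ₐ[k] B) (G : Set B) (hG : Algebra.adjoin k G = ⊤)
    (h : ∀ x ∈ G, φ.toRingHom.IsIntegralElem x) : φ.toRingHom.Finite := by
  refine RingHom.IsIntegral.to_finite (fun x => ?_) ?_
  · have hx : x ∈ Algebra.adjoin k G := hG ▸ Algebra.mem_top
    induction hx using Algebra.adjoin_induction with
    | mem y hy => exact h y hy
    | algebraMap c => exact ⟨Polynomial.X - Polynomial.C (C c), Polynomial.monic_X_sub_C _, by
        simp [← MvPolynomial.algebraMap_eq]⟩
    | add y z _ _ hy hz => exact hy.add φ.toRingHom hz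
    | mul y z _ _ hy hz => exact hy.mul φ.toRingHom hz
  · refine RingHom.FiniteType.of_comp_finiteType (f := algebraMap k _) ?_
    rw [show φ.toRingHom.comp (algebraMap k _) = algebraMap k B from φ.comp_algebraMap]
    exact RingHom.finiteType_algebraMap.2 ‹Algebra.FiniteType k B›

theorem exists_normalization : ∀ (n : ℕ) (q : Ideal (MvPolynomial (Fin n) k)) [q.IsPrime],
    ∃ r ≤ n, ∃ φ : MvPolynomial (Fin n) k →ₐ[k] MvPolynomial (Fin n) k, φ.toRingHom.Finite ∧
      q.comap φ = J k n r := by
  intro n
  induction n with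
  | zero =>
    intro q hq
    refine ⟨0, le_rfl, AlgHom.id k _, RingHom.Finite.id _, ?_⟩
    have h0 : q = ⊥ := by
      refine (Submodule.eq_bot_iff _).2 fun x hx => ?_
      rw [MvPolynomial.eq_C_of_isEmpty x] at hx ⊢
      by_contra hne
      exact hq.ne_top (Ideal.eq_top_of_isUnit_mem _ hx ((isUnit_iff_ne_zero.2 fun h => hne (by rw [h, map_zero])).map _))
    rw [h0, J]
    simp [Set.range_eq_empty]
  | succ n ih =>
    intro q hq
    by_cases hq0 : q = ⊥
    · refine ⟨n + 1, le_rfl, AlgHom.id k _, RingHom.Finite.id _, ?_⟩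
      subst hq0
      have : IsEmpty {i : Fin (n + 1) // n + 1 ≤ (i : ℕ)} := ⟨fun i => absurd i.2 (by omega)⟩
      simp [J, Set.range_eq_empty]
    obtain ⟨f, hf, hf0⟩ := Submodule.exists_mem_ne_zero_of_ne_bot hq0
    let P := MvPolynomial (Fin n) k
    let e : MvPolynomial (Fin (n + 1)) k ≃ₐ[k] Polynomial P :=
      (Groth.Agent.NoetherNormZ.T f).trans (finSuccEquiv k n)
    let q' : Ideal (Polynomial P) := q.comap e.symm
    have : q'.IsPrime := Ideal.IsPrime.comap _
    obtain ⟨w, hw⟩ := Groth.Agent.NoetherNormZ.T_leadingcoeff_isUnit f hf0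
    let g : Polynomial P := Polynomial.C (w⁻¹ : Pˣ).val * e f
    have hgm : g.Monic := by
      refine Polynomial.monic_C_mul_of_mul_leadingCoeff_eq_one ?_
      show (w⁻¹ : Pˣ).val * (finSuccEquiv k n (Groth.Agent.NoetherNormZ.T f f)).leadingCoeff = 1
      rw [← hw, Units.inv_mul]
    have hgq : g ∈ q' := Ideal.mul_mem_left _ _ (by
      show e.symm (e f) ∈ q
      rw [e.symm_apply_apply]; exact hf)
    have hg1 : g ≠ 1 := fun h => ‹q'.IsPrime›.ne_top ((Ideal.eq_top_iff_one _).2 (h ▸ hgq))
    let θ : Polynomial P →ₐ[P] Polynomial P := Polynomial.aeval g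
    let q₀ : Ideal P := (q'.comap θ).comap (Polynomial.C : P →+* Polynomial P)
    have : q₀.IsPrime := Ideal.IsPrime.comap _
    obtain ⟨r, hr, φ₀, hφ₀, hφq⟩ := ih q₀
    let Λ : MvPolynomial (Fin (n + 1)) k →ₐ[k] Polynomial P :=
      aeval (Fin.lastCases Polynomial.X fun i => Polynomial.C (φ₀ (X i)))
    let π : MvPolynomial (Fin (n + 1)) k →ₐ[k] P := aeval (Fin.lastCases 0 fun i => X i)
    let ρ : P →ₐ[k] MvPolynomial (Fin (n + 1)) k := rename Fin.castSucc
    have hΛρ : ∀ z, Λ (ρ z) = Polynomial.C (φ₀ z) := by
      intro z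
      have : Λ.comp ρ = (Polynomial.CAlgHom (R := k)).comp φ₀ :=
        MvPolynomial.algHom_ext fun i => by simp [Λ, ρ]
      exact AlgHom.congr_fun this z
    refine ⟨r, hr.trans n.le_succ, e.symm.toAlgHom.comp ((θ.restrictScalars k).comp Λ), ?_, ?_⟩
    · have hθ : (θ.restrictScalars k).toRingHom.IsIntegralElem Polynomial.X := by
        refine ⟨g.map (Polynomial.C : P →+* Polynomial P) - Polynomial.C Polynomial.X, ?_, ?_⟩
        · refine (hgm.map _).sub_of_left ?_
          rw [Polynomial.degree_map_eq_of_injective Polynomial.C_injective]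
          exact (Polynomial.degree_C_le).trans_lt
            (Polynomial.natDegree_pos_iff_degree_pos.1 (Nat.pos_of_ne_zero fun h => hg1
              (hgm.natDegree_eq_zero.1 h)))
        · rw [Polynomial.eval₂_sub, Polynomial.eval₂_map, Polynomial.eval₂_C]
          have : ((θ.restrictScalars k).toRingHom.comp Polynomial.C) = Polynomial.C := RingHom.ext fun x => by
            simp [θ]
          rw [this, Polynomial.eval₂_C_X]
          simp [θ]
      have hΛC : ∀ z : P, Λ.toRingHom.IsIntegralElem (Polynomial.C z) := by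
        intro z
        obtain ⟨p, hp, hpz⟩ := hφ₀.to_isIntegral z
        refine ⟨p.map ρ.toRingHom, hp.map _, ?_⟩
        rw [Polynomial.eval₂_map, show Λ.toRingHom.comp ρ.toRingHom = Polynomial.C.comp φ₀.toRingHom from
          RingHom.ext hΛρ, ← Polynomial.hom_eval₂, hpz, map_zero]
      have hgen : Algebra.adjoin k (insert Polynomial.X (Set.range (Polynomial.C : P →+* Polynomial P))) = ⊤ := by
        refine eq_top_iff.2 fun x hx => ?_
        clear hx
        induction x using Polynomial.induction_on' with
        | add a b ha hb => exact add_mem ha hb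
        | monomial m a =>
          rw [← Polynomial.C_mul_X_pow_eq_monomial]
          exact mul_mem (Algebra.subset_adjoin (Set.mem_insert_of_mem _ ⟨a, rfl⟩))
            (pow_mem (Algebra.subset_adjoin (Set.mem_insert _ _)) m)
      have : Algebra.FiniteType k (Polynomial P) := Algebra.FiniteType.trans (S := P) inferInstance inferInstance
      have hΛ : Λ.toRingHom.Finite := finite_of_integral_generators Λ _ hgen fun x hx => by
        rcases hx with rfl | ⟨z, rfl⟩
        · exact ⟨Polynomial.X - Polynomial.C (X (Fin.last n)), Polynomial.monic_X_sub_C _, by simp [Λ]⟩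
        · exact hΛC z
      have hθf : (θ.restrictScalars k).toRingHom.Finite := by
        refine RingHom.IsIntegral.to_finite (fun x => ?_) ?_
        · induction x using Polynomial.induction_on' with
          | add a b ha hb => exact ha.add _ hb
          | monomial m a =>
            rw [← Polynomial.C_mul_X_pow_eq_monomial]
            refine RingHom.IsIntegralElem.mul _ ⟨Polynomial.X - Polynomial.C (Polynomial.C a),
              Polynomial.monic_X_sub_C _, by simp [θ]⟩ ?_
            induction m with
            | zero => rw [pow_zero]; exact RingHom.isIntegralElem_one _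
            | succ m hm => rw [pow_succ]; exact RingHom.IsIntegralElem.mul _ hm hθ
        · refine RingHom.FiniteType.of_comp_finiteType (f := algebraMap k _) ?_
          rw [show (θ.restrictScalars k).toRingHom.comp (algebraMap k _) = algebraMap k (Polynomial P) from
            (θ.restrictScalars k).comp_algebraMap]
          exact RingHom.finiteType_algebraMap.2 ‹Algebra.FiniteType k (Polynomial P)›
      exact (RingHom.Finite.of_surjective _ e.symm.surjective).comp (hθf.comp hΛ)
    · have hX : (Polynomial.X : Polynomial P) ∈ q'.comap θ := by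
        show θ Polynomial.X ∈ q'
        rw [show θ Polynomial.X = g from Polynomial.aeval_X g]; exact hgq
      have hmem : ∀ p : Polynomial P, p ∈ q'.comap θ ↔ p.coeff 0 ∈ q₀ := fun p => by
        have h := Ideal.mul_mem_right p.divX _ hX
        constructor
        · intro hp
          have := Ideal.sub_mem _ hp h
          rwa [show p - Polynomial.X * p.divX = Polynomial.C (p.coeff 0) from
            sub_eq_iff_eq_add'.2 (p.X_mul_divX_add).symm] at this
        · intro hp
          rw [← p.X_mul_divX_add]
          exact Ideal.add_mem _ h hp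
      have hπ : ∀ z, (Λ z).coeff 0 = φ₀ (π z) := by
        intro z
        have : (Polynomial.constantCoeff (R := P)).comp Λ.toRingHom = φ₀.toRingHom.comp π.toRingHom := by
          refine MvPolynomial.ringHom_ext (fun c => ?_) fun i => ?_
          · simp [Λ, π, ← MvPolynomial.algebraMap_eq]
            exact (φ₀.commutes c).symm
          · induction i using Fin.lastCases with
            | last => simp [Λ, π]
            | cast i => simp [Λ, π]
        exact RingHom.congr_fun this z
      have hiff : ∀ z, π z ∈ J k n r ↔ z ∈ J k (n + 1) r := by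
        intro z
        constructor
        · intro hz
          have hsub : z - ρ (π z) ∈ J k (n + 1) r := by
            have hle : ∀ z, (Ideal.Quotient.mk (J k (n + 1) r)) (ρ (π z)) = Ideal.Quotient.mk (J k (n + 1) r) z := by
              have : ((Ideal.Quotient.mkₐ k (J k (n + 1) r)).comp ρ).comp π = Ideal.Quotient.mkₐ k _ := by
                refine MvPolynomial.algHom_ext fun i => ?_
                induction i using Fin.lastCases with
                | last =>
                  simp only [AlgHom.comp_apply, π, aeval_X, Fin.lastCases_last, map_zero, Ideal.Quotient.mkₐ_eq_mk]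
                  exact (Ideal.Quotient.eq_zero_iff_mem.2 (show (X (Fin.last n) : MvPolynomial (Fin (n + 1)) k) ∈ J k (n + 1) r from
                    Ideal.subset_span ⟨⟨Fin.last n, hr⟩, rfl⟩)).symm
                | cast i =>
                  simp only [AlgHom.comp_apply, π, aeval_X, Fin.lastCases_castSucc, Ideal.Quotient.mkₐ_eq_mk]
                  exact congrArg _ (rename_X Fin.castSucc i)
              exact fun z => AlgHom.congr_fun this z
            exact Ideal.Quotient.eq.1 (hle z).symm
          have hρ : ρ (π z) ∈ J k (n + 1) r := by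
            refine (Ideal.map_le_iff_le_comap.2 ?_ : (J k n r).map ρ ≤ _) (Ideal.mem_map_of_mem _ hz)
            refine Ideal.span_le.2 ?_
            rintro _ ⟨i, rfl⟩
            exact Ideal.subset_span ⟨⟨i.1.castSucc, i.2⟩, (rename_X Fin.castSucc i.1).symm⟩
          simpa using Ideal.add_mem _ hsub hρ
        · intro hz
          refine (Ideal.map_le_iff_le_comap.2 ?_ : (J k (n + 1) r).map π ≤ _) (Ideal.mem_map_of_mem _ hz)
          refine Ideal.span_le.2 ?_
          rintro _ ⟨⟨i, hi⟩, rfl⟩
          induction i using Fin.lastCases with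
          | last => simp [π]
          | cast i =>
            simp only [SetLike.mem_coe, Ideal.mem_comap, π, aeval_X, Fin.lastCases_castSucc]
            exact Ideal.subset_span ⟨⟨i, hi⟩, rfl⟩
      ext z
      rw [← hiff, ← hφq]
      show Λ z ∈ q'.comap θ ↔ φ₀ (π z) ∈ q₀
      rw [hmem, hπ]

theorem trdeg_eq (n r : ℕ) (hr : r ≤ n) (q : Ideal (MvPolynomial (Fin n) k)) [q.IsPrime]
    (φ : MvPolynomial (Fin n) k →ₐ[k] MvPolynomial (Fin n) k) (hφ : φ.toRingHom.Finite) (hq : q.comap φ = J k n r) :
    Algebra.trdeg k q.ResidueField = r := by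
  let ι : MvPolynomial (Fin r) k →ₐ[k] MvPolynomial (Fin n) k := rename (Fin.castLE hr)
  let π : MvPolynomial (Fin n) k →ₐ[k] MvPolynomial (Fin r) k :=
    aeval fun i => if h : (i : ℕ) < r then X ⟨i, h⟩ else 0
  have hπι : ∀ z, π (ι z) = z := by
    have : π.comp ι = AlgHom.id k _ := MvPolynomial.algHom_ext fun i => by simp [π, ι]
    exact fun z => AlgHom.congr_fun this z
  have hJ : ∀ z ∈ J k n r, π z = 0 := fun z hz => by
    refine (Ideal.span_le.2 ?_ : J k n r ≤ RingHom.ker π) hz
    rintro _ ⟨i, rfl⟩
    simp [π, RingHom.mem_ker, Nat.not_lt.2 i.2]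
  let ψ : MvPolynomial (Fin r) k →ₐ[k] MvPolynomial (Fin n) k ⧸ q := (Ideal.Quotient.mkₐ k q).comp (φ.comp ι)
  have hψ : Function.Injective ψ := by
    rw [injective_iff_map_eq_zero]
    intro z hz
    rw [← hπι z]
    exact hJ _ (hq.le (Ideal.Quotient.eq_zero_iff_mem.1 hz : φ (ι z) ∈ q))
  have hint : ψ.toRingHom.IsIntegral := by
    have h1 : ((Ideal.Quotient.mk q).comp φ.toRingHom).IsIntegral :=
      (hφ.to_isIntegral).trans _ _ (RingHom.isIntegral_of_surjective _ Ideal.Quotient.mk_surjective)
    have hfac : ∀ z, Ideal.Quotient.mk q (φ z) = ψ (π z) := by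
      have : (Ideal.Quotient.mkₐ k q).comp φ = ψ.comp π := MvPolynomial.algHom_ext fun i => by
        by_cases h : (i : ℕ) < r
        · simp [ψ, π, ι, h]
        · simp only [AlgHom.comp_apply, π, aeval_X, dif_neg h, map_zero, Ideal.Quotient.mkₐ_eq_mk]
          exact Ideal.Quotient.eq_zero_iff_mem.2 (hq.ge (Ideal.subset_span ⟨⟨i, Nat.not_lt.1 h⟩, rfl⟩))
      exact fun z => AlgHom.congr_fun this z
    intro x
    obtain ⟨p, hp, hpx⟩ := h1 x
    refine ⟨p.map π.toRingHom, hp.map _, ?_⟩
    rwa [Polynomial.eval₂_map, show ψ.toRingHom.comp π.toRingHom = (Ideal.Quotient.mk q).comp φ.toRingHom from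
      RingHom.ext fun z => (hfac z).symm]
  let ψK : MvPolynomial (Fin r) k →ₐ[k] q.ResidueField :=
    (IsScalarTower.toAlgHom k (MvPolynomial (Fin n) k ⧸ q) q.ResidueField).comp ψ
  let : Algebra (MvPolynomial (Fin r) k) q.ResidueField := ψK.toRingHom.toAlgebra
  let : Algebra (MvPolynomial (Fin r) k) (MvPolynomial (Fin n) k ⧸ q) := ψ.toRingHom.toAlgebra
  have : IsScalarTower (MvPolynomial (Fin r) k) (MvPolynomial (Fin n) k ⧸ q) q.ResidueField :=
    IsScalarTower.of_algebraMap_eq fun z => rfl
  have : IsScalarTower k (MvPolynomial (Fin r) k) q.ResidueField :=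
    IsScalarTower.of_algebraMap_eq fun c => (ψK.commutes c).symm
  have : Algebra.IsIntegral (MvPolynomial (Fin r) k) (MvPolynomial (Fin n) k ⧸ q) := ⟨hint⟩
  have hinjK : Function.Injective (algebraMap (MvPolynomial (Fin r) k) q.ResidueField) :=
    (IsFractionRing.injective (MvPolynomial (Fin n) k ⧸ q) q.ResidueField).comp hψ
  have : FaithfulSMul (MvPolynomial (Fin r) k) q.ResidueField := (faithfulSMul_iff_algebraMap_injective _ _).2 hinjK
  have : Algebra.IsAlgebraic (MvPolynomial (Fin r) k) q.ResidueField := by
    have : Algebra.IsAlgebraic (MvPolynomial (Fin n) k ⧸ q) q.ResidueField :=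
      IsLocalization.isAlgebraic _ (nonZeroDivisors _)
    exact Algebra.IsAlgebraic.trans (MvPolynomial (Fin r) k) (MvPolynomial (Fin n) k ⧸ q) q.ResidueField
  have h := trdeg_add_eq k (MvPolynomial (Fin r) k) (A := q.ResidueField)
  rw [trdeg_eq_zero (R := MvPolynomial (Fin r) k) (A := q.ResidueField), add_zero, MvPolynomial.trdeg_of_isDomain] at h
  simpa using h.symm

end Groth.Agent.CAlgH39.RefinedNoether
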