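import Mathlib

/-!
# Completion of a smooth algebra along a section
-/

universe u

open MvPolynomial

namespace Groth.Agent.CAlgH39

section equiv

theorem factor_evalₐ {A : Type u} [CommRing A] (J : Ideal A) {m n : ℕ} (h : m ≤ n)
    (x : AdicCompletion J A) :
    Ideal.Quotient.factor (Ideal.pow_le_pow_right h) (AdicCompletion.evalₐ J n x) =
      AdicCompletion.evalₐ J m x := by
  induction x using AdicCompletion.induction_on with
  | _ a => simp [AdicCompletion.Ideal.mk_eq_mk J h a]

variable {R A B : Type u} [CommRing R] [CommRing A] [CommRing B] [Algebra R A] [Algebra R B]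

/-- A map inducing bijections on all the quotients by powers gives an isomorphism of completions. -/
theorem adicCompletion_equiv_of_bijective (f : A →ₐ[R] B) (J : Ideal A) (I : Ideal B)
    (hJI : J ≤ I.comap f) (hsurj : ∀ (n : ℕ) (b : B), ∃ a, f a - b ∈ I ^ n)
    (hinj : ∀ (n : ℕ) (a : A), f a ∈ I ^ n → a ∈ J ^ n) :
    Nonempty (AdicCompletion J A ≃ₐ[R] AdicCompletion I B) := by
  have hle : ∀ n, J ^ n ≤ (I ^ n).comap f := fun n =>
    (Ideal.pow_right_mono hJI n).trans (Ideal.le_comap_pow _ n)
  let g : ∀ n, (A ⧸ J ^ n) →ₐ[R] B ⧸ I ^ n := fun n => Ideal.quotientMapₐ (I ^ n) f (hle n)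
  have hg : ∀ n, Function.Bijective (g n) := fun n => by
    constructor
    · rw [injective_iff_map_eq_zero]
      intro x hx
      obtain ⟨a, rfl⟩ := Ideal.Quotient.mk_surjective x
      exact Ideal.Quotient.eq_zero_iff_mem.2 (hinj n a (Ideal.Quotient.eq_zero_iff_mem.1 hx))
    · intro y
      obtain ⟨b, rfl⟩ := Ideal.Quotient.mk_surjective y
      obtain ⟨a, ha⟩ := hsurj n b
      exact ⟨Ideal.Quotient.mk _ a, Ideal.Quotient.eq.2 ha⟩
  let G : ∀ n, (A ⧸ J ^ n) ≃ₐ[R] B ⧸ I ^ n := fun n => AlgEquiv.ofBijective (g n) (hg n)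
  have hG : ∀ {m n : ℕ} (h : m ≤ n) (y : A ⧸ J ^ n),
      Ideal.Quotient.factor (Ideal.pow_le_pow_right h) (G n y) =
        G m (Ideal.Quotient.factor (Ideal.pow_le_pow_right h) y) := fun h y => by
    obtain ⟨a, rfl⟩ := Ideal.Quotient.mk_surjective y
    rfl
  have iA : IsScalarTower R A (AdicCompletion J A) :=
    IsScalarTower.of_algebraMap_eq fun r => by
      rw [AdicCompletion.algebraMap_apply, AdicCompletion.algebraMap_apply, Algebra.algebraMap_self,
        RingHom.id_apply]
  have iB : IsScalarTower R B (AdicCompletion I B) :=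
    IsScalarTower.of_algebraMap_eq fun r => by
      rw [AdicCompletion.algebraMap_apply, AdicCompletion.algebraMap_apply, Algebra.algebraMap_self,
        RingHom.id_apply]
  let F : AdicCompletion J A →ₐ[R] AdicCompletion I B := AdicCompletion.liftAlgHom I
    (fun n => (G n).toAlgHom.comp ((AdicCompletion.evalₐ J n).restrictScalars R))
    (fun h => AlgHom.ext fun x => by
      refine (hG h (AdicCompletion.evalₐ J _ x)).trans ?_
      rw [factor_evalₐ J h]
      rfl)
  let F' : AdicCompletion I B →ₐ[R] AdicCompletion J A := AdicCompletion.liftAlgHom J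
    (fun n => (G n).symm.toAlgHom.comp ((AdicCompletion.evalₐ I n).restrictScalars R))
    (fun {m n} h => AlgHom.ext fun x => by
      apply (G m).injective
      refine (hG h ((G n).symm (AdicCompletion.evalₐ I n x))).symm.trans ?_
      rw [AlgEquiv.apply_symm_apply, factor_evalₐ I h]
      exact ((G m).apply_symm_apply _).symm)
  refine ⟨AlgEquiv.ofAlgHom F F' (AlgHom.ext fun x => ?_) (AlgHom.ext fun x => ?_)⟩
  · refine AdicCompletion.ext_evalₐ fun n => ?_
    show AdicCompletion.evalₐ I n (F (F' x)) = AdicCompletion.evalₐ I n x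
    simp [F, F']
  · refine AdicCompletion.ext_evalₐ fun n => ?_
    show AdicCompletion.evalₐ J n (F' (F x)) = AdicCompletion.evalₐ J n x
    simp [F, F']

end equiv

section smooth

variable {R S : Type u} [CommRing R] [CommRing S] [Algebra R S]

/-- The completion of a formally smooth algebra along a section with free conormal module. -/
theorem adicCompletion_section_powerSeries [Algebra.FormallySmooth R S] (σ : S →ₐ[R] R) (d : ℕ)
    (e : (RingHom.ker σ.toRingHom).Cotangent ≃ₗ[R] (Fin d → R)) :
    Nonempty (AdicCompletion (RingHom.ker σ.toRingHom) S ≃ₐ[R] MvPowerSeries (Fin d) R) := by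
  classical
  set I := RingHom.ker σ.toRingHom with hI
  choose s hs using fun i : Fin d => I.toCotangent_surjective (e.symm (Pi.single i 1))
  let α : MvPolynomial (Fin d) R →ₐ[R] S := aeval fun i => (s i : S)
  let J : Ideal (MvPolynomial (Fin d) R) := idealOfVars (Fin d) R
  have hαX : ∀ i, α (X i) = (s i : S) := fun i => aeval_X _ i
  have hJI : J ≤ I.comap α := by
    show idealOfVars (Fin d) R ≤ _
    rw [idealOfVars, Ideal.span_le]
    rintro _ ⟨i, rfl⟩
    show α (X i) ∈ I
    rw [hαX]
    exact (s i).2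
  have hlin : ∀ c : Fin d → R, e (I.toCotangent (∑ i, c i • s i)) = c := fun c => by
    rw [map_sum, map_sum]
    conv_rhs => rw [← Finset.univ_sum_single c]
    refine Finset.sum_congr rfl fun i _ => ?_
    rw [LinearMap.map_smul_of_tower, hs, map_smul, LinearEquiv.apply_symm_apply,
      ← Pi.single_smul, smul_eq_mul, mul_one]
  have hIdec : ∀ x ∈ I, ∃ p ∈ J, α p - x ∈ I ^ 2 := fun x hx => by
    refine ⟨∑ i, C (e (I.toCotangent ⟨x, hx⟩) i) * X i, Ideal.sum_mem _ fun i _ =>
      Ideal.mul_mem_left _ _ (Ideal.subset_span ⟨i, rfl⟩), ?_⟩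
    have h1 : I.toCotangent (∑ i, e (I.toCotangent ⟨x, hx⟩) i • s i) = I.toCotangent ⟨x, hx⟩ :=
      e.injective (by rw [hlin])
    have h2 := (Ideal.toCotangent_eq I).1 h1
    convert h2 using 1
    simp only [map_sum, map_mul, hαX, Submodule.coe_sum, Submodule.coe_smul_of_tower,
      Algebra.smul_def, α, aeval_C]
  have hSdec : ∀ x : S, x - algebraMap R S (σ x) ∈ I := fun x => by
    show σ (x - algebraMap R S (σ x)) = 0
    rw [map_sub, AlgHom.commutes, Algebra.algebraMap_self, RingHom.id_apply, sub_self]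
  -- surjectivity modulo powers
  have hpow : ∀ n, ∀ x ∈ I ^ n, ∃ p ∈ J ^ n, α p - x ∈ I ^ (n + 1) := fun n => by
    induction n with
    | zero =>
      intro x _
      refine ⟨C (σ x), by simp, ?_⟩
      rw [pow_one]
      have := I.neg_mem (hSdec x)
      simpa [α, sub_eq_add_neg, add_comm] using this
    | succ n ih =>
      intro x hx
      rw [pow_succ] at hx
      refine Submodule.mul_induction_on hx (fun a ha b hb => ?_) fun y z hy hz => ?_
      · obtain ⟨p, hp, hpa⟩ := ih a ha
        obtain ⟨q, hq, hqb⟩ := hIdec b hb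
        refine ⟨p * q, by rw [pow_succ]; exact Ideal.mul_mem_mul hp hq, ?_⟩
        have : α (p * q) - a * b = (α p - a) * α q + a * (α q - b) := by rw [map_mul]; ring
        rw [this]
        refine Ideal.add_mem _ ?_ ?_
        · rw [pow_succ]; exact Ideal.mul_mem_mul hpa (hJI hq)
        · have := Ideal.mul_mem_mul ha hqb
          rwa [← pow_add] at this
      · obtain ⟨p, hp, hpy⟩ := hy
        obtain ⟨q, hq, hqz⟩ := hz
        refine ⟨p + q, Ideal.add_mem _ hp hq, ?_⟩
        rw [map_add, add_sub_add_comm]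
        exact Ideal.add_mem _ hpy hqz
  have hsurj : ∀ (n : ℕ) (b : S), ∃ a, α a - b ∈ I ^ n := fun n => by
    induction n with
    | zero => intro b; exact ⟨0, by simp⟩
    | succ n ih =>
      intro b
      obtain ⟨a, ha⟩ := ih b
      obtain ⟨p, -, hp⟩ := hpow n _ ha
      refine ⟨a - p, ?_⟩
      have := Ideal.neg_mem_iff _ |>.2 hp
      convert this using 1
      rw [map_sub]; ring
  -- degree two
  have hJσ : ∀ p : MvPolynomial (Fin d) R, p - C (constantCoeff p) ∈ J := fun p => by
    induction p using MvPolynomial.induction_on with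
    | C a => simp
    | add p q hp hq =>
      have := J.add_mem hp hq
      convert this using 1
      rw [map_add, map_add]; ring
    | mul_X p i _ =>
      rw [map_mul, constantCoeff_X, mul_zero, map_zero, sub_zero]
      exact Ideal.mul_mem_left _ _ (Ideal.subset_span ⟨i, rfl⟩)
  have hinj2 : ∀ p, α p ∈ I ^ 2 → p ∈ J ^ 2 := fun p hp => by
    have h0 : σ (α p) = 0 := Ideal.pow_le_self two_ne_zero hp
    have hc : constantCoeff p = 0 := by
      have h1 : α (p - C (constantCoeff p)) ∈ I := hJI (hJσ p)
      have h2 : σ (α (p - C (constantCoeff p))) = 0 := h1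
      rw [map_sub, map_sub, h0] at h2
      simpa [α] using h2
    have hpJ : p ∈ J := by simpa [hc] using hJσ p
    obtain ⟨c, hc⟩ := Ideal.mem_span_range_iff_exists_fun.1 hpJ
    have hmod : p - ∑ i, C (constantCoeff (c i)) * X i ∈ J ^ 2 := by
      rw [← hc, ← Finset.sum_sub_distrib]
      refine Ideal.sum_mem _ fun i _ => ?_
      rw [← sub_mul, pow_two]
      exact Ideal.mul_mem_mul (hJσ _) (Ideal.subset_span ⟨i, rfl⟩)
    have h3 : α (∑ i, C (constantCoeff (c i)) * X i) ∈ I ^ 2 := by
      have := Ideal.sub_mem _ hp ((Ideal.pow_right_mono hJI 2).trans (Ideal.le_comap_pow _ 2) hmod)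
      rwa [map_sub, sub_sub_cancel] at this
    have h4 : I.toCotangent (∑ i, constantCoeff (c i) • s i) = 0 := by
      rw [Ideal.toCotangent_eq_zero]
      convert h3 using 1
      simp only [map_sum, map_mul, hαX, Submodule.coe_sum, Submodule.coe_smul_of_tower,
        Algebra.smul_def, α, aeval_C]
    have h5 : (fun i => constantCoeff (c i)) = 0 := by
      rw [← hlin fun i => constantCoeff (c i), h4, map_zero]
    simpa [fun i => congrFun h5 i] using hmod
  -- injectivity modulo powers
  have hinj : ∀ (n : ℕ) (p : MvPolynomial (Fin d) R), α p ∈ I ^ n → p ∈ J ^ n := by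
    intro n p hp
    rcases Nat.lt_or_ge n 2 with hn | hn
    · interval_cases n
      · simp
      · rw [pow_one] at hp ⊢
        have h1 : σ (α p) = 0 := hp
        have h2 : σ (α (p - C (constantCoeff p))) = 0 := hJI (hJσ p)
        rw [map_sub, map_sub, h1] at h2
        have hc : constantCoeff p = 0 := by simpa [α] using h2
        simpa [hc] using hJσ p
    let P := MvPolynomial (Fin d) R
    let π : (P ⧸ J ^ n) →ₐ[R] P ⧸ J ^ 2 := Ideal.Quotient.factorₐ R (Ideal.pow_le_pow_right hn)
    let g2 : (P ⧸ J ^ 2) →ₐ[R] S ⧸ I ^ 2 :=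
      Ideal.quotientMapₐ (I ^ 2) α ((Ideal.pow_right_mono hJI 2).trans (Ideal.le_comap_pow _ 2))
    have hg2 : Function.Bijective g2 := by
      constructor
      · rw [injective_iff_map_eq_zero]
        intro x hx
        obtain ⟨a, rfl⟩ := Ideal.Quotient.mk_surjective x
        exact Ideal.Quotient.eq_zero_iff_mem.2 (hinj2 a (Ideal.Quotient.eq_zero_iff_mem.1 hx))
      · intro y
        obtain ⟨b, rfl⟩ := Ideal.Quotient.mk_surjective y
        obtain ⟨a, ha⟩ := hsurj 2 b
        exact ⟨Ideal.Quotient.mk _ a, Ideal.Quotient.eq.2 ha⟩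
    let β2 : S →ₐ[R] P ⧸ J ^ 2 :=
      (AlgEquiv.ofBijective g2 hg2).symm.toAlgHom.comp (Ideal.Quotient.mkₐ R (I ^ 2))
    have hβ2 : ∀ q, β2 (α q) = Ideal.Quotient.mk (J ^ 2) q := fun q =>
      (AlgEquiv.symm_apply_eq (AlgEquiv.ofBijective g2 hg2)
        (x := Ideal.Quotient.mk (I ^ 2) (α q)) (y := Ideal.Quotient.mk (J ^ 2) q)).2 rfl
    have hπsurj : Function.Surjective π := Ideal.Quotient.factor_surjective (Ideal.pow_le_pow_right hn)
    have hker : ∀ x, π x = 0 → x ∈ (J ^ 2).map (Ideal.Quotient.mk (J ^ n)) := fun x hx => by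
      obtain ⟨a, rfl⟩ := Ideal.Quotient.mk_surjective x
      exact Ideal.mem_map_of_mem _ (Ideal.Quotient.eq_zero_iff_mem.1 hx)
    have hnil : IsNilpotent (RingHom.ker (π : (P ⧸ J ^ n) →+* P ⧸ J ^ 2)) := by
      refine ⟨n, ?_⟩
      rw [Ideal.zero_eq_bot, eq_bot_iff]
      refine (Ideal.pow_right_mono (fun x hx => hker x hx) n).trans ?_
      rw [← Ideal.map_pow, Ideal.map_le_iff_le_comap, ← pow_mul]
      intro y hy
      exact (Ideal.Quotient.eq_zero_iff_mem.2 (Ideal.pow_le_pow_right (show n ≤ 2 * n by omega) hy) :)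
    let β := Algebra.FormallySmooth.liftOfSurjective β2 π hπsurj hnil
    have hβ : ∀ x, π (β x) = β2 x := fun x =>
      Algebra.FormallySmooth.liftOfSurjective_apply β2 π hπsurj hnil x
    let M : Ideal (P ⧸ J ^ n) := J.map (Ideal.Quotient.mk (J ^ n))
    have hθ1 : ∀ q, β (α q) - Ideal.Quotient.mk (J ^ n) q ∈ M ^ 2 := fun q => by
      rw [← Ideal.map_pow]
      refine hker _ ?_
      rw [map_sub, hβ, hβ2]
      exact sub_self _
    have hθM : ∀ q ∈ J, β (α q) ∈ M := fun q hq => by
      have := M.add_mem (Ideal.pow_le_self two_ne_zero (hθ1 q)) (Ideal.mem_map_of_mem _ hq)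
      rwa [sub_add_cancel] at this
    have hβI : ∀ x ∈ I, β x ∈ M := fun x hx => by
      obtain ⟨q, hq, hqx⟩ := hIdec x hx
      have h1 : β (α q - x) ∈ M := by
        refine Ideal.pow_le_self two_ne_zero (I := M) ?_
        rw [← Ideal.map_pow]
        refine hker _ ?_
        rw [hβ]
        show (AlgEquiv.ofBijective g2 hg2).symm (Ideal.Quotient.mk (I ^ 2) (α q - x)) = 0
        rw [Ideal.Quotient.eq_zero_iff_mem.2 hqx, map_zero]
      have := M.sub_mem (hθM q hq) h1
      rwa [map_sub, sub_sub_cancel] at this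
    have hM0 : ∀ y ∈ M ^ n, y = 0 := fun y hy => by
      rw [← Ideal.map_pow, Ideal.map_quotient_self] at hy
      exact hy
    have hzero : β (α p) = 0 := by
      have hmem : β (α p) ∈ (I.map β) ^ n := by
        rw [← Ideal.map_pow]; exact Ideal.mem_map_of_mem _ hp
      exact hM0 _ (Ideal.pow_right_mono (Ideal.map_le_iff_le_comap.2 hβI) n hmem)
    have hcong : ∀ k, ∀ q ∈ J ^ k, β (α q) - Ideal.Quotient.mk (J ^ n) q ∈ M ^ (k + 1) := fun k => by
      induction k with
      | zero => intro q _; exact Ideal.pow_le_pow_right (by omega) (hθ1 q)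
      | succ k ih =>
        intro q hq
        rw [pow_succ] at hq
        refine Submodule.mul_induction_on hq (fun a ha b hb => ?_) fun y z hy hz => ?_
        · have : β (α (a * b)) - Ideal.Quotient.mk (J ^ n) (a * b) =
              (β (α a) - Ideal.Quotient.mk (J ^ n) a) * β (α b) +
                Ideal.Quotient.mk (J ^ n) a * (β (α b) - Ideal.Quotient.mk (J ^ n) b) := by
            simp only [map_mul]; ring
          rw [this]
          refine Ideal.add_mem _ ?_ ?_
          · exact (pow_succ M (k + 1)).ge (Ideal.mul_mem_mul (ih a ha) (hθM b hb))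
          · have hm : Ideal.Quotient.mk (J ^ n) a ∈ M ^ k := by
              rw [← Ideal.map_pow]; exact Ideal.mem_map_of_mem _ ha
            exact (pow_add M k 2).ge (Ideal.mul_mem_mul hm (hθ1 b))
        · rw [map_add, map_add, map_add, add_sub_add_comm]
          exact Ideal.add_mem _ hy hz
    have hmem : ∀ k ≤ n, p ∈ J ^ k := fun k => by
      induction k with
      | zero => intro _; simp
      | succ k ih =>
        intro hk
        have h1 := hcong k p (ih (by omega))
        rw [hzero, zero_sub, Ideal.neg_mem_iff, ← Ideal.map_pow, ← Ideal.mem_comap,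
          Ideal.comap_map_of_surjective _ Ideal.Quotient.mk_surjective] at h1
        refine (sup_le le_rfl ?_ : _ ≤ J ^ (k + 1)) h1
        intro z hz
        exact Ideal.pow_le_pow_right hk (Ideal.Quotient.eq_zero_iff_mem.1 hz)
    exact hmem n le_rfl
  obtain ⟨E⟩ := adicCompletion_equiv_of_bijective α J I hJI hsurj hinj
  have : IsScalarTower R (MvPolynomial (Fin d) R) (AdicCompletion J (MvPolynomial (Fin d) R)) :=
    IsScalarTower.of_algebraMap_eq fun r => by
      rw [AdicCompletion.algebraMap_apply, AdicCompletion.algebraMap_apply, Algebra.algebraMap_self,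
        RingHom.id_apply]
  exact ⟨E.symm.trans ((MvPowerSeries.toAdicCompletionAlgEquiv (Fin d) R).restrictScalars R).symm⟩

end smooth

end Groth.Agent.CAlgH39
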