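import Groth.Agent.OmegaField.Basis
import Mathlib

/-!
# Separating transcendence bases and differentials
-/

universe u v w

open TensorProduct

namespace Groth.Agent.CAlgH39.SepBasis

variable (k : Type u) (F : Type v) [Field k] [Field F] [Algebra k F]

theorem rank_kaehler [PerfectField k] [Algebra.EssFiniteType k F] {ι : Type v} (x : ι → F)
    (hx : IsTranscendenceBasis k x) : Module.rank F (Ω[F⁄k]) = Cardinal.mk ι := by
  obtain ⟨s, hs, hsep⟩ := exists_isTranscendenceBasis_and_isSeparable_of_perfectField k F
  obtain ⟨b, -⟩ := OmegaField.exists_basis k F ((↑) : s → F) hs.1 (by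
    rwa [show Set.range ((↑) : s → F) = (s : Set F) from Subtype.range_coe])
  rw [← b.mk_eq_rank'', hx.cardinalMk_eq_trdeg, hs.cardinalMk_eq_trdeg]

theorem isSeparable_adjoin_iff [Algebra.EssFiniteType k F] {ι : Type v} (x : ι → F)
    (hx : IsTranscendenceBasis k x) :
    Algebra.IsSeparable (IntermediateField.adjoin k (Set.range x)) F ↔
      (LinearIndependent F (fun i : ι => KaehlerDifferential.D k F (x i)) ∧
        Submodule.span F (Set.range fun i : ι => KaehlerDifferential.D k F (x i)) = ⊤) := by
  constructor
  · intro h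
    obtain ⟨b, hb⟩ := OmegaField.exists_basis k F x hx.1 h
    rw [← funext hb]
    exact ⟨b.linearIndependent, b.span_eq⟩
  · rintro ⟨-, hspan⟩
    have : Algebra.EssFiniteType (IntermediateField.adjoin k (Set.range x)) F :=
      Algebra.EssFiniteType.of_comp k _ F
    have hsub : Subsingleton (Ω[F⁄IntermediateField.adjoin k (Set.range x)]) := by
      have h1 : ∀ z : Ω[F⁄IntermediateField.adjoin k (Set.range x)], z = 0 := by
        intro z
        obtain ⟨y, rfl⟩ := KaehlerDifferential.map_surjective k (IntermediateField.adjoin k (Set.range x)) F z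
        have hy : y ∈ Submodule.span F (Set.range fun i : ι => KaehlerDifferential.D k F (x i)) :=
          hspan ▸ Submodule.mem_top
        induction hy using Submodule.span_induction with
        | mem w hw =>
          obtain ⟨i, rfl⟩ := hw
          rw [KaehlerDifferential.map_D]
          exact (KaehlerDifferential.D (IntermediateField.adjoin k (Set.range x)) F).map_algebraMap
            ⟨x i, IntermediateField.subset_adjoin k _ ⟨i, rfl⟩⟩
        | zero => exact map_zero _
        | add a b _ _ ha hb => rw [map_add, ha, hb, add_zero]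
        | smul c a _ ha => rw [map_smul, ha, smul_zero]
      exact ⟨fun a b => (h1 a).trans (h1 b).symm⟩
    have : Algebra.FormallyUnramified (IntermediateField.adjoin k (Set.range x)) F := ⟨hsub⟩
    exact (Algebra.FormallyUnramified.iff_isSeparable _ _).1 this

theorem map_kaehler (K L : Type v) [Field K] [Field L] [Algebra k K] [Algebra k L] [Algebra K L]
    [IsScalarTower k K L] [PerfectField k] [Algebra.EssFiniteType k K]
    (hx : ∃ x : K, IsTranscendenceBasis k (fun _ : Unit => x)) [FiniteDimensional K L] :
    (KaehlerDifferential.map k k K L = 0 ∨ Function.Injective (KaehlerDifferential.map k k K L)) ∧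
      (Function.Injective (KaehlerDifferential.map k k K L) ↔ Algebra.IsSeparable K L) := by
  obtain ⟨x, hx⟩ := hx
  have hxK : IsTranscendenceBasis k (fun _ : PUnit.{v + 1} => x) :=
    hx.comp_equiv (Equiv.punitEquivPUnit : PUnit.{v + 1} ≃ Unit)
  have hxL : IsTranscendenceBasis k (fun _ : PUnit.{v + 1} => algebraMap K L x) := by
    have h := IsTranscendenceBasis.sumElim_comp hxK
      (show IsTranscendenceBasis K (![] : Fin 0 → L) from ⟨algebraicIndependent_empty_type, by
        intro s hs hle
        apply le_antisymm hle
        intro y hy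
        exfalso
        exact (hs.transcendental (i := ⟨y, hy⟩)) (Algebra.IsAlgebraic.isAlgebraic y)⟩)
    exact h.comp_equiv (Equiv.emptySum (Fin 0) PUnit.{v + 1}).symm
  have : Algebra.EssFiniteType k L := Algebra.EssFiniteType.comp k K L
  have hK : Module.rank K (Ω[K⁄k]) = 1 := by
    rw [rank_kaehler k K _ hxK, Cardinal.mk_punit]
  have hL : Module.rank L (Ω[L⁄k]) = 1 := by
    rw [rank_kaehler k L _ hxL, Cardinal.mk_punit]
  obtain ⟨v₀, hv₀, hgen⟩ := finrank_eq_one_iff'.1 (Module.rank_eq_one_iff_finrank_eq_one.1 hK)
  have hdich : KaehlerDifferential.map k k K L = 0 ∨ Function.Injective (KaehlerDifferential.map k k K L) := by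
    by_cases h0 : KaehlerDifferential.map k k K L v₀ = 0
    · left
      refine LinearMap.ext fun w => ?_
      obtain ⟨c, rfl⟩ := hgen w
      rw [map_smul, h0, smul_zero, LinearMap.zero_apply]
    · right
      rw [injective_iff_map_eq_zero]
      intro w hw
      obtain ⟨c, rfl⟩ := hgen w
      rw [map_smul, ← algebraMap_smul L c (KaehlerDifferential.map k k K L v₀), smul_eq_zero] at hw
      rcases hw with hw | hw
      · rw [(map_eq_zero _).1 hw, zero_smul]
      · exact absurd hw h0
  refine ⟨hdich, ⟨fun hinj => ?_, fun hsep => ?_⟩⟩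
  · have hne : KaehlerDifferential.map k k K L v₀ ≠ 0 := fun h => hv₀ (hinj (h.trans (map_zero _).symm))
    have hspan := (finrank_eq_one_iff_of_nonzero' _ hne).1 (Module.rank_eq_one_iff_finrank_eq_one.1 hL)
    have hsurj : Function.Surjective (KaehlerDifferential.mapBaseChange k K L) := fun z => by
      obtain ⟨c, rfl⟩ := hspan z
      exact ⟨c ⊗ₜ v₀, KaehlerDifferential.mapBaseChange_tmul k K L c v₀⟩
    have hsub : Subsingleton (Ω[L⁄K]) := by
      have h1 : ∀ z : Ω[L⁄K], z = 0 := fun z => by
        obtain ⟨y, rfl⟩ := KaehlerDifferential.map_surjective k K L z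
        obtain ⟨w, rfl⟩ := hsurj y
        exact (KaehlerDifferential.exact_mapBaseChange_map k K L).apply_apply_eq_zero w
      exact ⟨fun a b => (h1 a).trans (h1 b).symm⟩
    have : Algebra.FormallyUnramified K L := ⟨hsub⟩
    exact (Algebra.FormallyUnramified.iff_isSeparable _ _).1 this
  · have : Algebra.FormallyEtale K L := Algebra.FormallyEtale.of_isSeparable K L
    intro a b hab
    have h1 : (1 : L) ⊗ₜ[K] a = (1 : L) ⊗ₜ[K] b :=
      (KaehlerDifferential.tensorKaehlerEquivOfFormallyEtale k K L).injective (by
        simp only [KaehlerDifferential.tensorKaehlerEquivOfFormallyEtale_apply,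
          KaehlerDifferential.mapBaseChange_tmul, one_smul, hab])
    exact Module.FaithfullyFlat.tensorProduct_mk_injective (A := K) (B := L) (Ω[K⁄k]) h1

end Groth.Agent.CAlgH39.SepBasis
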