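import Groth.Agent.CAlgH39.NormVal
import Groth.Agent.Hensel.IntegralStrict
import Groth.Agent.Hensel.Local
import Mathlib

/-!
# Uniformizers of totally tamely ramified extensions
-/

universe u

open Polynomial

namespace Groth.Agent.CAlgH39.TameUnif

theorem exists_uniformizer (K A B : Type u) [Field K]
    [CommRing A] [IsDomain A] [IsDiscreteValuationRing A] [Algebra K A]
    (hK : Function.Bijective ((IsLocalRing.residue A).comp (algebraMap K A)))
    [CommRing B] [IsDedekindDomain B] [HenselianLocalRing B] [Algebra A B] [Module.Finite A B]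
    [Module.IsTorsionFree A B]
    (M : Ideal B) [M.IsMaximal] (hram : M.ramificationIdx A = Module.finrank A B)
    (hm : IsUnit ((Module.finrank A B : ℕ) : A)) :
    ∃ u : B, u ∈ M ∧ u ∉ M ^ 2 ∧ u ^ Module.finrank A B ∈ (algebraMap A B).range ∧
      (minpoly A u).natDegree = Module.finrank A B := by
  classical
  set n := Module.finrank A B
  set m := IsLocalRing.maximalIdeal A
  have hn0 : 0 < n := hram ▸ Ideal.ramificationIdx_pos (R := A) M
  have hm0 : m ≠ ⊥ := IsDiscreteValuationRing.not_a_field A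
  have hM : M = IsLocalRing.maximalIdeal B := IsLocalRing.eq_maximalIdeal inferInstance
  have : M.LiesOver m := ⟨(IsLocalRing.eq_maximalIdeal (Ideal.IsMaximal.under A M)).symm⟩
  have hmB : m.map (algebraMap A B) ≠ ⊥ := fun h => hm0 ((Ideal.map_eq_bot_iff_of_injective
    (FaithfulSMul.algebraMap_injective A B)).1 h)
  have hM0 : M ≠ ⊥ := ne_bot_of_le_ne_bot hmB (Ideal.map_le_of_le_comap (M.over_def m).le)
  have hnf : ¬ IsField B := fun hf => hM0 (by rw [hM]; exact IsLocalRing.isField_iff_maximalIdeal_eq.1 hf)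
  have : IsDiscreteValuationRing B := ((IsDiscreteValuationRing.TFAE B hnf).out 2 0).1 ‹IsDedekindDomain B›
  obtain ⟨t, ht⟩ := IsDiscreteValuationRing.exists_irreducible A
  obtain ⟨π, hπ⟩ := IsDiscreteValuationRing.exists_irreducible B
  have hMπ : M = Ideal.span {π} := hM.trans hπ.maximalIdeal_eq
  have htB : algebraMap A B t ≠ 0 := fun h =>
    ht.ne_zero ((map_eq_zero_iff _ (FaithfulSMul.algebraMap_injective A B)).1 h)
  obtain ⟨e, w, hw⟩ := IsDiscreteValuationRing.eq_unit_mul_pow_irreducible htB hπ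
  have hmBe : m.map (algebraMap A B) = M ^ e := by
    rw [show m = Ideal.span {t} from ht.maximalIdeal_eq, Ideal.map_span, Set.image_singleton, hw, hMπ,
      Ideal.span_singleton_pow, Ideal.span_singleton_mul_left_unit w.isUnit]
  obtain rfl : e = n := by
    rw [← hram, Ideal.IsDedekindDomain.ramificationIdx_eq_multiplicity m M hmB, hmBe,
      multiplicity_pow_self_of_prime (Ideal.prime_of_isPrime hM0 inferInstance)]
  -- trivial residue extension
  have hset : m.primesOver B = {M} := by
    ext P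
    constructor
    · rintro ⟨hP, hPm⟩
      have : P.IsMaximal := Ideal.IsMaximal.of_liesOver_isMaximal P m
      exact (IsLocalRing.eq_maximalIdeal this).trans hM.symm
    · rintro rfl
      exact ⟨inferInstance, inferInstance⟩
  have hf1 : M.inertiaDeg A = 1 := by
    letI : Unique (m.primesOver B) := hset ▸ Set.uniqueSingleton M
    have hsum := Ideal.sum_ramification_inertia_eq_finrank (p := m) (S := B)
    rw [Fintype.sum_unique] at hsum
    have hd : ((default : m.primesOver B) : Ideal B) = M :=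
      Set.mem_singleton_iff.1 (hset.le (default : m.primesOver B).2)
    rw [hd, hram] at hsum
    exact Nat.eq_of_mul_eq_mul_left hn0 (hsum.trans (mul_one _).symm)
  have hres : ∀ b : B, ∃ c : K, b - algebraMap A B (algebraMap K A c) ∈ M := by
    intro b
    rw [Ideal.inertiaDeg_eq_of_isMaximal m M] at hf1
    letI : Field (A ⧸ m) := Ideal.Quotient.field m
    obtain ⟨a', ha'⟩ := (finrank_eq_one_iff_of_nonzero' (1 : B ⧸ M) one_ne_zero).1 hf1 (Ideal.Quotient.mk M b)
    obtain ⟨a, rfl⟩ := Ideal.Quotient.mk_surjective a'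
    obtain ⟨c, hc⟩ := hK.2 (IsLocalRing.residue A a)
    refine ⟨c, Ideal.Quotient.eq.1 ?_⟩
    rw [← ha', Algebra.smul_def, mul_one]
    show Ideal.Quotient.mk M (algebraMap A B a) = _
    rw [Ideal.Quotient.eq, ← map_sub]
    have hmem : a - algebraMap K A c ∈ m := by
      rw [← IsLocalRing.residue_eq_zero_iff, map_sub, sub_eq_zero]
      exact hc.symm
    exact (M.over_def m).le hmem
  -- adjust the uniformizer by an `n`-th root
  obtain ⟨c, hc⟩ := hres (↑w⁻¹ : B)
  have hc0 : c ≠ 0 := fun h => by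
    rw [h, map_zero, map_zero, sub_zero, hM] at hc
    exact hc (Units.isUnit _)
  have hcu : IsUnit (algebraMap A B (algebraMap K A c)) := ((Ne.isUnit hc0).map _).map _
  obtain ⟨cu, hcu⟩ := hcu
  set v : B := ↑w⁻¹ * ↑cu⁻¹
  have hv1 : v - 1 ∈ M := by
    have := M.mul_mem_right (↑cu⁻¹ : B) hc
    rwa [sub_mul, ← hcu, Units.mul_inv] at this
  let g : B[X] := X ^ n - C v
  have hg0 : g.eval 1 ∈ IsLocalRing.maximalIdeal B := by
    simp only [g, eval_sub, eval_pow, eval_X, one_pow, eval_C, ← hM]
    rw [← Ideal.neg_mem_iff, neg_sub]; exact hv1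
  have hg1 : IsUnit (g.derivative.eval 1) := by
    simp only [g, derivative_sub, derivative_X_pow, derivative_C, sub_zero, eval_mul, eval_C, eval_pow, eval_X,
      one_pow, mul_one]
    simpa using hm.map (algebraMap A B)
  obtain ⟨r, hr, hr1⟩ := HenselianLocalRing.is_henselian g (monic_X_pow_sub_C v hn0.ne') 1 hg0 hg1
  have hrn : r ^ n = v := by
    have := hr.eq_zero
    simpa [g, sub_eq_zero] using this
  have hru : IsUnit r := by
    have h : IsUnit (r ^ n) := by rw [hrn]; exact (Units.isUnit w⁻¹).mul (Units.isUnit cu⁻¹)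
    exact (isUnit_pow_iff hn0.ne').1 h
  obtain ⟨ru, rfl⟩ := hru
  set u : B := π * ↑ru⁻¹
  have hun : u ^ n = algebraMap A B (t * algebraMap K A c) := by
    have h1 : (↑ru⁻¹ : B) ^ n * v = 1 := by rw [← hrn, ← mul_pow, Units.inv_mul, one_pow]
    have h2 : v * (↑cu * ↑w) = 1 := by
      show (↑w⁻¹ * ↑cu⁻¹ : B) * (↑cu * ↑w) = 1
      rw [mul_assoc, ← mul_assoc (↑cu⁻¹ : B), Units.inv_mul, one_mul, Units.inv_mul]
    have h3 : (↑ru⁻¹ : B) ^ n = ↑cu * ↑w := by
      calc (↑ru⁻¹ : B) ^ n = (↑ru⁻¹ : B) ^ n * (v * (↑cu * ↑w)) := by rw [h2, mul_one]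
        _ = _ := by rw [← mul_assoc, h1, one_mul]
    rw [map_mul, hw, mul_pow, h3, ← hcu]
    ring
  have huM : Ideal.span {u} = M := by rw [hMπ, Ideal.span_singleton_mul_right_unit (Units.isUnit _)]
  refine ⟨u, huM ▸ Ideal.mem_span_singleton_self u, fun h2 => ?_, ⟨_, hun.symm⟩, ?_⟩
  · have h3 : M ≤ M ^ 2 := by
      conv_lhs => rw [← huM]
      exact (Ideal.span_singleton_le_iff_mem _).2 h2
    have h4 := (Ideal.pow_right_strictAnti M hM0 (Ideal.IsMaximal.ne_top inferInstance)) (show 1 < 2 by norm_num)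
    simp only [pow_one] at h4
    exact h4.not_ge h3
  · set a := t * algebraMap K A c
    have ham : a ∈ m := m.mul_mem_right _ (by rw [show m = Ideal.span {t} from ht.maximalIdeal_eq]; exact Ideal.mem_span_singleton_self t)
    have ham2 : a ∉ m ^ 2 := by
      intro h
      rw [show m = Ideal.span {t} from ht.maximalIdeal_eq, Ideal.span_singleton_pow, Ideal.mem_span_singleton] at h
      obtain ⟨z, hz⟩ := h
      rw [pow_two, mul_assoc] at hz
      have hz' := mul_left_cancel₀ ht.ne_zero hz
      exact ht.not_isUnit (isUnit_of_mul_isUnit_left (hz' ▸ ((Ne.isUnit hc0).map (algebraMap K A))))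
    have hmon : (X ^ n - C a).Monic := monic_X_pow_sub_C a hn0.ne'
    have hirr : Irreducible (X ^ n - C a) := by
      refine IsEisensteinAt.irreducible (𝓟 := m) ⟨?_, fun {i} hi => ?_, ?_⟩
        (IsLocalRing.maximalIdeal.isMaximal A).isPrime hmon.isPrimitive ?_
      · rw [hmon.leadingCoeff]; exact fun h => (IsLocalRing.maximalIdeal.isMaximal A).ne_top ((Ideal.eq_top_iff_one _).2 h)
      · rw [natDegree_X_pow_sub_C] at hi
        rw [coeff_sub, coeff_X_pow, if_neg hi.ne, coeff_C, zero_sub, Ideal.neg_mem_iff]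
        split
        · exact ham
        · exact m.zero_mem
      · rw [coeff_sub, coeff_X_pow, if_neg hn0.ne, coeff_C_zero, zero_sub, Ideal.neg_mem_iff]; exact ham2
      · rw [natDegree_X_pow_sub_C]; exact hn0
    have hint : IsIntegral A u := Algebra.IsIntegral.isIntegral u
    have hdvd : minpoly A u ∣ X ^ n - C a := minpoly.isIntegrallyClosed_dvd hint (by simp [hun])
    rw [eq_of_monic_of_associated (minpoly.monic hint) hmon ((minpoly.irreducible hint).associated_of_dvd hirr hdvd),
      natDegree_X_pow_sub_C]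

end Groth.Agent.CAlgH39.TameUnif
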