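import Groth.Agent.SGA7X.TorSeq
import Groth.Agent.TorBridge.LES
import Groth.Agent.FlatInter.Basic
import Mathlib

/-! Vanishing of `Tor_i(N, M)` for fixed `M`, spread along algebras, extensions and unions. -/

universe u

open CategoryTheory Limits MonoidalCategory TensorProduct

namespace Groth.Agent.CAlgH39.TorVanish

variable {A : Type u} [CommRing A] (M : Type u) [AddCommGroup M] [Module A M]

variable (A) in
/-- `Tor_i(N, M) = 0`. -/
def TorV (i : ℕ) (N : Type u) [AddCommGroup N] [Module A N] : Prop :=
  IsZero (((Tor (ModuleCat.{u} A) i).obj (ModuleCat.of A N)).obj (ModuleCat.of A M))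

section

variable {N N' N'' : Type u} [AddCommGroup N] [Module A N] [AddCommGroup N'] [Module A N']
  [AddCommGroup N''] [Module A N''] {a : N' →ₗ[A] N} {b : N →ₗ[A] N''}

theorem shortExact_mk (ha : Function.Injective a) (hb : Function.Surjective b) (hab : Function.Exact a b) :
    (ShortComplex.mk (ModuleCat.ofHom a) (ModuleCat.ofHom b)
      (ModuleCat.hom_ext hab.linearMap_comp_eq_zero)).ShortExact where
  exact := (ShortComplex.ShortExact.moduleCat_exact_iff_function_exact _).2 hab
  mono_f := (ModuleCat.mono_iff_injective _).2 ha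
  epi_g := (ModuleCat.epi_iff_surjective _).2 hb

theorem middle (ha : Function.Injective a) (hb : Function.Surjective b) (hab : Function.Exact a b)
    {i : ℕ} (h' : TorV A M i N') (h'' : TorV A M i N'') : TorV A M i N :=
  SGA7X.isZero_tor_middle (shortExact_mk ha hb hab) _ i h' h''

theorem left (ha : Function.Injective a) (hb : Function.Surjective b) (hab : Function.Exact a b)
    {i : ℕ} (h : TorV A M i N) (h'' : TorV A M (i + 1) N'') : TorV A M i N' :=
  SGA7X.isZero_tor_left (shortExact_mk ha hb hab) _ i h h''

theorem third (ha : Function.Injective a) (hb : Function.Surjective b) (hab : Function.Exact a b)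
    {i : ℕ} (h : TorV A M (i + 1) N) (h' : TorV A M i N') : TorV A M (i + 1) N'' :=
  TorBridge.isZero_tor_third _ (shortExact_mk ha hb hab) _ i h h'

/-- Kernels of composed surjections. -/
theorem injective_ker_comp {G : Type u} [AddCommGroup G] [Module A G] (π : G →ₗ[A] N)
    (hπ : Function.Surjective π) (b : N →ₗ[A] N'')
    (h1 : Function.Injective ((LinearMap.ker π).subtype.rTensor M))
    (h2 : Function.Injective ((LinearMap.ker b).subtype.rTensor M))
    (K : Submodule A G) (hK : K = LinearMap.ker (b ∘ₗ π)) :
    Function.Injective (K.subtype.rTensor M) := by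
  have hle : LinearMap.ker π ≤ K := fun x hx => by simp [hK, LinearMap.mem_ker.1 hx]
  let π' : K →ₗ[A] LinearMap.ker b := π.restrict fun x hx => by rw [hK] at hx; exact hx
  have hπ' : Function.Surjective π' := by
    rintro ⟨y, hy⟩
    obtain ⟨x, rfl⟩ := hπ y
    exact ⟨⟨x, by rw [hK]; exact hy⟩, rfl⟩
  have hex : Function.Exact (Submodule.inclusion hle) π' := fun x => by
    constructor
    · intro hx
      exact ⟨⟨x.1, congrArg Subtype.val hx⟩, rfl⟩
    · rintro ⟨y, rfl⟩
      exact Subtype.ext y.2
  rw [← LinearMap.ker_eq_bot, LinearMap.ker_eq_bot']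
  intro z hz
  have hz' : π'.rTensor M z = 0 := h2 (by
    rw [map_zero, ← LinearMap.comp_apply, ← LinearMap.rTensor_comp,
      show (LinearMap.ker b).subtype ∘ₗ π' = π ∘ₗ K.subtype from rfl,
      LinearMap.rTensor_comp, LinearMap.comp_apply, hz, map_zero])
  obtain ⟨w, rfl⟩ := (rTensor_exact M hex hπ' z).1 hz'
  rw [← LinearMap.comp_apply, ← LinearMap.rTensor_comp, Submodule.subtype_comp_inclusion] at hz
  rw [h1 (hz.trans (map_zero _).symm), map_zero]

/-- The degree one case of `third`, without vanishing of the kernel. -/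
theorem third_one (hb : Function.Surjective b) (hab : Function.Exact a b)
    (h : TorV A M 1 N) (h' : Function.Injective (a.rTensor M)) : TorV A M 1 N'' := by
  let π : (N →₀ A) →ₗ[A] N := Finsupp.linearCombination A (id : N → N)
  have hπ : Function.Surjective π := Finsupp.linearCombination_id_surjective A N
  have hπb : Function.Surjective (b ∘ₗ π) := hb.comp hπ
  have hker : Function.Injective ((LinearMap.ker b).subtype.rTensor M) := by
    let a' : N' →ₗ[A] LinearMap.ker b := a.codRestrict _ fun x => hab.apply_apply_eq_zero x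
    have ha' : Function.Surjective a' := by
      rintro ⟨y, hy⟩
      obtain ⟨x, rfl⟩ := (hab y).1 hy
      exact ⟨x, rfl⟩
    intro x y hxy
    obtain ⟨x, rfl⟩ := LinearMap.rTensor_surjective M ha' x
    obtain ⟨y, rfl⟩ := LinearMap.rTensor_surjective M ha' y
    rw [← LinearMap.comp_apply, ← LinearMap.comp_apply, ← LinearMap.rTensor_comp] at hxy
    rw [h' hxy]
  exact (TorBridge.isZero_tor_one_iff M N'' (b ∘ₗ π) hπb).2
    (injective_ker_comp M π hπ b ((TorBridge.isZero_tor_one_iff M N π hπ).1 h) hker _ rfl)

theorem of_flat [Module.Flat A N] (i : ℕ) : TorV A M (i + 1) N :=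
  SGA7X.isZero_tor_flat _ _ i

end

variable {M}

theorem torV_iff_exact (Q : ProjectiveResolution (ModuleCat.of A M)) (i : ℕ)
    (N : Type u) [AddCommGroup N] [Module A N] :
    TorV A M (i + 1) N ↔ Function.Exact ((Q.complex.d (i + 2) (i + 1)).hom.lTensor N)
      ((Q.complex.d (i + 1) i).hom.lTensor N) := by
  let G : ModuleCat.{u} A ⥤ ModuleCat.{u} A := (tensoringLeft (ModuleCat.{u} A)).obj (ModuleCat.of A N)
  show IsZero ((G.leftDerived (i + 1)).obj (ModuleCat.of A M)) ↔ _
  rw [Iso.isZero_iff (Q.isoLeftDerivedObj G (i + 1))]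
  show IsZero (((G.mapHomologicalComplex _).obj Q.complex).homology (i + 1)) ↔ _
  rw [← HomologicalComplex.exactAt_iff_isZero_homology,
    HomologicalComplex.exactAt_iff' _ (i + 2) (i + 1) i (by simp) (by simp),
    ShortComplex.ShortExact.moduleCat_exact_iff_function_exact]
  rfl

theorem finsupp {i : ℕ} (ι : Type u) (B : Type u) [AddCommGroup B] [Module A B]
    (h : TorV A M (i + 1) B) : TorV A M (i + 1) (ι →₀ B) := by
  classical
  let Q : ProjectiveResolution (ModuleCat.of A M) := ProjectiveResolution.of _
  rw [torV_iff_exact Q] at h ⊢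
  have key : ∀ {P P' : Type u} [AddCommGroup P] [Module A P] [AddCommGroup P'] [Module A P']
      (d : P →ₗ[A] P') (x : (ι →₀ B) ⊗[A] P) (j : ι),
      TensorProduct.finsuppLeft A A B P' ι (d.lTensor _ x) j =
        d.lTensor B (TensorProduct.finsuppLeft A A B P ι x j) := by
    intro P P' _ _ _ _ d x j
    induction x using TensorProduct.induction_on with
    | zero => simp
    | add x y hx hy => simp [hx, hy]
    | tmul v p => simp
  intro x
  constructor
  · intro hx
    set e := TensorProduct.finsuppLeft A A B (Q.complex.X (i + 1)) ι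
    set e' := TensorProduct.finsuppLeft A A B (Q.complex.X (i + 2)) ι
    have hj : ∀ j, e x j ∈ LinearMap.range ((Q.complex.d (i + 2) (i + 1)).hom.lTensor B) := fun j => by
      refine (h _).1 ?_
      rw [← key, hx, map_zero]
      rfl
    choose g hg using hj
    refine ⟨e'.symm (∑ j ∈ (e x).support, Finsupp.single j (g j)), e.injective (Finsupp.ext fun j => ?_)⟩
    rw [key, LinearEquiv.apply_symm_apply, Finsupp.finsetSum_apply]
    by_cases hjs : j ∈ (e x).support
    · rw [Finset.sum_eq_single_of_mem j hjs fun k _ hk => Finsupp.single_eq_of_ne hk.symm,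
        Finsupp.single_eq_same]
      exact hg j
    · rw [Finset.sum_eq_zero fun k hk => Finsupp.single_eq_of_ne (by rintro rfl; exact hjs hk), map_zero,
        Finsupp.notMem_support_iff.1 hjs]
  · rintro ⟨y, rfl⟩
    refine (TensorProduct.finsuppLeft A A B (Q.complex.X i) ι).injective (Finsupp.ext fun j => ?_)
    rw [key, key, h.apply_apply_eq_zero, map_zero]
    rfl

/-- Vanishing passes to directed unions. -/
theorem of_iUnion {i : ℕ} (N : Type u) [AddCommGroup N] [Module A N] (L : ℕ → Submodule A N)
    (hL : Monotone L) (hsup : ∀ y : N, ∃ n, y ∈ L n) (h : ∀ n, TorV A M (i + 1) (L n)) :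
    TorV A M (i + 1) N := by
  let Q : ProjectiveResolution (ModuleCat.of A M) := ProjectiveResolution.of _
  rw [torV_iff_exact Q]
  have lift : ∀ {P : Type u} [AddCommGroup P] [Module A P] (x : N ⊗[A] P),
      ∃ n, x ∈ LinearMap.range ((L n).subtype.rTensor P) := by
    intro P _ _ x
    induction x using TensorProduct.induction_on with
    | zero => exact ⟨0, zero_mem _⟩
    | tmul y p =>
      obtain ⟨n, hn⟩ := hsup y
      exact ⟨n, (⟨y, hn⟩ : L n) ⊗ₜ p, rfl⟩
    | add x y hx hy =>
      obtain ⟨n, x', rfl⟩ := hx
      obtain ⟨m, y', rfl⟩ := hy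
      refine ⟨max n m, add_mem ?_ ?_⟩
      · exact ⟨(Submodule.inclusion (hL (le_max_left n m))).rTensor P x', by
          rw [← LinearMap.comp_apply, ← LinearMap.rTensor_comp, Submodule.subtype_comp_inclusion]⟩
      · exact ⟨(Submodule.inclusion (hL (le_max_right n m))).rTensor P y', by
          rw [← LinearMap.comp_apply, ← LinearMap.rTensor_comp, Submodule.subtype_comp_inclusion]⟩
  intro x
  constructor
  · intro hx
    obtain ⟨n, x', rfl⟩ := lift x
    have : Module.Projective A (Q.complex.X i) := (IsProjective.iff_projective _).2 (Q.projective i)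
    have hx' : (Q.complex.d (i + 1) i).hom.lTensor (L n) x' = 0 :=
      Module.Flat.rTensor_preserves_injective_linearMap (M := Q.complex.X i) _ (L n).injective_subtype
        (by rw [map_zero, ← LinearMap.comp_apply, LinearMap.rTensor_comp_lTensor,
          ← LinearMap.lTensor_comp_rTensor, LinearMap.comp_apply, hx])
    obtain ⟨z, hz⟩ := (((torV_iff_exact Q i (L n)).1 (h n)) x').1 hx'
    refine ⟨(L n).subtype.rTensor _ z, ?_⟩
    rw [← hz, ← LinearMap.comp_apply, LinearMap.lTensor_comp_rTensor,
      ← LinearMap.rTensor_comp_lTensor, LinearMap.comp_apply]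
  · rintro ⟨y, rfl⟩
    rw [← LinearMap.comp_apply, ← LinearMap.lTensor_comp, ← ModuleCat.hom_comp, Q.complex.d_comp_d,
      ModuleCat.hom_zero, LinearMap.lTensor_zero, LinearMap.zero_apply]

variable (M)

theorem injective_of_flat_baseChange (B : Type u) [CommRing B] [Algebra A B]
    [Module.Flat B (B ⊗[A] M)] {P Q : Type u} [AddCommGroup P] [AddCommGroup Q] [Module B P]
    [Module B Q] [Module A P] [Module A Q] [IsScalarTower A B P] [IsScalarTower A B Q]
    (g : P →ₗ[B] Q) (hg : Function.Injective g) :
    Function.Injective ((g.restrictScalars A).rTensor M) :=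
  (FlatInter.injective_iff_baseChange M B g).1
    (Module.Flat.rTensor_preserves_injective_linearMap g hg)

/-- The degree one step for modules over an algebra. -/
theorem step_one (B : Type u) [CommRing B] [Algebra A B]
    [Module.Flat B (B ⊗[A] M)] {P F N : Type u} [AddCommGroup P] [AddCommGroup F] [AddCommGroup N]
    [Module B P] [Module B F] [Module B N] [Module A P] [Module A F] [Module A N]
    [IsScalarTower A B P] [IsScalarTower A B F] [IsScalarTower A B N]
    (g : P →ₗ[B] F) (q : F →ₗ[B] N) (hg : Function.Injective g) (hq : Function.Surjective q)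
    (hex : Function.Exact g q) (h : TorV A M 1 F) : TorV A M 1 N :=
  third_one M (a := g.restrictScalars A) (b := q.restrictScalars A) hq hex h
    (injective_of_flat_baseChange M B g hg)

/-- The higher step for modules over an algebra. -/
theorem step_succ (B : Type u) [CommRing B] [Algebra A B] {P F N : Type u} [AddCommGroup P]
    [AddCommGroup F] [AddCommGroup N]
    [Module B P] [Module B F] [Module B N] [Module A P] [Module A F] [Module A N]
    [IsScalarTower A B P] [IsScalarTower A B F] [IsScalarTower A B N]
    (g : P →ₗ[B] F) (q : F →ₗ[B] N) (hg : Function.Injective g) (hq : Function.Surjective q)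
    (hex : Function.Exact g q) {i : ℕ} (h : TorV A M (i + 1) F) (h' : TorV A M i P) :
    TorV A M (i + 1) N :=
  third M (a := g.restrictScalars A) (b := q.restrictScalars A) hg hq hex h h'

/-- From an algebra to its modules. -/
theorem of_algebra (B : Type u) [CommRing B] [Algebra A B] [Module.Flat B (B ⊗[A] M)] (n : ℕ)
    (hB : ∀ i, i < n → TorV A M (i + 1) B) :
    ∀ (i : ℕ) (N : Type u) [AddCommGroup N] [Module A N] [Module B N] [IsScalarTower A B N],
      i < n → TorV A M (i + 1) N := by
  intro i
  induction i with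
  | zero =>
    intro N _ _ _ _ hi
    let q : (N →₀ B) →ₗ[B] N := Finsupp.linearCombination B (id : N → N)
    exact step_one M B (P := ↥(LinearMap.ker q)) (F := N →₀ B) (LinearMap.ker q).subtype q
      (LinearMap.ker q).injective_subtype (Finsupp.linearCombination_id_surjective B N)
      (LinearMap.exact_subtype_ker_map q) (finsupp _ _ (hB 0 hi))
  | succ i ih =>
    intro N _ _ _ _ hi
    let q : (N →₀ B) →ₗ[B] N := Finsupp.linearCombination B (id : N → N)
    exact step_succ M B (P := ↥(LinearMap.ker q)) (F := N →₀ B) (LinearMap.ker q).subtype q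
      (LinearMap.ker q).injective_subtype (Finsupp.linearCombination_id_surjective B N)
      (LinearMap.exact_subtype_ker_map q) (finsupp _ _ (hB (i + 1) hi))
      (ih ↥(LinearMap.ker q) (Nat.lt_of_succ_lt hi))

end Groth.Agent.CAlgH39.TorVanish
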