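import Mathlib

/-! Maps inducing zero on all `Tor_p(-, N)`. -/

universe u

open CategoryTheory MonoidalCategory Limits

namespace Groth.Agent.CAlgH39.TorZero

variable {A : Type u} [CommRing A] (N : ModuleCat.{u} A)
  {X Y Z : Type u} [AddCommGroup X] [Module A X] [AddCommGroup Y] [Module A Y]
  [AddCommGroup Z] [Module A Z]

/-- `φ` induces zero on every `Tor_p(-, N)`. -/
def IsTorZero (φ : X →ₗ[A] Y) : Prop :=
  ∀ p : ℕ, ((Tor (ModuleCat.{u} A) p).map (ModuleCat.ofHom φ)).app N = 0

variable {N}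

lemma torMap_comp (φ : X →ₗ[A] Y) (ψ : Y →ₗ[A] Z) (p : ℕ) :
    ((Tor (ModuleCat.{u} A) p).map (ModuleCat.ofHom (ψ ∘ₗ φ))).app N =
      ((Tor (ModuleCat.{u} A) p).map (ModuleCat.ofHom φ)).app N ≫
        ((Tor (ModuleCat.{u} A) p).map (ModuleCat.ofHom ψ)).app N := by
  rw [ModuleCat.ofHom_comp, Functor.map_comp, NatTrans.comp_app]

lemma comp_left {φ : X →ₗ[A] Y} (h : IsTorZero N φ) (ψ : Y →ₗ[A] Z) : IsTorZero N (ψ ∘ₗ φ) := fun p => by
  rw [torMap_comp, h p, zero_comp]

lemma comp_right {ψ : Y →ₗ[A] Z} (h : IsTorZero N ψ) (φ : X →ₗ[A] Y) : IsTorZero N (ψ ∘ₗ φ) := fun p => by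
  rw [torMap_comp, h p, comp_zero]

/-- The complex computing `Tor(-, N)`. -/
noncomputable abbrev cx (X : ModuleCat.{u} A) (Q : ProjectiveResolution N) :
    HomologicalComplex (ModuleCat.{u} A) (ComplexShape.down ℕ) :=
  (((tensoringLeft (ModuleCat.{u} A)).obj X).mapHomologicalComplex (ComplexShape.down ℕ)).obj Q.complex

@[inherit_doc cx]
noncomputable abbrev cmap {X Y : ModuleCat.{u} A} (Q : ProjectiveResolution N) (φ : X ⟶ Y) :
    cx X Q ⟶ cx Y Q :=
  (NatTrans.mapHomologicalComplex ((tensoringLeft (ModuleCat.{u} A)).map φ) (ComplexShape.down ℕ)).app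
    Q.complex

lemma torMap_eq {X Y : ModuleCat.{u} A} (Q : ProjectiveResolution N) (φ : X ⟶ Y) (p : ℕ) :
    ((Tor (ModuleCat.{u} A) p).map φ).app N =
      (Q.isoLeftDerivedObj ((tensoringLeft (ModuleCat.{u} A)).obj X) p).hom ≫
        (HomologicalComplex.homologyFunctor _ _ p).map (cmap Q φ) ≫
        (Q.isoLeftDerivedObj ((tensoringLeft (ModuleCat.{u} A)).obj Y) p).inv :=
  Q.leftDerived_app_eq ((tensoringLeft (ModuleCat.{u} A)).map φ) p

lemma torMap_comm {X Y : ModuleCat.{u} A} (Q : ProjectiveResolution N) (φ : X ⟶ Y) (p : ℕ) :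
    ((Tor (ModuleCat.{u} A) p).map φ).app N ≫
        (Q.isoLeftDerivedObj ((tensoringLeft (ModuleCat.{u} A)).obj Y) p).hom =
      (Q.isoLeftDerivedObj ((tensoringLeft (ModuleCat.{u} A)).obj X) p).hom ≫
        (HomologicalComplex.homologyFunctor _ _ p).map (cmap Q φ) := by
  exact (Iso.eq_comp_inv _).1 ((torMap_eq Q φ p).trans (Category.assoc _ _ _).symm)

/-- Multiplication by an element annihilating `N`. -/
lemma smul_id (X : Type u) [AddCommGroup X] [Module A X] {f : A} (hf : ∀ y : N, f • y = 0) :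
    IsTorZero N (f • LinearMap.id : X →ₗ[A] X) := fun p => by
  let Q : ProjectiveResolution N := ProjectiveResolution.of N
  have hπ : (f • 𝟙 Q.complex) ≫ Q.π = 0 := by
    rw [Linear.smul_comp, Category.id_comp]
    refine HomologicalComplex.hom_ext _ _ fun j => ?_
    match j with
    | 0 =>
      refine ModuleCat.hom_ext (LinearMap.ext fun q => ?_)
      have h : ∀ z : ((ChainComplex.single₀ (ModuleCat.{u} A)).obj N).X 0, f • z = 0 := fun z => hf z
      exact h _
    | j + 1 => exact (HomologicalComplex.isZero_single_obj_X _ _ _ _ (Nat.succ_ne_zero j)).eq_of_tgt _ _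
  have hcm : cmap Q (ModuleCat.ofHom (f • LinearMap.id : X →ₗ[A] X)) =
      (((tensoringLeft (ModuleCat.{u} A)).obj (ModuleCat.of A X)).mapHomologicalComplex
        (ComplexShape.down ℕ)).map (f • 𝟙 Q.complex) := by
    refine HomologicalComplex.hom_ext _ _ fun j => ModuleCat.hom_ext ?_
    exact TensorProduct.ext' fun x q => (TensorProduct.smul_tmul f x q)
  have h0 : (HomologicalComplex.homologyFunctor _ _ p).map
      (cmap Q (ModuleCat.ofHom (f • LinearMap.id : X →ₗ[A] X))) = 0 := by
    rw [hcm, HomologicalComplex.homologyFunctor_map]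
    have H := (((tensoringLeft (ModuleCat.{u} A)).obj (ModuleCat.of A X))).mapHomotopy
      (ProjectiveResolution.liftHomotopyZero (f • 𝟙 Q.complex) hπ)
    rw [H.homologyMap_eq p, Functor.map_zero]
    exact HomologicalComplex.homologyMap_zero _ _ p
  refine (torMap_eq Q _ p).trans ?_
  refine (congrArg (fun t => _ ≫ t ≫ _) h0).trans ?_
  exact (congrArg (_ ≫ ·) zero_comp).trans comp_zero

lemma zero : IsTorZero N (0 : X →ₗ[A] Y) := by
  have h := comp_left (smul_id (N := N) X (f := 0) fun y => zero_smul A y) (0 : X →ₗ[A] Y)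
  rwa [LinearMap.zero_comp] at h

/-- If `φ` induces zero and `X → Y → Z → 0` is short exact, then `Tor(Y) → Tor(Z)` is mono. -/
lemma mono_of_torZero {φ : X →ₗ[A] Y} {ψ : Y →ₗ[A] Z} (hφ : Function.Injective φ)
    (hψ : Function.Surjective ψ) (he : Function.Exact φ ψ) (h : IsTorZero N φ) (p : ℕ) :
    Mono (((Tor (ModuleCat.{u} A) p).map (ModuleCat.ofHom ψ)).app N) := by
  let Q : ProjectiveResolution N := ProjectiveResolution.of N
  have w : cmap Q (ModuleCat.ofHom φ) ≫ cmap Q (ModuleCat.ofHom ψ) = 0 := by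
    refine HomologicalComplex.hom_ext _ _ fun j => ModuleCat.hom_ext ?_
    change ψ.rTensor (Q.complex.X j) ∘ₗ φ.rTensor (Q.complex.X j) = 0
    rw [← LinearMap.rTensor_comp, he.linearMap_comp_eq_zero, LinearMap.rTensor_zero]
  have hT : (ShortComplex.mk _ _ w).ShortExact := by
    refine HomologicalComplex.shortExact_of_degreewise_shortExact _ fun j => ?_
    have : Module.Projective A (Q.complex.X j) := (IsProjective.iff_projective _).2 (Q.projective j)
    exact
      { exact := (ShortComplex.ShortExact.moduleCat_exact_iff_function_exact _).2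
          (rTensor_exact (Q.complex.X j) he hψ)
        mono_f := (ModuleCat.mono_iff_injective _).2
          (Module.Flat.rTensor_preserves_injective_linearMap (M := Q.complex.X j) φ hφ)
        epi_g := (ModuleCat.epi_iff_surjective _).2 (LinearMap.rTensor_surjective (Q.complex.X j) hψ) }
  have hf0 : HomologicalComplex.homologyMap (cmap Q (ModuleCat.ofHom φ)) p = 0 := by
    have := torMap_comm Q (ModuleCat.ofHom φ) p
    exact (Iso.cancel_iso_hom_left (Q.isoLeftDerivedObj _ p) _ 0).1
      ((this.symm.trans ((congrArg (· ≫ _) (h p)).trans zero_comp)).trans comp_zero.symm)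
  have := (hT.homology_exact₂ p).mono_g hf0
  have h2 : Mono ((Q.isoLeftDerivedObj ((tensoringLeft (ModuleCat.{u} A)).obj (ModuleCat.of A Y)) p).hom ≫
      (HomologicalComplex.homologyFunctor _ _ p).map (cmap Q (ModuleCat.ofHom ψ)) ≫
      (Q.isoLeftDerivedObj ((tensoringLeft (ModuleCat.{u} A)).obj (ModuleCat.of A Z)) p).inv) :=
    mono_comp' inferInstance (mono_comp' this inferInstance)
  exact (torMap_eq Q (ModuleCat.ofHom ψ) p) ▸ h2

end Groth.Agent.CAlgH39.TorZero
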