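import Groth.Agent.S1192
import Groth.Agent.WeakAss.Basic
import Mathlib

/-!
# Weakly associated primes and extension of the ground field
-/

universe u

open TensorProduct Groth.Agent.WeakAss

namespace Groth.Agent.CAlgH39.WeakAssField

section flat

variable {A B : Type u} [CommRing A] [CommRing B] [Algebra A B] [Module.Flat A B]
  {M : Type u} [AddCommGroup M] [Module A M]

theorem annEl_one_tmul (m : M) :
    annEl B ((1 : B) ⊗ₜ[A] m) = (annEl A m).map (algebraMap A B) := by
  let q : A ⧸ annEl A m →ₗ[A] M := Submodule.liftQ _ (LinearMap.toSpanSingleton A M m) fun r hr => by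
    rw [LinearMap.mem_ker, LinearMap.toSpanSingleton_apply]
    exact mem_annEl.1 hr
  have hq : Function.Injective q := by
    rw [← LinearMap.ker_eq_bot]
    refine Submodule.ker_liftQ_eq_bot _ _ _ fun r hr => mem_annEl.2 ?_
    rwa [LinearMap.mem_ker, LinearMap.toSpanSingleton_apply] at hr
  let Q : B ⊗[A] (A ⧸ annEl A m) →ₗ[B] B ⊗[A] M := q.baseChange B
  have hQ : Function.Injective Q := fun a b hab =>
    Module.Flat.lTensor_preserves_injective_linearMap q hq hab
  let one : B ⊗[A] (A ⧸ annEl A m) := (1 : B) ⊗ₜ Submodule.Quotient.mk (1 : A)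
  have hone : Q one = (1 : B) ⊗ₜ[A] m := by
    show (1 : B) ⊗ₜ[A] ((1 : A) • m) = _
    rw [one_smul]
  rw [← hone, annEl_map_of_injective Q hQ]
  let e := (Algebra.TensorProduct.quotIdealMapEquivTensorQuot B (annEl A m)).symm
  ext b
  rw [mem_annEl, ← Ideal.Quotient.eq_zero_iff_mem]
  have h1 : e (b • one) = Ideal.Quotient.mk _ b := by
    simp only [one, e, TensorProduct.smul_tmul', smul_eq_mul, mul_one]
    rw [AlgEquiv.symm_apply_eq, Algebra.TensorProduct.quotIdealMapEquivTensorQuot_mk]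
    rfl
  rw [← h1, EmbeddingLike.map_eq_zero_iff]

theorem mem_weakAss_under (m : M) (t : Ideal B) (ht : t ∈ (annEl B ((1 : B) ⊗ₜ[A] m)).minimalPrimes) :
    t.comap (algebraMap A B) ∈ FlatCA.weakAss A M := by
  rw [annEl_one_tmul] at ht
  have := ht.1.1
  refine mem_weakAss_iff.2 ⟨m, ⟨inferInstance, Ideal.map_le_iff_le_comap.1 ht.1.2⟩, fun p hp hle => ?_⟩
  have := hp.1
  have : t.LiesOver (t.comap (algebraMap A B)) := ⟨rfl⟩
  obtain ⟨P, hPt, hP, hPp⟩ := t.exists_ideal_le_liesOver_of_le (p := p) (q := t.comap (algebraMap A B)) hle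
  have h2 : t ≤ P := ht.2 ⟨hP, Ideal.map_le_iff_le_comap.2 (hp.2.trans hPp.over.le)⟩ hPt
  exact (Ideal.comap_mono h2).trans hPp.over.ge

end flat

variable {k K R : Type u} [Field k] [Field K] [Algebra k K] [CommRing R] [Algebra k R]
  (RK : Type u) [CommRing RK] [Algebra k RK] [Algebra K RK] [Algebra R RK] [IsScalarTower k K RK]
  [IsScalarTower k R RK]

/-- The map from `R ⊗ T`. -/
noncomputable def liftT (T : Type u) [CommRing T] [Algebra k T] [Algebra T K] [IsScalarTower k T K] :
    R ⊗[k] T →ₐ[R] RK :=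
  Algebra.TensorProduct.lift (Algebra.ofId R RK)
    ((IsScalarTower.toAlgHom k K RK).comp (IsScalarTower.toAlgHom k T K)) fun _ _ => Commute.all _ _

theorem liftT_tmul (T : Type u) [CommRing T] [Algebra k T] [Algebra T K] [IsScalarTower k T K] (r : R) (t : T) :
    liftT (K := K) RK T (r ⊗ₜ[k] t) = algebraMap R RK r * algebraMap K RK (algebraMap T K t) := by
  simp [liftT, Algebra.ofId_apply]

/-- The map from `R ⊗ k[s]`. -/
noncomputable abbrev incl (s : Finset K) : R ⊗[k] ↥(Algebra.adjoin k (s : Set K)) →ₐ[R] RK :=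
  liftT (K := K) RK ↥(Algebra.adjoin k (s : Set K))

variable [Algebra.IsPushout k K R RK]

theorem flat_of_isPushout (T A : Type u) [CommRing T] [IsDomain T] [CommRing A] [Algebra k T] [Algebra T K]
    [IsScalarTower k T K] [FaithfulSMul T K] [Algebra R A] [Algebra k A] [IsScalarTower k R A] [Algebra T A]
    [IsScalarTower k T A] [Algebra.IsPushout k T R A] [Algebra T RK] [IsScalarTower T K RK]
    [IsScalarTower k T RK] [Algebra A RK] [IsScalarTower R A RK] [IsScalarTower T A RK] :
    Module.Flat A RK := by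
  have : IsScalarTower k A RK := IsScalarTower.of_algebraMap_eq fun c => by
    rw [IsScalarTower.algebraMap_apply k R A, ← IsScalarTower.algebraMap_apply R A RK,
      ← IsScalarTower.algebraMap_apply k R RK]
  letI := FractionRing.liftAlgebra T K
  have : IsScalarTower T (FractionRing T) K := FractionRing.isScalarTower_liftAlgebra T K
  have : Module.Flat T (FractionRing T) := IsLocalization.flat (FractionRing T) (nonZeroDivisors T)
  have : Module.Flat T K := Module.Flat.trans T (FractionRing T) K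
  have h6 : Algebra.IsPushout T K A RK := (Algebra.IsPushout.comp_iff k T R A).1 inferInstance
  exact Module.Flat.isBaseChange T A K RK h6.symm.out

theorem flat_lift (T : Type u) [CommRing T] [IsDomain T] [Algebra k T] [Algebra T K] [IsScalarTower k T K]
    [FaithfulSMul T K] : (liftT (K := K) RK T : R ⊗[k] T →ₐ[R] RK).Flat := by
  let φ : R ⊗[k] T →ₐ[R] RK := liftT (K := K) RK T
  letI : Algebra T (R ⊗[k] T) := Algebra.TensorProduct.rightAlgebra
  letI : Algebra (R ⊗[k] T) RK := φ.toRingHom.toAlgebra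
  letI : Algebra T RK := ((algebraMap K RK).comp (algebraMap T K)).toAlgebra
  have : IsScalarTower T K RK := IsScalarTower.of_algebraMap_eq fun _ => rfl
  have : IsScalarTower k T RK := IsScalarTower.of_algebraMap_eq fun c => by
    show algebraMap k RK c = algebraMap K RK (algebraMap T K (algebraMap k T c))
    rw [← IsScalarTower.algebraMap_apply k T K, ← IsScalarTower.algebraMap_apply k K RK]
  have : IsScalarTower R (R ⊗[k] T) RK := IsScalarTower.of_algebraMap_eq fun r => (φ.commutes r).symm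
  have : IsScalarTower T (R ⊗[k] T) RK := IsScalarTower.of_algebraMap_eq fun t => by
    show algebraMap K RK (algebraMap T K t) = φ (1 ⊗ₜ t)
    simp [φ, liftT_tmul]
  exact flat_of_isPushout (k := k) (K := K) (R := R) RK T (R ⊗[k] T)

/-- The generic step. -/
theorem step (T : Type u) [CommRing T] [IsDomain T] [Algebra k T] [Algebra T K] [IsScalarTower k T K]
    [FaithfulSMul T K] [Algebra.FinitePresentation k T] (M : Type u) [AddCommGroup M] [Module R M]
    (x₀ : (R ⊗[k] T) ⊗[R] M) (q : Ideal RK) [q.IsPrime]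
    (hx : q ∈ (annEl RK ((liftT (K := K) RK T : R ⊗[k] T →ₐ[R] RK).toLinearMap.rTensor M x₀)).minimalPrimes) :
    q.comap (algebraMap R RK) ∈ FlatCA.weakAss R M := by
  letI : Algebra (R ⊗[k] T) RK := (liftT (K := K) RK T : R ⊗[k] T →ₐ[R] RK).toRingHom.toAlgebra
  have : IsScalarTower R (R ⊗[k] T) RK :=
    IsScalarTower.of_algebraMap_eq fun r => ((liftT (K := K) RK T : R ⊗[k] T →ₐ[R] RK).commutes r).symm
  have : Module.Flat (R ⊗[k] T) RK := flat_lift (k := k) (K := K) RK T
  let e : RK ⊗[R ⊗[k] T] ((R ⊗[k] T) ⊗[R] M) ≃ₗ[RK] RK ⊗[R] M :=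
    AlgebraTensorModule.cancelBaseChange R (R ⊗[k] T) RK RK M
  have he : (liftT (K := K) RK T : R ⊗[k] T →ₐ[R] RK).toLinearMap.rTensor M x₀ = e ((1 : RK) ⊗ₜ[R ⊗[k] T] x₀) := by
    induction x₀ using TensorProduct.induction_on with
    | zero => simp
    | tmul a m => simp [e, RingHom.algebraMap_toAlgebra, Algebra.smul_def]
    | add a b ha hb =>
      simp only [map_add, tmul_add]
      have h1 : ∀ z, (liftT (K := K) RK T : R ⊗[k] T →ₐ[R] RK).toLinearMap.rTensor M z = e ((1 : RK) ⊗ₜ[R ⊗[k] T] z) := by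
        intro z
        induction z using TensorProduct.induction_on with
        | zero => simp
        | tmul a m => simp [e, RingHom.algebraMap_toAlgebra, Algebra.smul_def]
        | add a b ha hb => simp only [map_add, tmul_add, ha, hb]
      rw [h1 a, h1 b]
  rw [he, show e ((1 : RK) ⊗ₜ[R ⊗[k] T] x₀) = e.toLinearMap ((1 : RK) ⊗ₜ[R ⊗[k] T] x₀) from rfl,
    annEl_map_of_injective e.toLinearMap e.injective] at hx
  have hq0 := mem_weakAss_under x₀ q hx
  have : Algebra.FinitePresentation R (R ⊗[k] T) := inferInstance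
  have : (q.comap (algebraMap (R ⊗[k] T) RK)).LiesOver (q.comap (algebraMap R RK)) := ⟨by
    rw [Ideal.under_def, Ideal.comap_comap, ← IsScalarTower.algebraMap_eq R (R ⊗[k] T) RK]⟩
  exact ((Groth.Agent.S1192.result (R := R) (S := R ⊗[k] T) (R ⊗[k] T) M (q.comap (algebraMap R RK))
    (q.comap (algebraMap (R ⊗[k] T) RK))).1 hq0).1

theorem exists_mem_range_rTensor (M : Type u) [AddCommGroup M] [Module R M] (x : RK ⊗[R] M) :
    ∃ s : Finset K, x ∈ LinearMap.range
      ((incl RK s : R ⊗[k] ↥(Algebra.adjoin k (s : Set K)) →ₐ[R] RK).toLinearMap.rTensor M) := by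
  classical
  have mono : ∀ (s t : Finset K), s ⊆ t →
      ∀ y ∈ (incl RK s : R ⊗[k] ↥(Algebra.adjoin k (s : Set K)) →ₐ[R] RK).range,
        y ∈ (incl RK t : R ⊗[k] ↥(Algebra.adjoin k (t : Set K)) →ₐ[R] RK).range := by
    rintro s t hst _ ⟨z, rfl⟩
    refine ⟨Algebra.TensorProduct.map (AlgHom.id R R)
      (Subalgebra.inclusion (Algebra.adjoin_mono (Finset.coe_subset.2 hst))) z, ?_⟩
    induction z using TensorProduct.induction_on with
    | zero => simp
    | tmul a b => simp [liftT_tmul]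
    | add a b ha hb => simp only [map_add] at ha hb ⊢; rw [ha, hb]
  have hgen : ∀ r : RK, ∃ s : Finset K, r ∈ (incl RK s : R ⊗[k] ↥(Algebra.adjoin k (s : Set K)) →ₐ[R] RK).range := by
    intro r
    obtain ⟨y, rfl⟩ := (Algebra.IsPushout.equiv k K R RK).surjective r
    induction y using TensorProduct.induction_on with
    | zero => exact ⟨∅, by rw [map_zero]; exact zero_mem _⟩
    | tmul l a =>
      refine ⟨{l}, a ⊗ₜ ⟨l, Algebra.subset_adjoin (by simp)⟩, ?_⟩
      simp [liftT_tmul, Algebra.IsPushout.equiv_tmul, mul_comm, Algebra.smul_def]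
    | add a b ha hb =>
      obtain ⟨s, hs⟩ := ha
      obtain ⟨t, ht⟩ := hb
      refine ⟨s ∪ t, ?_⟩
      rw [map_add]
      exact add_mem (mono s _ Finset.subset_union_left _ hs) (mono t _ Finset.subset_union_right _ ht)
  have mono' : ∀ (s t : Finset K), s ⊆ t → ∀ y ∈ LinearMap.range
      ((incl RK s : R ⊗[k] ↥(Algebra.adjoin k (s : Set K)) →ₐ[R] RK).toLinearMap.rTensor M),
      y ∈ LinearMap.range
      ((incl RK t : R ⊗[k] ↥(Algebra.adjoin k (t : Set K)) →ₐ[R] RK).toLinearMap.rTensor M) := by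
    rintro s t hst _ ⟨z, rfl⟩
    induction z using TensorProduct.induction_on with
    | zero => rw [map_zero]; exact zero_mem _
    | tmul a m =>
      obtain ⟨b, hb⟩ := mono s t hst _ ⟨a, rfl⟩
      exact ⟨b ⊗ₜ m, congrArg (fun w => w ⊗ₜ[R] m) hb⟩
    | add a b ha hb => rw [map_add]; exact add_mem ha hb
  induction x using TensorProduct.induction_on with
  | zero => exact ⟨∅, zero_mem _⟩
  | tmul r m =>
    obtain ⟨s, a, ha⟩ := hgen r
    exact ⟨s, a ⊗ₜ m, congrArg (fun w => w ⊗ₜ[R] m) ha⟩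
  | add a b ha hb =>
    obtain ⟨s, hs⟩ := ha
    obtain ⟨t, ht⟩ := hb
    exact ⟨s ∪ t, add_mem (mono' s _ Finset.subset_union_left _ hs) (mono' t _ Finset.subset_union_right _ ht)⟩

variable (k K) in
include k K in
theorem comap_mem_weakAss (M : Type u) [AddCommGroup M] [Module R M] (MK : Type u) [AddCommGroup MK]
    [Module RK MK] [Module R MK] [IsScalarTower R RK MK] (f : M →ₗ[R] MK) (hf : IsBaseChange RK f)
    (q : Ideal RK) [q.IsPrime] (hq : q ∈ FlatCA.weakAss RK MK) :
    q.comap (algebraMap R RK) ∈ FlatCA.weakAss R M := by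
  obtain ⟨x, hx⟩ := mem_weakAss_iff.1 hq
  obtain ⟨x', rfl⟩ := hf.equiv.surjective x
  rw [show hf.equiv x' = hf.equiv.toLinearMap x' from rfl,
    annEl_map_of_injective hf.equiv.toLinearMap hf.equiv.injective] at hx
  obtain ⟨s, x₀, rfl⟩ := exists_mem_range_rTensor (k := k) (K := K) RK M x'
  have : Algebra.FinitePresentation k ↥(Algebra.adjoin k (s : Set K)) :=
    Algebra.FinitePresentation.of_finiteType.1 ((Subalgebra.fg_iff_finiteType _).1 ⟨s, rfl⟩)
  exact step (k := k) (K := K) RK ↥(Algebra.adjoin k (s : Set K)) M x₀ q hx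

end Groth.Agent.CAlgH39.WeakAssField
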